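import Mathlib
import Groth.Agent.H15.FFR

/-!
# Finite free resolutions: projective modules with a finite free resolution are stably free;
finite modules of finite projective dimension over a Noetherian local ring have finite free
resolutions.
-/

set_option autoImplicit false

namespace Groth.Agent.H56.FFRStablyFree

universe u

open Groth.Agent.H15.FFR CategoryTheory

variable {S : Type u} [CommRing S]

/-- A projective module with a finite free resolution is stably free. -/
theorem exists_prod_equiv_of_hasFFR_of_projective :
    ∀ (e : ℕ) {M : Type u} [AddCommGroup M] [Module S M] {χ : ℤ},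
      HasFFR S e M χ → Module.Projective S M →
      ∃ (G G' : Type u) (_ : AddCommGroup G) (_ : Module S G) (_ : Module.Free S G)
        (_ : Module.Finite S G) (_ : AddCommGroup G') (_ : Module S G') (_ : Module.Free S G')
        (_ : Module.Finite S G'), Nonempty ((M × G) ≃ₗ[S] G')
  | 0, M, _, _, χ, h, _ => by
    obtain ⟨h1, h2, -⟩ := h
    exact ⟨PUnit.{u+1}, M, inferInstance, inferInstance, inferInstance, inferInstance,
      inferInstance, inferInstance, h1, h2, ⟨LinearEquiv.prodUnique⟩⟩
  | e + 1, M, _, _, χ, h, hM => by
    obtain ⟨F, i1, i2, i3, i4, g, hg, hK⟩ := h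
    obtain ⟨s, hs⟩ := Module.projective_lifting_property g LinearMap.id hg
    -- F ≃ ker g × M
    have hex : Function.Exact (LinearMap.ker g).subtype g := LinearMap.exact_subtype_ker_map g
    obtain ⟨eF, heF1, heF2⟩ := (hex.splitSurjectiveEquiv Subtype.val_injective) ⟨s, hs⟩
    -- ker g is projective
    have hKproj : Module.Projective S (LinearMap.ker g) := by
      refine Module.Projective.of_split (LinearMap.ker g).subtype
        (LinearMap.fst S _ _ ∘ₗ eF.toLinearMap) ?_
      rw [heF1]
      ext x
      simp
    obtain ⟨G, G', j1, j2, j3, j4, j5, j6, j7, j8, ⟨e1⟩⟩ :=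
      exists_prod_equiv_of_hasFFR_of_projective e hK hKproj
    refine ⟨G', F × G, j5, j6, j7, j8, inferInstance, inferInstance, inferInstance, inferInstance,
      ⟨?_⟩⟩
    exact (LinearEquiv.prodCongr (LinearEquiv.refl S M) e1.symm).trans
      ((LinearEquiv.prodAssoc S M (LinearMap.ker g) G).symm.trans
        (LinearEquiv.prodCongr ((LinearEquiv.prodComm S M (LinearMap.ker g)).trans eF.symm)
          (LinearEquiv.refl S G)))

variable {R : Type u} [CommRing R] [IsLocalRing R] [IsNoetherianRing R]

/-- Over a Noetherian local ring, a finite module of finite projective dimension has a finite free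
resolution. -/
theorem hasFFR_of_hasProjectiveDimensionLT :
    ∀ (n : ℕ) (M : Type u) [AddCommGroup M] [Module R M] [Module.Finite R M],
      HasProjectiveDimensionLT (ModuleCat.of R M) (n + 1) → ∃ χ : ℤ, HasFFR R n M χ
  | 0, M, _, _, _, h => by
    have hP : Module.Projective R M := by
      rw [IsProjective.iff_projective]
      exact projective_iff_hasProjectiveDimensionLT_one.mpr h
    have hF : Module.Free R M := Module.free_of_flat_of_isLocalRing
    exact ⟨_, hF, inferInstance, rfl⟩
  | n + 1, M, _, _, _, h => by
    obtain ⟨a, f, hf⟩ := Module.Finite.exists_fin' R M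
    have hP : Projective (ModuleCat.of R (Fin a → R)) :=
      (IsProjective.iff_projective (Fin a → R)).mp inferInstance
    have hK : HasProjectiveDimensionLT (ModuleCat.of R (LinearMap.ker f)) (n + 1) :=
      ((LinearMap.shortExact_shortComplexKer hf).hasProjectiveDimensionLT_X₃_iff n hP).mp h
    obtain ⟨χ', hχ'⟩ := hasFFR_of_hasProjectiveDimensionLT n (LinearMap.ker f) hK
    refine ⟨(Module.finrank R (Fin a → R) : ℤ) - χ', (Fin a → R), inferInstance, inferInstance,
      inferInstance, inferInstance, f, hf, ?_⟩
    rw [sub_sub_cancel]
    exact hχ'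

end Groth.Agent.H56.FFRStablyFree
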