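import Mathlib

/-!
# A stably free ideal is principal

If `P` is an ideal of a commutative ring `S` with `P × F ≃ S × F` for a finite free module `F`,
then `P` is principal (generated by a determinant).  If `P` contains a nonzerodivisor and
`P × G ≃ G'` with `G`, `G'` finite free, then `P` is principal.
-/

set_option autoImplicit false

namespace Groth.Agent.H56.StablyFreeIdeal

universe u v

variable {S : Type u} [CommRing S]

/-- `P ⊕ F ≅ S ⊕ F` with `F` finite free implies `P` principal. -/
theorem isPrincipal_of_prod_equiv [Nontrivial S] (P : Ideal S) {F : Type v} [AddCommGroup F] [Module S F]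
    [Module.Free S F] [Module.Finite S F] (e : (P × F) ≃ₗ[S] (S × F)) :
    P.IsPrincipal := by
  classical
  -- the endomorphism θ of N = S × F with image P × F
  let ι : (P × F) →ₗ[S] (S × F) := LinearMap.prodMap P.subtype LinearMap.id
  let θ : (S × F) →ₗ[S] (S × F) := ι ∘ₗ e.symm.toLinearMap
  let d : S := LinearMap.det θ
  have hθ : ∀ y, (θ y).1 ∈ P := by
    intro y
    exact (e.symm y).1.2
  -- d ∈ P using the adjugate
  have hd : d ∈ P := by
    let b := Module.Free.chooseBasis S (S × F)
    let A := LinearMap.toMatrix b b θ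
    let adj : (S × F) →ₗ[S] (S × F) := Matrix.toLin b b A.adjugate
    have hcomp : θ ∘ₗ adj = d • LinearMap.id := by
      have h1 : θ = Matrix.toLin b b A := (Matrix.toLin_toMatrix b b θ).symm
      rw [h1]
      change Matrix.toLin b b A ∘ₗ Matrix.toLin b b A.adjugate = _
      rw [← Matrix.toLin_mul, Matrix.mul_adjugate]
      have hdet : A.det = d := LinearMap.det_toMatrix b θ
      rw [hdet]
      rw [map_smul, Matrix.toLin_one]
    have h2 : θ (adj (1, 0)) = d • ((1 : S), (0 : F)) := by
      have := LinearMap.congr_fun hcomp (1, 0)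
      simpa using this
    have h3 := hθ (adj (1, 0))
    rw [h2] at h3
    simpa using h3
  refine ⟨⟨d, ?_⟩⟩
  apply le_antisymm
  · intro p hp
    -- σ_p = θ ∘ τ
    let σ : (S × F) →ₗ[S] (S × F) := LinearMap.prodMap (LinearMap.lsmul S S p) LinearMap.id
    let τ0 : (S × F) →ₗ[S] (P × F) :=
      LinearMap.prodMap (LinearMap.toSpanSingleton S P ⟨p, hp⟩) LinearMap.id
    let τ : (S × F) →ₗ[S] (S × F) := e.toLinearMap ∘ₗ τ0
    have hστ : σ = θ ∘ₗ τ := by
      apply LinearMap.ext
      rintro ⟨s, f⟩
      simp [σ, θ, τ, τ0, ι, LinearMap.toSpanSingleton_apply, mul_comm]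
    have hdetσ : LinearMap.det σ = p := by
      simp only [σ]
      rw [LinearMap.det_prodMap, LinearMap.det_id, mul_one]
      have : LinearMap.lsmul S S p = p • (LinearMap.id : S →ₗ[S] S) := by
        ext; simp
      rw [this, LinearMap.det_smul, LinearMap.det_id, Module.finrank_self]
      simp
    have : p = d * LinearMap.det τ := by
      rw [← hdetσ, hστ, LinearMap.det_comp]
    rw [Submodule.mem_span_singleton]
    exact ⟨LinearMap.det τ, by rw [this]; simp [mul_comm]⟩
  · rw [Submodule.span_singleton_le_iff_mem]
    exact hd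

/-- Rank count: if `P` contains a nonzerodivisor and `P × G ≃ G'` with `G`, `G'` finite free over a
nontrivial ring, then `finrank G' = finrank G + 1`. -/
theorem finrank_eq_of_prod_equiv [Nontrivial S] (P : Ideal S) {p : S} (hp : p ∈ P)
    (hp0 : p ∈ nonZeroDivisors S)
    {G : Type v} [AddCommGroup G] [Module S G] [Module.Free S G] [Module.Finite S G]
    {G' : Type v} [AddCommGroup G'] [Module S G'] [Module.Free S G'] [Module.Finite S G']
    (e : (P × G) ≃ₗ[S] G') :
    Module.finrank S G' = Module.finrank S G + 1 := by
  apply le_antisymm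
  · -- G' ≃ P × G ↪ S × G
    let ι : (P × G) →ₗ[S] (S × G) := LinearMap.prodMap P.subtype LinearMap.id
    have hι : Function.Injective ι := by
      rintro ⟨a, b⟩ ⟨a', b'⟩ h
      simp only [ι, LinearMap.prodMap_apply, Prod.mk.injEq, Submodule.subtype_apply,
        LinearMap.id_coe, id_eq] at h
      exact Prod.ext (Subtype.ext h.1) h.2
    have := LinearMap.finrank_le_finrank_of_injective (f := ι ∘ₗ e.symm.toLinearMap)
      (hι.comp e.symm.injective)
    rw [Module.finrank_prod, Module.finrank_self] at this
    omega
  · let τ0 : (S × G) →ₗ[S] (P × G) :=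
      LinearMap.prodMap (LinearMap.toSpanSingleton S P ⟨p, hp⟩) LinearMap.id
    have hτ : Function.Injective τ0 := by
      rintro ⟨a, b⟩ ⟨a', b'⟩ h
      simp only [τ0, LinearMap.prodMap_apply, Prod.mk.injEq, LinearMap.toSpanSingleton_apply,
        LinearMap.id_coe, id_eq] at h
      refine Prod.ext ?_ h.2
      have h1 := congrArg Subtype.val h.1
      simp only [Submodule.coe_smul, smul_eq_mul] at h1
      exact (mul_cancel_right_mem_nonZeroDivisors hp0).mp h1
    have := LinearMap.finrank_le_finrank_of_injective (f := e.toLinearMap ∘ₗ τ0)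
      (e.injective.comp hτ)
    rw [Module.finrank_prod, Module.finrank_self] at this
    omega

/-- A stably free ideal containing a nonzerodivisor is principal. -/
theorem isPrincipal_of_stablyFree [Nontrivial S] (P : Ideal S) {p : S} (hp : p ∈ P)
    (hp0 : p ∈ nonZeroDivisors S)
    {G : Type v} [AddCommGroup G] [Module S G] [Module.Free S G] [Module.Finite S G]
    {G' : Type v} [AddCommGroup G'] [Module S G'] [Module.Free S G'] [Module.Finite S G']
    (e : (P × G) ≃ₗ[S] G') : P.IsPrincipal := by
  have hrk := finrank_eq_of_prod_equiv P hp hp0 e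
  have e' : G' ≃ₗ[S] (S × G) := by
    apply LinearEquiv.ofFinrankEq
    rw [Module.finrank_prod, Module.finrank_self, hrk, add_comm]
  exact isPrincipal_of_prod_equiv P (e.trans e')

end Groth.Agent.H56.StablyFreeIdeal
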