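import Mathlib
import Groth.Agent.Lead.RegularLocalization
import Groth.Agent.H15.FFR
import Groth.Agent.H56.StablyFreeIdeal
import Groth.Agent.H56.FFRStablyFree

/-!
# Auslander–Buchsbaum: a regular local ring is a unique factorisation domain

Proof: induction on the dimension.  Pick `x ∈ 𝔪 ∖ 𝔪²`; it is a prime element (the quotient is regular,
hence a domain), so by Nagata's criterion it suffices that `S = R_x` is a UFD, i.e. that every
height-one prime `P` of `S` is principal.  `P` is locally principal (the local rings of `S` are
regular local rings of smaller dimension, UFDs by induction), hence projective; it has a finite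
free resolution (`R` has finite global dimension), hence is stably free; a stably free ideal is
principal (determinant argument).
-/

set_option autoImplicit false

namespace Groth.Agent.H56.AusBuchUFD

universe u

open IsLocalRing CategoryTheory Groth.Agent.H15.FFR Groth.Agent.Lead.RLR

/-- a principal ideal of a domain is a projective module -/
theorem projective_of_isPrincipal {A : Type u} [CommRing A] [IsDomain A] (I : Ideal A)
    (h : I.IsPrincipal) : Module.Projective A I := by
  obtain ⟨g, rfl⟩ := h
  by_cases hg : g = 0
  · subst hg
    have : Subsingleton ↥(Submodule.span A {(0 : A)}) := by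
      rw [Submodule.span_zero_singleton]
      infer_instance
    infer_instance
  · exact Module.Projective.of_equiv (LinearEquiv.toSpanNonzeroSingleton A A g hg)

/-- In a regular local ring of positive dimension there is a prime element in the maximal ideal. -/
theorem exists_prime_mem_maximalIdeal (R : Type u) [CommRing R] [IsRegularLocalRing R] (d : ℕ)
    (hd : ringKrullDim R = (d + 1 : ℕ)) : ∃ x : R, x ∈ maximalIdeal R ∧ Prime x := by
  classical
  obtain ⟨x, hx⟩ := exists_fin_span_eq R (d + 1) hd
  let t : Finset R := (Finset.univ.filter (fun i : Fin (d + 1) => i ≠ 0)).image x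
  have hsf : (maximalIdeal R).spanFinrank = d + 1 := by
    have := ringKrullDim_eq_spanFinrank R
    rw [hd] at this
    exact_mod_cast this.symm
  have hspan : Ideal.span (insert (x 0) (t : Set R)) = maximalIdeal R := by
    rw [← hx]
    congr 1
    ext y
    simp only [Set.mem_insert_iff, Finset.coe_image, Finset.coe_filter, Finset.mem_univ, true_and,
      Set.mem_image, Set.mem_setOf_eq, Set.mem_range, t]
    constructor
    · rintro (rfl | ⟨i, -, rfl⟩)
      · exact ⟨0, rfl⟩
      · exact ⟨i, rfl⟩
    · rintro ⟨i, rfl⟩
      by_cases hi : i = 0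
      · left; rw [hi]
      · right; exact ⟨i, hi, rfl⟩
  have hcard : t.card + 1 ≤ (maximalIdeal R).spanFinrank := by
    rw [hsf]
    have h1 : t.card ≤ (Finset.univ.filter (fun i : Fin (d + 1) => i ≠ 0)).card :=
      Finset.card_image_le
    have h2 : (Finset.univ.filter (fun i : Fin (d + 1) => i ≠ 0)).card = d := by
      rw [Finset.filter_ne' Finset.univ (0 : Fin (d + 1)), Finset.card_erase_of_mem (Finset.mem_univ _)]
      simp
    omega
  obtain ⟨hreg, hdim, -⟩ := quotient_regular R (x 0) t hspan hcard
  have hxm : x 0 ∈ maximalIdeal R := by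
    rw [← hx]
    exact Ideal.subset_span ⟨0, rfl⟩
  refine ⟨x 0, hxm, ?_⟩
  have hx0 : x 0 ≠ 0 := by
    intro h0
    rw [h0] at hdim
    have e : (R ⧸ Ideal.span {(0 : R)}) ≃+* R := by
      rw [Ideal.span_singleton_zero]  -- placeholder
      exact RingEquiv.quotientBot R
    rw [ringKrullDim_eq_of_ringEquiv e, hd] at hdim
    have : ((d + 1 : ℕ) : WithBot ℕ∞) + 1 = ((d + 1 + 1 : ℕ) : WithBot ℕ∞) := by norm_cast
    rw [this] at hdim
    have : d + 1 + 1 = d + 1 := by exact_mod_cast hdim
    omega
  rw [← Ideal.span_singleton_prime hx0]
  haveI := hreg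
  haveI : IsDomain (R ⧸ Ideal.span {x 0}) := isDomain _
  exact (Ideal.Quotient.isDomain_iff_prime _).mp inferInstance

/-- A locally principal ideal of a Noetherian domain is projective. -/
theorem projective_of_locally_principal {S : Type u} [CommRing S] [IsDomain S] [IsNoetherianRing S]
    (P : Ideal S)
    (H : ∀ (Q : Ideal S) [Q.IsMaximal],
      (P.map (algebraMap S (Localization.AtPrime Q))).IsPrincipal) :
    Module.Projective S P := by
  haveI : Module.FinitePresentation S P := Module.finitePresentation_of_finite S P
  refine Module.projective_of_localization_maximal'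
    (Rₚ := fun Q _ => Localization.AtPrime Q)
    (Mₚ := fun Q _ => ↥(Submodule.localized' (Localization.AtPrime Q) Q.primeCompl
      (Algebra.linearMap S (Localization.AtPrime Q)) P))
    (f := fun Q _ => Submodule.toLocalized' (Localization.AtPrime Q) Q.primeCompl
      (Algebra.linearMap S (Localization.AtPrime Q)) P) ?_
  intro Q hQ
  have heq : Submodule.localized' (Localization.AtPrime Q) Q.primeCompl
      (Algebra.linearMap S (Localization.AtPrime Q)) P =
      P.map (algebraMap S (Localization.AtPrime Q)) := Ideal.localized'_eq_map _ _ _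
  haveI := projective_of_isPrincipal _ (H Q)
  exact Module.Projective.of_equiv (LinearEquiv.ofEq _ _ heq.symm)

/-- Local rings of `R_x` are regular local rings of smaller dimension. -/
theorem ufd_localization_away_atPrime (d : ℕ)
    (IH : ∀ d' < d, ∀ (A : Type u) [CommRing A] [IsRegularLocalRing A],
      ringKrullDim A = (d' : ℕ) → UniqueFactorizationMonoid A)
    (R : Type u) [CommRing R] [IsRegularLocalRing R] (hd : ringKrullDim R = (d : ℕ)) (x : R)
    (hx : x ∈ maximalIdeal R) (Q : Ideal (Localization.Away x)) [Q.IsPrime] :
    UniqueFactorizationMonoid (Localization.AtPrime Q) := by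
  let S := Localization.Away x
  let q : Ideal R := Q.comap (algebraMap R S)
  haveI : q.IsPrime := Ideal.comap_isPrime _ _
  haveI : IsLocalization.AtPrime (Localization.AtPrime Q) q :=
    IsLocalization.isLocalization_isLocalization_atPrime_isLocalization (Submonoid.powers x)
      (Localization.AtPrime Q) Q
  let e : Localization.AtPrime q ≃ₐ[R] Localization.AtPrime Q :=
    IsLocalization.algEquiv q.primeCompl _ _
  haveI : IsRegularLocalRing (Localization.AtPrime q) := isRegularLocalRing_localization R q
  have hxq : x ∉ q := by
    intro hxq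
    have h1 : algebraMap R S x ∈ Q := hxq
    have h2 : IsUnit (algebraMap R S x) := IsLocalization.Away.algebraMap_isUnit x
    exact (Ideal.IsPrime.ne_top inferInstance) (Ideal.eq_top_of_isUnit_mem _ h1 h2)
  have hlt : q < maximalIdeal R := by
    refine lt_of_le_of_ne (le_maximalIdeal (Ideal.IsPrime.ne_top inferInstance)) ?_
    intro h
    exact hxq (h ▸ hx)
  have hht : q.height < (maximalIdeal R).height := Ideal.height_strict_mono_of_isPrime hlt
  obtain ⟨d', hd', -⟩ := exists_ringKrullDim_eq (Localization.AtPrime q)
  have hd'' : d' < d := by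
    have h1 : ringKrullDim (Localization.AtPrime q) = q.height :=
      IsLocalization.AtPrime.ringKrullDim_eq_height q _
    have h2 : ((maximalIdeal R).height : WithBot ℕ∞) = ringKrullDim R :=
      maximalIdeal_height_eq_ringKrullDim
    rw [hd'] at h1
    rw [hd] at h2
    have h3 : q.height = (d' : ℕ∞) := by exact_mod_cast h1.symm
    have h4 : (maximalIdeal R).height = (d : ℕ∞) := by exact_mod_cast h2
    rw [h3, h4] at hht
    exact_mod_cast hht
  exact MulEquiv.uniqueFactorizationMonoid e.toMulEquiv (IH d' hd'' _ hd')

/-- Height-one primes of `R_x` are principal (given the theorem in smaller dimensions). -/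
theorem isPrincipal_of_height_eq_one (d : ℕ)
    (IH : ∀ d' < d, ∀ (A : Type u) [CommRing A] [IsRegularLocalRing A],
      ringKrullDim A = (d' : ℕ) → UniqueFactorizationMonoid A)
    (R : Type u) [CommRing R] [IsRegularLocalRing R] (hd : ringKrullDim R = (d : ℕ)) (x : R)
    (hx : x ∈ maximalIdeal R) (hx0 : x ≠ 0)
    (P : Ideal (Localization.Away x)) [P.IsPrime] (h1 : P.height = 1) : P.IsPrincipal := by
  haveI : IsDomain R := isDomain R
  let S := Localization.Away x
  haveI : IsDomain S := IsLocalization.Away.isDomain S hx0
  haveI : IsNoetherianRing S := IsLocalization.isNoetherianRing (Submonoid.powers x) S inferInstance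
  -- `P` is projective
  have hproj : Module.Projective S P := by
    apply projective_of_locally_principal
    intro Q hQ
    haveI := ufd_localization_away_atPrime d IH R hd x hx Q
    by_cases hPQ : P ≤ Q
    · have hdisj : Disjoint (Q.primeCompl : Set S) (P : Set S) := by
        rw [Set.disjoint_left]
        intro a ha haP
        exact ha (hPQ haP)
      haveI : (P.map (algebraMap S (Localization.AtPrime Q))).IsPrime :=
        IsLocalization.isPrime_of_isPrime_disjoint Q.primeCompl _ P inferInstance hdisj
      apply UniqueFactorizationMonoid.isPrincipal_of_height_eq_one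
      rw [← IsLocalization.height_under Q.primeCompl,
        IsLocalization.under_map_of_isPrime_disjoint Q.primeCompl _ inferInstance hdisj, h1]
    · obtain ⟨a, haP, haQ⟩ := Set.not_subset.mp hPQ
      have : P.map (algebraMap S (Localization.AtPrime Q)) = ⊤ :=
        Ideal.eq_top_of_isUnit_mem _ (Ideal.mem_map_of_mem _ haP)
          (IsLocalization.map_units (Localization.AtPrime Q) (⟨a, haQ⟩ : Q.primeCompl))
      rw [this]
      infer_instance
  -- `P` has a finite free resolution
  let p : Ideal R := P.comap (algebraMap R S)
  have hmap : p.map (algebraMap R S) = P := IsLocalization.map_comap (Submonoid.powers x) S P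
  obtain ⟨χ, hχ⟩ := Groth.Agent.H56.FFRStablyFree.hasFFR_of_hasProjectiveDimensionLT d p
    (hasProjectiveDimensionLT R d hd (ModuleCat.of R p))
  have hχS : HasFFR S d (TensorProduct R S p) χ := HasFFR.baseChange S d hχ
  have hbc : IsBaseChange S (Submodule.toLocalized' S (Submonoid.powers x)
      (Algebra.linearMap R S) p) := IsLocalizedModule.isBaseChange (Submonoid.powers x) S _
  have heq : Submodule.localized' S (Submonoid.powers x) (Algebra.linearMap R S) p = P := by
    rw [Ideal.localized'_eq_map, hmap]
  have hχP : HasFFR S d P χ :=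
    HasFFR.of_equiv d (hbc.equiv.trans (LinearEquiv.ofEq _ _ heq)) hχS
  -- stably free
  obtain ⟨G, G', j1, j2, j3, j4, j5, j6, j7, j8, ⟨e⟩⟩ :=
    Groth.Agent.H56.FFRStablyFree.exists_prod_equiv_of_hasFFR_of_projective d hχP hproj
  have hPbot : P ≠ ⊥ := Ideal.ne_bot_of_height_eq_one h1
  obtain ⟨a, haP, ha0⟩ := Submodule.exists_mem_ne_zero_of_ne_bot hPbot
  exact Groth.Agent.H56.StablyFreeIdeal.isPrincipal_of_stablyFree P haP
    (mem_nonZeroDivisors_of_ne_zero ha0) e

/-- **Auslander–Buchsbaum**, by induction on the dimension. -/
theorem uniqueFactorizationMonoid_aux : ∀ (d : ℕ) (R : Type u) [CommRing R] [IsRegularLocalRing R],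
    ringKrullDim R = (d : ℕ) → UniqueFactorizationMonoid R := by
  intro d
  induction d using Nat.strong_induction_on with
  | _ d IH =>
    intro R _ _ hd
    haveI : IsDomain R := isDomain R
    rcases Nat.eq_zero_or_pos d with rfl | hpos
    · apply UniqueFactorizationMonoid.of_forall_isPrincipal_of_height_eq_one
      intro p hp h1
      exfalso
      have h2 := Ideal.height_le_ringKrullDim_of_ne_top hp.ne_top
      rw [hd, h1] at h2
      have : (1 : ℕ) ≤ 0 := by exact_mod_cast h2
      omega
    · obtain ⟨d0, rfl⟩ : ∃ d0, d = d0 + 1 := ⟨d - 1, by omega⟩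
      obtain ⟨x, hxm, hxp⟩ := exists_prime_mem_maximalIdeal R d0 hd
      rw [UniqueFactorizationMonoid.iff_localizationAway_of_prime hxp]
      haveI : IsDomain (Localization.Away x) := IsLocalization.Away.isDomain _ hxp.ne_zero
      haveI : IsNoetherianRing (Localization.Away x) :=
        IsLocalization.isNoetherianRing (Submonoid.powers x) _ inferInstance
      apply UniqueFactorizationMonoid.of_forall_isPrincipal_of_height_eq_one
      intro P hP h1
      exact isPrincipal_of_height_eq_one (d0 + 1) IH R hd x hxm hxp.ne_zero P h1

/-- **Auslander–Buchsbaum**: a regular local ring is a unique factorisation domain. -/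
theorem uniqueFactorizationMonoid (R : Type u) [CommRing R] [IsRegularLocalRing R] :
    UniqueFactorizationMonoid R := by
  obtain ⟨d, hd, -⟩ := exists_ringKrullDim_eq R
  exact uniqueFactorizationMonoid_aux d R hd

end Groth.Agent.H56.AusBuchUFD
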