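import Mathlib

/-!
# Cotangent space at a rational point via the Jacobian matrix

helper56.  For `B = k[T_1..T_n]/(F_1..F_r)` and the rational point `a`, the cotangent space of the
local ring at `a` has dimension `n - rank (∂F_i/∂T_j (a))`.
-/

set_option autoImplicit false
universe u

namespace Groth.Agent.H56.JacCot

open MvPolynomial IsLocalRing

section poly

variable {k : Type u} [Field k] {n : ℕ} (a : Fin n → k)

/-- `t_j = X_j - a_j`. -/
noncomputable def tt (j : Fin n) : MvPolynomial (Fin n) k := X j - C (a j)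

/-- The ideal `(t_1, …, t_n)`. -/
noncomputable def NN : Ideal (MvPolynomial (Fin n) k) := Ideal.span (Set.range (tt a))

theorem tt_mem (j : Fin n) : tt a j ∈ NN a := Ideal.subset_span ⟨j, rfl⟩

@[simp] theorem eval_tt (j : Fin n) : eval a (tt a j) = 0 := by simp [tt]

/-- The gradient at `a`. -/
noncomputable def grad : MvPolynomial (Fin n) k →ₗ[k] (Fin n → k) where
  toFun f j := eval a (pderiv j f)
  map_add' f g := by ext j; simp
  map_smul' c f := by ext j; simp

theorem grad_apply (f : MvPolynomial (Fin n) k) (j : Fin n) : grad a f j = eval a (pderiv j f) := rfl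

theorem grad_mul (f g : MvPolynomial (Fin n) k) :
    grad a (f * g) = eval a f • grad a g + eval a g • grad a f := by
  ext j
  simp only [grad_apply, Derivation.leibniz, Pi.add_apply, Pi.smul_apply, smul_eq_mul, map_add,
    map_mul]

theorem grad_C (c : k) : grad a (C c) = 0 := by
  ext j; simp [grad_apply]

theorem grad_tt (j : Fin n) : grad a (tt a j) = Pi.single j 1 := by
  ext i
  simp only [grad_apply, tt, map_sub, pderiv_X, pderiv_C, sub_zero]
  by_cases h : j = i
  · subst h; simp
  · simp [Pi.single_apply, h, Ne.symm h]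

theorem eval_eq_zero_of_mem_NN {f : MvPolynomial (Fin n) k} (hf : f ∈ NN a) : eval a f = 0 := by
  have : NN a ≤ RingHom.ker (eval a) := by
    rw [NN, Ideal.span_le]
    rintro _ ⟨j, rfl⟩
    exact eval_tt a j
  exact this hf

theorem grad_eq_zero_of_mem_sq {f : MvPolynomial (Fin n) k} (hf : f ∈ NN a ^ 2) : grad a f = 0 := by
  rw [pow_two] at hf
  refine Submodule.mul_induction_on hf ?_ ?_
  · intro x hx y hy
    rw [grad_mul, eval_eq_zero_of_mem_NN a hx, eval_eq_zero_of_mem_NN a hy, zero_smul, zero_smul,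
      add_zero]
  · intro x y hx hy
    rw [map_add, hx, hy, add_zero]

/-- The first-order Taylor remainder. -/
noncomputable def rem (f : MvPolynomial (Fin n) k) : MvPolynomial (Fin n) k :=
  f - C (eval a f) - ∑ j, C (grad a f j) * tt a j

theorem sum_mem_NN (c : Fin n → k) : ∑ j, C (c j) * tt a j ∈ NN a :=
  Ideal.sum_mem _ fun j _ => Ideal.mul_mem_left _ _ (tt_mem a j)

theorem rem_mul_X (f : MvPolynomial (Fin n) k) (i : Fin n) :
    rem a (f * X i) = C (a i) * rem a f + (f - C (eval a f)) * tt a i := by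
  have hg : ∀ j, grad a (f * X i) j = eval a f * (if i = j then 1 else 0) + a i * grad a f j := by
    intro j
    rw [grad_mul]
    simp only [Pi.add_apply, Pi.smul_apply, smul_eq_mul, eval_X, grad_apply, pderiv_X]
    congr 2
    by_cases h : i = j
    · subst h; simp
    · simp [Pi.single_apply, h, Ne.symm h]
  have hsum : ∑ j, C (grad a (f * X i) j) * tt a j =
      C (eval a f) * tt a i + C (a i) * ∑ j, C (grad a f j) * tt a j := by
    simp only [hg, map_add, map_mul, add_mul, Finset.sum_add_distrib, Finset.mul_sum]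
    congr 1
    · rw [Finset.sum_eq_single i]
      · simp
      · intro j _ hj
        simp [Ne.symm hj]
      · intro h; exact absurd (Finset.mem_univ i) h
    · refine Finset.sum_congr rfl fun j _ => ?_
      ring
  have ht : tt a i = X i - C (a i) := rfl
  unfold rem
  rw [hsum, map_mul, eval_X, ht, map_mul]
  ring

theorem rem_mem (f : MvPolynomial (Fin n) k) : rem a f ∈ NN a ^ 2 := by
  induction f using MvPolynomial.induction_on with
  | C c =>
    have : rem a (C c) = 0 := by simp [rem, grad_C]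
    rw [this]; exact Ideal.zero_mem _
  | add f g hf hg =>
    have : rem a (f + g) = rem a f + rem a g := by
      simp only [rem, map_add, Pi.add_apply, add_mul, Finset.sum_add_distrib]
      ring
    rw [this]; exact Ideal.add_mem _ hf hg
  | mul_X f i hf =>
    rw [rem_mul_X]
    refine Ideal.add_mem _ (Ideal.mul_mem_left _ _ hf) ?_
    have h1 : f - C (eval a f) ∈ NN a := by
      have : f - C (eval a f) = rem a f + ∑ j, C (grad a f j) * tt a j := by
        simp only [rem]; ring
      rw [this]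
      exact Ideal.add_mem _ (Ideal.pow_le_self two_ne_zero hf) (sum_mem_NN a _)
    rw [pow_two]
    exact Ideal.mul_mem_mul h1 (tt_mem a i)

theorem taylor (f : MvPolynomial (Fin n) k) :
    f = C (eval a f) + ∑ j, C (grad a f j) * tt a j + rem a f := by
  simp only [rem]; ring

theorem ker_eval_eq_NN : RingHom.ker (eval a) = NN a := by
  apply le_antisymm
  · intro f hf
    rw [RingHom.mem_ker] at hf
    rw [taylor a f, hf, map_zero, zero_add]
    exact Ideal.add_mem _ (sum_mem_NN a _) (Ideal.pow_le_self two_ne_zero (rem_mem a f))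
  · intro f hf
    exact eval_eq_zero_of_mem_NN a hf

end poly

section loc

variable {k : Type u} [Field k] {n r : ℕ} (F : Fin r → MvPolynomial (Fin n) k) (a : Fin n → k)
  (𝔪 : Ideal (MvPolynomial (Fin n) k ⧸ Ideal.span (Set.range F))) [𝔪.IsMaximal]
  (h𝔪 : 𝔪.comap (Ideal.Quotient.mk (Ideal.span (Set.range F))) = RingHom.ker (MvPolynomial.eval a))

/-- The canonical map from the polynomial ring to the local ring at the point. -/
noncomputable def psi : MvPolynomial (Fin n) k →+* Localization.AtPrime 𝔪 :=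
  (algebraMap _ (Localization.AtPrime 𝔪)).comp (Ideal.Quotient.mk (Ideal.span (Set.range F)))

theorem psi_apply (f : MvPolynomial (Fin n) k) :
    psi F 𝔪 f = algebraMap _ (Localization.AtPrime 𝔪)
      (Ideal.Quotient.mk (Ideal.span (Set.range F)) f) := rfl

theorem mk_F (i : Fin r) : Ideal.Quotient.mk (Ideal.span (Set.range F)) (F i) = 0 :=
  Ideal.Quotient.eq_zero_iff_mem.mpr (Ideal.subset_span (Set.mem_range_self i))

theorem psi_F (i : Fin r) : psi F 𝔪 (F i) = 0 := by
  rw [psi_apply, mk_F, map_zero]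

include h𝔪

theorem mk_mem_iff (f : MvPolynomial (Fin n) k) :
    Ideal.Quotient.mk (Ideal.span (Set.range F)) f ∈ 𝔪 ↔ eval a f = 0 := by
  rw [← Ideal.mem_comap, h𝔪, RingHom.mem_ker]

theorem psi_mem_iff (f : MvPolynomial (Fin n) k) :
    psi F 𝔪 f ∈ maximalIdeal (Localization.AtPrime 𝔪) ↔ eval a f = 0 := by
  rw [psi_apply, IsLocalization.AtPrime.to_map_mem_maximal_iff _ 𝔪, mk_mem_iff F a 𝔪 h𝔪]

theorem eval_F (i : Fin r) : eval a (F i) = 0 := by
  rw [← mk_mem_iff F a 𝔪 h𝔪, mk_F]
  exact 𝔪.zero_mem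

theorem eval_eq_zero_of_mem_span {f : MvPolynomial (Fin n) k}
    (hf : f ∈ Ideal.span (Set.range F)) : eval a f = 0 := by
  rw [← mk_mem_iff F a 𝔪 h𝔪, Ideal.Quotient.eq_zero_iff_mem.mpr hf]
  exact 𝔪.zero_mem

theorem maximalIdeal_eq_map :
    maximalIdeal (Localization.AtPrime 𝔪) = (NN a).map (psi F 𝔪) := by
  rw [← Localization.AtPrime.map_eq_maximalIdeal, psi, ← Ideal.map_map, ← ker_eval_eq_NN, ← h𝔪,
    Ideal.map_comap_of_surjective _ Ideal.Quotient.mk_surjective]

theorem exists_mul_mem_of_psi_mem_map (J : Ideal (MvPolynomial (Fin n) k))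
    (f : MvPolynomial (Fin n) k) (h : psi F 𝔪 f ∈ J.map (psi F 𝔪)) :
    ∃ u, eval a u ≠ 0 ∧ u * f ∈ J ⊔ Ideal.span (Set.range F) := by
  rw [psi, ← Ideal.map_map, RingHom.comp_apply,
    IsLocalization.mem_map_algebraMap_iff 𝔪.primeCompl] at h
  obtain ⟨⟨⟨y, hy⟩, s⟩, hys⟩ := h
  rw [← map_mul, IsLocalization.eq_iff_exists 𝔪.primeCompl] at hys
  obtain ⟨s', hs'⟩ := hys
  obtain ⟨u, hu⟩ := Ideal.Quotient.mk_surjective
    ((s' : MvPolynomial (Fin n) k ⧸ Ideal.span (Set.range F)) *
      (s : MvPolynomial (Fin n) k ⧸ Ideal.span (Set.range F)))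
  refine ⟨u, ?_, ?_⟩
  · rw [Ne, ← mk_mem_iff F a 𝔪 h𝔪, hu]
    exact (s' * s).2
  · have h1 : Ideal.Quotient.mk (Ideal.span (Set.range F)) (u * f) ∈
        J.map (Ideal.Quotient.mk (Ideal.span (Set.range F))) := by
      rw [map_mul, hu]
      have : (s' : MvPolynomial (Fin n) k ⧸ Ideal.span (Set.range F)) *
          (s : MvPolynomial (Fin n) k ⧸ Ideal.span (Set.range F)) *
          Ideal.Quotient.mk (Ideal.span (Set.range F)) f = s' * y := by
        rw [← hs']; ring
      rw [this]
      exact Ideal.mul_mem_left _ _ hy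
    have h2 := Ideal.mem_comap.mpr h1
    rw [Ideal.comap_map_of_surjective _ Ideal.Quotient.mk_surjective] at h2
    have h3 : Ideal.comap (Ideal.Quotient.mk (Ideal.span (Set.range F))) ⊥ =
        Ideal.span (Set.range F) := by
      rw [← RingHom.ker_eq_comap_bot, Ideal.mk_ker]
    rwa [h3] at h2

end loc

section cot

variable {k : Type u} [Field k] {n r : ℕ} (F : Fin r → MvPolynomial (Fin n) k) (a : Fin n → k)
  (𝔪 : Ideal (MvPolynomial (Fin n) k ⧸ Ideal.span (Set.range F))) [𝔪.IsMaximal]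
  (h𝔪 : 𝔪.comap (Ideal.Quotient.mk (Ideal.span (Set.range F))) = RingHom.ker (MvPolynomial.eval a))

instance : IsNoetherianRing (Localization.AtPrime 𝔪) :=
  IsLocalization.isNoetherianRing 𝔪.primeCompl _ inferInstance

theorem psi_C (c : k) : psi F 𝔪 (C c) = algebraMap k (Localization.AtPrime 𝔪) c := by
  rw [psi_apply]
  rw [IsScalarTower.algebraMap_apply k (MvPolynomial (Fin n) k ⧸ Ideal.span (Set.range F))
    (Localization.AtPrime 𝔪)]
  rfl

include h𝔪

theorem psi_sum_mem (c : Fin n → k) :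
    psi F 𝔪 (∑ j, C (c j) * tt a j) ∈ maximalIdeal (Localization.AtPrime 𝔪) :=
  (psi_mem_iff F a 𝔪 h𝔪 _).mpr (eval_eq_zero_of_mem_NN a (sum_mem_NN a c))

/-- `c ↦` class of `Σ c_j t_j` in the cotangent space. -/
noncomputable def GG (c : Fin n → k) : CotangentSpace (Localization.AtPrime 𝔪) :=
  (maximalIdeal (Localization.AtPrime 𝔪)).toCotangent
    ⟨psi F 𝔪 (∑ j, C (c j) * tt a j), psi_sum_mem F a 𝔪 h𝔪 c⟩

theorem GG_add (c d : Fin n → k) : GG F a 𝔪 h𝔪 (c + d) = GG F a 𝔪 h𝔪 c + GG F a 𝔪 h𝔪 d := by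
  unfold GG
  rw [← map_add]
  congr 1
  apply Subtype.ext
  simp only [Pi.add_apply, map_add, add_mul, Finset.sum_add_distrib, Submodule.coe_add]

theorem GG_smul (l : k) (c : Fin n → k) :
    GG F a 𝔪 h𝔪 (l • c) = algebraMap k (Localization.AtPrime 𝔪) l • GG F a 𝔪 h𝔪 c := by
  unfold GG
  rw [← map_smul]
  congr 1
  apply Subtype.ext
  simp only [Pi.smul_apply, smul_eq_mul, map_mul, Submodule.coe_smul, ← psi_C F 𝔪 l]
  rw [← map_mul, Finset.mul_sum]
  congr 1
  refine Finset.sum_congr rfl fun j _ => ?_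
  ring

/-- the rows of the Jacobian matrix at `a` -/
noncomputable def rowSpan : Submodule k (Fin n → k) :=
  Submodule.span k (Set.range fun i => grad a (F i))

theorem grad_mem_rowSpan_of_mem {h : MvPolynomial (Fin n) k}
    (hh : h ∈ Ideal.span (Set.range F)) : grad a h ∈ rowSpan F a := by
  induction hh using Submodule.span_induction with
  | mem x hx =>
    obtain ⟨i, rfl⟩ := hx
    exact Submodule.subset_span ⟨i, rfl⟩
  | zero => rw [map_zero]; exact Submodule.zero_mem _
  | add x y _ _ hx hy => rw [map_add]; exact Submodule.add_mem _ hx hy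
  | smul g x hx ih =>
    rw [smul_eq_mul, grad_mul, eval_eq_zero_of_mem_span F a 𝔪 h𝔪 hx, zero_smul, add_zero]
    exact Submodule.smul_mem _ _ ih

theorem GG_eq_zero_iff (c : Fin n → k) : GG F a 𝔪 h𝔪 c = 0 ↔ c ∈ rowSpan F a := by
  have hgrad : grad a (∑ j, C (c j) * tt a j) = c := by
    rw [map_sum]
    ext i
    simp only [grad_mul, grad_C, grad_tt, eval_C, eval_tt, smul_zero, zero_smul, add_zero,
      Finset.sum_apply, Pi.smul_apply, smul_eq_mul, Pi.single_apply]
    simp
  unfold GG
  rw [Ideal.toCotangent_eq_zero]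
  change psi F 𝔪 (∑ j, C (c j) * tt a j) ∈ maximalIdeal (Localization.AtPrime 𝔪) ^ 2 ↔ _
  rw [maximalIdeal_eq_map F a 𝔪 h𝔪, ← Ideal.map_pow]
  constructor
  · intro h
    obtain ⟨u, hu, hmem⟩ := exists_mul_mem_of_psi_mem_map F a 𝔪 h𝔪 _ _ h
    obtain ⟨g, hg, h', hh', hsum⟩ := Submodule.mem_sup.mp hmem
    have h1 : grad a (u * ∑ j, C (c j) * tt a j) = eval a u • c := by
      rw [grad_mul, hgrad, eval_eq_zero_of_mem_NN a (sum_mem_NN a c), zero_smul, add_zero]
    have h2 : grad a (u * ∑ j, C (c j) * tt a j) ∈ rowSpan F a := by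
      rw [← hsum, map_add, grad_eq_zero_of_mem_sq a hg, zero_add]
      exact grad_mem_rowSpan_of_mem F a 𝔪 h𝔪 hh'
    rw [h1] at h2
    have := Submodule.smul_mem (rowSpan F a) (eval a u)⁻¹ h2
    rwa [smul_smul, inv_mul_cancel₀ hu, one_smul] at this
  · intro hc
    clear hgrad
    induction hc using Submodule.span_induction with
    | mem x hx =>
      obtain ⟨i, rfl⟩ := hx
      have ht := taylor a (F i)
      rw [eval_F F a 𝔪 h𝔪 i, map_zero, zero_add] at ht
      have : psi F 𝔪 (∑ j, C (grad a (F i) j) * tt a j) = psi F 𝔪 (-rem a (F i)) := by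
        have h0 := congrArg (psi F 𝔪) ht
        rw [psi_F, map_add] at h0
        rw [map_neg]
        exact eq_neg_of_add_eq_zero_left h0.symm
      rw [this]
      exact Ideal.mem_map_of_mem _ (Ideal.neg_mem_iff _ |>.mpr (rem_mem a (F i)))
    | zero => simp
    | add x y _ _ hx hy =>
      simp only [Pi.add_apply, map_add, add_mul, Finset.sum_add_distrib]
      exact Ideal.add_mem _ hx hy
    | smul l x _ hx =>
      have : ∑ j, C ((l • x) j) * tt a j = C l * ∑ j, C (x j) * tt a j := by
        rw [Finset.mul_sum]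
        refine Finset.sum_congr rfl fun j _ => ?_
        simp only [Pi.smul_apply, smul_eq_mul, map_mul]; ring
      rw [this, map_mul]
      exact Ideal.mul_mem_left _ _ hx

end cot

section main

variable {k : Type u} [Field k] {n r : ℕ} (F : Fin r → MvPolynomial (Fin n) k) (a : Fin n → k)
  (𝔪 : Ideal (MvPolynomial (Fin n) k ⧸ Ideal.span (Set.range F))) [𝔪.IsMaximal]
  (h𝔪 : 𝔪.comap (Ideal.Quotient.mk (Ideal.span (Set.range F))) = RingHom.ker (MvPolynomial.eval a))

theorem res_smul (c : k) (w : CotangentSpace (Localization.AtPrime 𝔪)) :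
    algebraMap k (ResidueField (Localization.AtPrime 𝔪)) c • w =
      algebraMap k (Localization.AtPrime 𝔪) c • w := by
  have h0 : algebraMap k (ResidueField (Localization.AtPrime 𝔪)) c =
      residue (Localization.AtPrime 𝔪) (algebraMap k (Localization.AtPrime 𝔪) c) := rfl
  have h1 : residue (Localization.AtPrime 𝔪) (algebraMap k (Localization.AtPrime 𝔪) c) =
      (algebraMap k (Localization.AtPrime 𝔪) c) •
        (1 : ResidueField (Localization.AtPrime 𝔪)) := by
    rw [residue_def, ← Ideal.Quotient.algebraMap_eq, Algebra.algebraMap_eq_smul_one]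
    rfl
  rw [h0, h1, smul_assoc, one_smul]

theorem residue_smul (o : Localization.AtPrime 𝔪)
    (w : CotangentSpace (Localization.AtPrime 𝔪)) :
    residue (Localization.AtPrime 𝔪) o • w = o • w := by
  have h1 : residue (Localization.AtPrime 𝔪) o =
      o • (1 : ResidueField (Localization.AtPrime 𝔪)) := by
    rw [residue_def, ← Ideal.Quotient.algebraMap_eq, Algebra.algebraMap_eq_smul_one]
    rfl
  rw [h1, smul_assoc, one_smul]

include h𝔪

theorem residue_psi (f : MvPolynomial (Fin n) k) :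
    residue (Localization.AtPrime 𝔪) (psi F 𝔪 f) =
      algebraMap k (ResidueField (Localization.AtPrime 𝔪)) (eval a f) := by
  have h1 : psi F 𝔪 (f - C (eval a f)) ∈ maximalIdeal (Localization.AtPrime 𝔪) :=
    (psi_mem_iff F a 𝔪 h𝔪 _).mpr (by simp)
  have h2 := (residue_eq_zero_iff (R := Localization.AtPrime 𝔪) _).mpr h1
  rw [map_sub, map_sub, sub_eq_zero] at h2
  rw [h2, psi_C]
  rfl

theorem res_surj :
    Function.Surjective (algebraMap k (ResidueField (Localization.AtPrime 𝔪))) := by
  intro x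
  obtain ⟨o, rfl⟩ := residue_surjective x
  obtain ⟨b, s, rfl⟩ := IsLocalization.exists_mk'_eq 𝔪.primeCompl o
  obtain ⟨f, rfl⟩ := Ideal.Quotient.mk_surjective b
  obtain ⟨g, hg⟩ := Ideal.Quotient.mk_surjective (s : _ ⧸ Ideal.span (Set.range F))
  have hga : eval a g ≠ 0 := by
    rw [Ne, ← mk_mem_iff F a 𝔪 h𝔪, hg]
    exact s.2
  refine ⟨eval a f / eval a g, ?_⟩
  have h1 := IsLocalization.mk'_spec (Localization.AtPrime 𝔪)
    (Ideal.Quotient.mk (Ideal.span (Set.range F)) f) s
  rw [← hg] at h1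
  have h2 := congrArg (residue (Localization.AtPrime 𝔪)) h1
  rw [map_mul, ← psi_apply, ← psi_apply, residue_psi F a 𝔪 h𝔪, residue_psi F a 𝔪 h𝔪] at h2
  have hne : algebraMap k (ResidueField (Localization.AtPrime 𝔪)) (eval a g) ≠ 0 := by
    rw [Ne, FaithfulSMul.algebraMap_eq_zero_iff]; exact hga
  rw [map_div₀, div_eq_iff hne]
  exact h2.symm

omit h𝔪 in
theorem sum_sub_sum_mem {R : Type*} [CommRing R] (I : Ideal R) {ι : Type*} [Fintype ι]
    (f g : ι → R) (h : ∀ j, f j - g j ∈ I) : (∑ j, f j) - ∑ j, g j ∈ I := by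
  rw [← Finset.sum_sub_distrib]
  exact Ideal.sum_mem _ fun j _ => h j

omit h𝔪 in
theorem mul_sub_mul_mem {R : Type*} [CommRing R] (I : Ideal R) (x y z : R)
    (h : x - y ∈ I) (hz : z ∈ I) : x * z - y * z ∈ I ^ 2 := by
  rw [← sub_mul, pow_two]
  exact Ideal.mul_mem_mul h hz

theorem GG_surjective (v : CotangentSpace (Localization.AtPrime 𝔪)) :
    ∃ c, GG F a 𝔪 h𝔪 c = v := by
  obtain ⟨x, rfl⟩ := Ideal.toCotangent_surjective _ v
  have hx : (x : Localization.AtPrime 𝔪) ∈
      Ideal.span (Set.range fun j => psi F 𝔪 (tt a j)) := by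
    have h1 := Ideal.map_span (psi F 𝔪) (Set.range (tt a))
    have h2 := maximalIdeal_eq_map F a 𝔪 h𝔪
    rw [NN, h1, ← Set.range_comp] at h2
    have hx2 : (x : Localization.AtPrime 𝔪) ∈ maximalIdeal (Localization.AtPrime 𝔪) := x.2
    exact h2.le hx2
  obtain ⟨o, ho⟩ := (Ideal.mem_span_range_iff_exists_fun).mp hx
  choose c hc using fun j => res_surj F a 𝔪 h𝔪 (residue (Localization.AtPrime 𝔪) (o j))
  refine ⟨c, ?_⟩
  unfold GG
  rw [Ideal.toCotangent_eq]
  change psi F 𝔪 (∑ j, C (c j) * tt a j) - (x : Localization.AtPrime 𝔪) ∈ _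
  rw [← ho, map_sum]
  refine sum_sub_sum_mem _ _ _ fun j => ?_
  rw [map_mul, psi_C]
  refine mul_sub_mul_mem _ _ _ _ ?_ ((psi_mem_iff F a 𝔪 h𝔪 _).mpr (eval_tt a j))
  rw [← residue_eq_zero_iff (R := Localization.AtPrime 𝔪), map_sub, sub_eq_zero, ← hc j]
  rfl

/-- The cotangent space at a rational point has dimension `n - rank J(a)`. -/
theorem finrank_cotangentSpace_add_rank :
    Module.finrank (ResidueField (Localization.AtPrime 𝔪))
        (CotangentSpace (Localization.AtPrime 𝔪)) +
      (Matrix.of fun i j => eval a (pderiv j (F i))).rank = n := by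
  have tower : IsScalarTower k (ResidueField (Localization.AtPrime 𝔪))
      (CotangentSpace (Localization.AtPrime 𝔪)) := by
    refine IsScalarTower.of_algebraMap_smul fun c w => ?_
    rw [res_smul F 𝔪 c w, algebraMap_smul]
  let G : (Fin n → k) →ₗ[k] CotangentSpace (Localization.AtPrime 𝔪) :=
    { toFun := GG F a 𝔪 h𝔪
      map_add' := GG_add F a 𝔪 h𝔪
      map_smul' := fun l c => by
        rw [GG_smul F a 𝔪 h𝔪 l c, algebraMap_smul]; rfl }
  have hrange : LinearMap.range G = ⊤ :=
    LinearMap.range_eq_top.mpr (GG_surjective F a 𝔪 h𝔪)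
  have hker : LinearMap.ker G = rowSpan F a := by
    ext c
    exact GG_eq_zero_iff F a 𝔪 h𝔪 c
  have hrn := LinearMap.finrank_range_add_finrank_ker G
  rw [hrange, hker, finrank_top, Module.finrank_fin_fun] at hrn
  have hbij : Function.Bijective (algebraMap k (ResidueField (Localization.AtPrime 𝔪))) :=
    ⟨(algebraMap k (ResidueField (Localization.AtPrime 𝔪))).injective, res_surj F a 𝔪 h𝔪⟩
  have h1 : Module.finrank k (ResidueField (Localization.AtPrime 𝔪)) = 1 := by
    rw [← (LinearEquiv.ofBijective (Algebra.linearMap k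
      (ResidueField (Localization.AtPrime 𝔪))) hbij).finrank_eq, Module.finrank_self]
  have h2 := Module.finrank_mul_finrank k (ResidueField (Localization.AtPrime 𝔪))
    (CotangentSpace (Localization.AtPrime 𝔪))
  rw [h1, one_mul] at h2
  have h3 : (Matrix.of fun i j => eval a (pderiv j (F i))).rank =
      Module.finrank k (rowSpan F a) := by
    rw [Matrix.rank_eq_finrank_span_row]
    rfl
  rw [h2, h3]
  exact hrn

end main

end Groth.Agent.H56.JacCot
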