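import Mathlib
import Groth.Agent.H56.NoetherMonic
import Groth.Agent.H54.Dim
import Groth.Agent.H14.DimTrdeg

/-!
# Refined Noether normalization for a prime of a polynomial ring

For a prime `q` of `k[X_0, …, X_{n-1}]` there is a finite `k`-algebra endomorphism `φ` with
`φ⁻¹(q) = (X_i : i < h)`, and `dim k[X]/q = n - h`.
-/

set_option autoImplicit false

open Polynomial

namespace Groth.Agent.H56.NoetherPrime

section PolyInt

variable {R : Type*} [CommRing R]

/-- A ring map into `R[X]` is integral as soon as the constants and `X` are integral over it. -/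
theorem isIntegral_of_C_of_X {A : Type*} [CommRing A] (Φ : A →+* R[X])
    (hC : ∀ r : R, Φ.IsIntegralElem (C r)) (hX : Φ.IsIntegralElem X) : Φ.IsIntegral := by
  intro p
  induction p using Polynomial.induction_on with
  | C a => exact hC a
  | add p q hp hq => exact RingHom.IsIntegralElem.add Φ hp hq
  | monomial n a h =>
    rw [pow_succ, ← mul_assoc]
    exact RingHom.IsIntegralElem.mul Φ h hX

/-- For `G ∈ R[X]` with unit leading coefficient and positive degree, `R[X]` is integral over
`R[G]`. -/
theorem aeval_isIntegral (G : R[X]) (hu : IsUnit G.leadingCoeff) (hd : 0 < G.natDegree) :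
    (Polynomial.aeval G : R[X] →ₐ[R] R[X]).toRingHom.IsIntegral := by
  apply isIntegral_of_C_of_X
  · intro r
    have : (Polynomial.aeval G : R[X] →ₐ[R] R[X]).toRingHom (C r) = C r := by simp
    rw [← this]
    exact RingHom.isIntegralElem_map _
  · -- X is a root of `G(Z) - Y`
    let p' : R[X][X] := G.map (C : R →+* R[X]) - C (X : R[X])
    have hCinj : Function.Injective (C : R →+* R[X]) := Polynomial.C_injective
    have hdeg : (C (X : R[X]) : R[X][X]).degree < (G.map (C : R →+* R[X])).degree := by
      rw [Polynomial.degree_map_eq_of_injective hCinj]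
      refine lt_of_le_of_lt Polynomial.degree_C_le ?_
      rw [Polynomial.degree_eq_natDegree (fun h => by simp [h] at hd)]
      exact_mod_cast hd
    have hlc : p'.leadingCoeff = C G.leadingCoeff := by
      rw [Polynomial.leadingCoeff_sub_of_degree_lt hdeg,
        Polynomial.leadingCoeff_map_of_injective hCinj]
    have hu' : IsUnit p'.leadingCoeff := by
      rw [hlc]
      exact hu.map C
    refine ⟨hu'.unit⁻¹ • p', Polynomial.monic_of_isUnit_leadingCoeff_inv_smul hu', ?_⟩
    have h0 : Polynomial.eval₂ (Polynomial.aeval G : R[X] →ₐ[R] R[X]).toRingHom X p' = 0 := by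
      simp only [p', Polynomial.eval₂_sub, Polynomial.eval₂_map, Polynomial.eval₂_C]
      have h1 : (Polynomial.aeval G : R[X] →ₐ[R] R[X]).toRingHom.comp (C : R →+* R[X]) = C := by
        ext r
        simp
      rw [h1, Polynomial.eval₂_C_X]
      simp
    rw [Units.smul_def, Polynomial.smul_eq_C_mul, Polynomial.eval₂_mul, h0, mul_zero]

/-- Polynomial extension of an integral ring map is integral. -/
theorem mapRingHom_isIntegral {A : Type*} [CommRing A] (φ : A →+* R) (hφ : φ.IsIntegral) :
    (Polynomial.mapRingHom φ).IsIntegral := by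
  apply isIntegral_of_C_of_X
  · intro r
    obtain ⟨p, hp, hpr⟩ := hφ r
    refine ⟨p.map C, hp.map C, ?_⟩
    rw [Polynomial.eval₂_map]
    have h1 : (Polynomial.mapRingHom φ).comp (C : A →+* A[X]) = (C : R →+* R[X]).comp φ := by
      ext a
      simp
    rw [h1, ← Polynomial.hom_eval₂, hpr, map_zero]
  · have : Polynomial.mapRingHom φ X = X := by simp
    rw [← this]
    exact RingHom.isIntegralElem_map _

/-- key computation: if `X ∈ Q` then `(map φ)⁻¹ Q = (X) + (φ⁻¹(Q ∩ R))[X]`. -/
theorem comap_mapRingHom_of_X_mem (Q : Ideal R[X]) (hX : (X : R[X]) ∈ Q) (φ : R →+* R) :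
    Q.comap (Polynomial.mapRingHom φ) =
      Ideal.span {(X : R[X])} ⊔ ((Q.comap (C : R →+* R[X])).comap φ).map (C : R →+* R[X]) := by
  apply le_antisymm
  · intro p hp
    rw [Ideal.mem_comap] at hp
    have hdec : p = p.divX * X + C (p.coeff 0) := (Polynomial.divX_mul_X_add p).symm
    have h1 : Polynomial.mapRingHom φ p =
        Polynomial.mapRingHom φ p.divX * X + C (φ (p.coeff 0)) := by
      conv_lhs => rw [hdec]
      simp
    have h2 : C (φ (p.coeff 0)) ∈ Q := by
      have h3 : Polynomial.mapRingHom φ p.divX * X ∈ Q := Q.mul_mem_left _ hX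
      have := Q.sub_mem hp h3
      rwa [h1, add_sub_cancel_left] at this
    rw [hdec]
    refine Ideal.add_mem _ ?_ ?_
    · exact Ideal.mem_sup_left (Ideal.mul_mem_left _ _ (Ideal.mem_span_singleton_self _))
    · exact Ideal.mem_sup_right (Ideal.mem_map_of_mem _ h2)
  · refine sup_le ?_ ?_
    · rw [Ideal.span_singleton_le_iff_mem, Ideal.mem_comap]
      simpa using hX
    · rw [Ideal.map_le_iff_le_comap]
      intro i hi
      rw [Ideal.mem_comap, Ideal.mem_comap]
      simpa using hi

/-- integral ring maps induce equal dimensions on quotients by a prime and its contraction -/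
theorem ringKrullDim_quotient_comap_eq {A B : Type*} [CommRing A] [CommRing B] (g : A →+* B)
    (hg : g.IsIntegral) (q : Ideal B) :
    ringKrullDim (A ⧸ q.comap g) = ringKrullDim (B ⧸ q) := by
  refine Groth.Agent.H54.ringKrullDim_eq_of_ringHom_isIntegral_of_injective
    (Ideal.quotientMap q g le_rfl) ?_ (Ideal.quotientMap_injective)
  exact RingHom.IsIntegral.quotient g hg

end PolyInt

section Main

open MvPolynomial Groth.Agent.H56.NoetherMonic

variable {k : Type*} [Field k]

/-- an integral `k`-algebra map into a finite type `k`-algebra is finite -/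
theorem finite_of_isIntegral {A B : Type*} [CommRing A] [CommRing B] [Algebra k A] [Algebra k B]
    [Algebra.FiniteType k B] (Φ : A →ₐ[k] B) (h : Φ.toRingHom.IsIntegral) :
    Φ.toRingHom.Finite := by
  refine RingHom.IsIntegral.to_finite h ?_
  refine RingHom.FiniteType.of_comp_finiteType (f := algebraMap k A) ?_
  have : Φ.toRingHom.comp (algebraMap k A) = algebraMap k B := Φ.comp_algebraMap
  rw [this]
  exact (RingHom.finiteType_algebraMap).mpr inferInstance

/-- **Nagata's trick**: for a nonzero nonunit `f ∈ k[X_0..X_n]` there is a finite endomorphism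
sending `X_0` to `f`. -/
theorem exists_finite_algHom_X_zero {n : ℕ} (f : MvPolynomial (Fin (n + 1)) k) (fne : f ≠ 0)
    (hfu : ¬ IsUnit f) :
    ∃ Ψ : MvPolynomial (Fin (n + 1)) k →ₐ[k] MvPolynomial (Fin (n + 1)) k,
      Ψ.toRingHom.IsIntegral ∧ Ψ (X 0) = f := by
  let e := finSuccEquiv k n
  let G := e (T f f)
  have hu : IsUnit G.leadingCoeff := T_leadingcoeff_isUnit f fne
  have hd : 0 < G.natDegree := by
    by_contra h0
    have h0' : G.natDegree = 0 := by omega
    have hG : G = Polynomial.C (G.coeff 0) := Polynomial.eq_C_of_natDegree_eq_zero h0'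
    have hlc : G.leadingCoeff = G.coeff 0 := by
      rw [Polynomial.leadingCoeff, h0']
    have hGu : IsUnit G := by
      rw [hG]
      exact (hlc ▸ hu).map Polynomial.C
    have h1 : IsUnit (T f f) := by
      have := hGu.map e.symm
      rwa [show e.symm G = T f f from e.symm_apply_apply _] at this
    have h2 : IsUnit f := by
      have := h1.map (T f).symm
      rwa [AlgEquiv.symm_apply_apply] at this
    exact hfu h2
  let ψ : (MvPolynomial (Fin n) k)[X] →ₐ[k] (MvPolynomial (Fin n) k)[X] :=
    (Polynomial.aeval G : _ →ₐ[MvPolynomial (Fin n) k] _).restrictScalars k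
  have hψ : ψ.toRingHom.IsIntegral := aeval_isIntegral G hu hd
  let Ψ : MvPolynomial (Fin (n + 1)) k →ₐ[k] MvPolynomial (Fin (n + 1)) k :=
    ((T f).symm.toAlgHom.comp e.symm.toAlgHom).comp (ψ.comp e.toAlgHom)
  refine ⟨Ψ, ?_, ?_⟩
  · have he : (e.toAlgHom.toRingHom).IsIntegral :=
      RingHom.isIntegral_of_surjective _ e.surjective
    have he' : (((T f).symm.toAlgHom.comp e.symm.toAlgHom).toRingHom).IsIntegral :=
      RingHom.isIntegral_of_surjective _ ((T f).symm.surjective.comp e.symm.surjective)
    exact RingHom.IsIntegral.trans _ _ (RingHom.IsIntegral.trans _ _ he hψ) he'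
  · change (T f).symm (e.symm (Polynomial.aeval G (e (X 0)))) = f
    rw [show e (X 0) = Polynomial.X from finSuccEquiv_X_zero, Polynomial.aeval_X]
    rw [show e.symm G = T f f from e.symm_apply_apply _, AlgEquiv.symm_apply_apply]

/-- the zero prime -/
theorem core_bot (n : ℕ) :
    ∃ h ≤ n, ∃ φ : MvPolynomial (Fin n) k →ₐ[k] MvPolynomial (Fin n) k, φ.toRingHom.IsIntegral ∧
      (⊥ : Ideal (MvPolynomial (Fin n) k)).comap φ =
        Ideal.span (X '' {i : Fin n | (i : ℕ) < h}) ∧
      ringKrullDim (MvPolynomial (Fin n) k ⧸ (⊥ : Ideal (MvPolynomial (Fin n) k))) =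
        ((n - h : ℕ) : WithBot ℕ∞) := by
  refine ⟨0, Nat.zero_le _, AlgHom.id k _, ?_, ?_, ?_⟩
  · exact RingHom.isIntegral_of_surjective _ (fun x => ⟨x, rfl⟩)
  · have : {i : Fin n | (i : ℕ) < 0} = ∅ := by ext; simp
    rw [this, Set.image_empty, Ideal.span_empty]
    ext x
    simp [Ideal.mem_comap]
  · rw [ringKrullDim_eq_of_ringEquiv (RingEquiv.quotientBot _),
      Groth.Agent.H54.ringKrullDim_mvPolynomial_fin_field]
    simp

/-- **Core**: for a prime `q` of `k[X_0..X_{n-1}]` there is an integral `k`-algebra endomorphism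
`φ` with `φ⁻¹ q = (X_i : i < h)`, and `dim k[X]/q = n - h`. -/
theorem core : ∀ (n : ℕ) (q : Ideal (MvPolynomial (Fin n) k)) [q.IsPrime],
    ∃ h ≤ n, ∃ φ : MvPolynomial (Fin n) k →ₐ[k] MvPolynomial (Fin n) k, φ.toRingHom.IsIntegral ∧
      q.comap φ = Ideal.span (X '' {i : Fin n | (i : ℕ) < h}) ∧
      ringKrullDim (MvPolynomial (Fin n) k ⧸ q) = ((n - h : ℕ) : WithBot ℕ∞) := by
  intro n
  induction n with
  | zero =>
    intro q hq
    by_cases hbot : q = ⊥
    · subst hbot
      exact core_bot 0
    · exfalso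
      obtain ⟨f, hfq, fne⟩ := Submodule.exists_mem_ne_zero_of_ne_bot hbot
      have hf : f = MvPolynomial.C (MvPolynomial.coeff 0 f) := MvPolynomial.eq_C_of_isEmpty f
      have hc : MvPolynomial.coeff 0 f ≠ 0 := by
        intro h0
        rw [h0, map_zero] at hf
        exact fne hf
      have hu : IsUnit f := by
        rw [hf]
        exact (hc.isUnit).map MvPolynomial.C
      exact hq.ne_top (Ideal.eq_top_of_isUnit_mem _ hfq hu)
  | succ n ih =>
    intro q hq
    by_cases hbot : q = ⊥
    · subst hbot
      exact core_bot (n + 1)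
    obtain ⟨f, hfq, fne⟩ := Submodule.exists_mem_ne_zero_of_ne_bot hbot
    have hfu : ¬ IsUnit f := fun hu => hq.ne_top (Ideal.eq_top_of_isUnit_mem _ hfq hu)
    obtain ⟨Ψ, hΨ, hΨ0⟩ := exists_finite_algHom_X_zero f fne hfu
    let e := finSuccEquiv k n
    -- the prime `q₁ = Ψ⁻¹ q` contains `X 0`
    let q₁ : Ideal (MvPolynomial (Fin (n + 1)) k) := q.comap Ψ.toRingHom
    have hq₁ : q₁.IsPrime := Ideal.comap_isPrime _ _
    have hX0 : (X 0 : MvPolynomial (Fin (n + 1)) k) ∈ q₁ := by
      change Ψ (X 0) ∈ q
      rw [hΨ0]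
      exact hfq
    let es : (MvPolynomial (Fin n) k)[X] →+* MvPolynomial (Fin (n + 1)) k :=
      e.symm.toAlgHom.toRingHom
    let er : MvPolynomial (Fin (n + 1)) k →+* (MvPolynomial (Fin n) k)[X] :=
      e.toAlgHom.toRingHom
    let Q₁ : Ideal (MvPolynomial (Fin n) k)[X] := q₁.comap es
    have hQ₁ : Q₁.IsPrime := Ideal.comap_isPrime _ _
    have hesX : e.symm Polynomial.X = X 0 := by
      rw [AlgEquiv.symm_apply_eq]
      exact finSuccEquiv_X_zero.symm
    have hXQ : (Polynomial.X : (MvPolynomial (Fin n) k)[X]) ∈ Q₁ := by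
      change e.symm Polynomial.X ∈ q₁
      rw [hesX]
      exact hX0
    let q₂ : Ideal (MvPolynomial (Fin n) k) := Q₁.comap Polynomial.C
    have hq₂ : q₂.IsPrime := Ideal.comap_isPrime _ _
    obtain ⟨h, hh, φ₂, hφ₂, hcomap, hdim⟩ := ih q₂
    let Φ' : (MvPolynomial (Fin n) k)[X] →ₐ[k] (MvPolynomial (Fin n) k)[X] :=
      Polynomial.mapAlgHom φ₂
    have hΦ' : Φ'.toRingHom.IsIntegral := mapRingHom_isIntegral φ₂.toRingHom hφ₂
    let φ : MvPolynomial (Fin (n + 1)) k →ₐ[k] MvPolynomial (Fin (n + 1)) k :=
      Ψ.comp (e.symm.toAlgHom.comp (Φ'.comp e.toAlgHom))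
    refine ⟨h + 1, by omega, φ, ?_, ?_, ?_⟩
    · have he : (e.toAlgHom.toRingHom).IsIntegral :=
        RingHom.isIntegral_of_surjective _ e.surjective
      have he' : (e.symm.toAlgHom.toRingHom).IsIntegral :=
        RingHom.isIntegral_of_surjective _ e.symm.surjective
      exact RingHom.IsIntegral.trans _ _
        (RingHom.IsIntegral.trans _ _ (RingHom.IsIntegral.trans _ _ he hΦ') he') hΨ
    · -- the contraction
      have hkey := comap_mapRingHom_of_X_mem Q₁ hXQ φ₂.toRingHom
      ext p
      have h1 : p ∈ q.comap φ ↔ e p ∈ Q₁.comap (Polynomial.mapRingHom φ₂.toRingHom) := by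
        rfl
      rw [h1, hkey]
      change e p ∈ Ideal.span {Polynomial.X} ⊔ (q₂.comap φ₂.toRingHom).map Polynomial.C ↔ _
      have hcomap' : q₂.comap φ₂.toRingHom = Ideal.span (X '' {i : Fin n | (i : ℕ) < h}) := hcomap
      rw [hcomap', Ideal.map_span, ← Ideal.span_union]
      have h2 : e p ∈ Ideal.span ({Polynomial.X} ∪
            (Polynomial.C : _ →+* (MvPolynomial (Fin n) k)[X]) '' (X '' {i : Fin n | (i : ℕ) < h})) ↔
          p ∈ (Ideal.span ({Polynomial.X} ∪
            (Polynomial.C : _ →+* (MvPolynomial (Fin n) k)[X]) ''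
              (X '' {i : Fin n | (i : ℕ) < h}))).map es := by
        constructor
        · intro hp
          have := Ideal.mem_map_of_mem es hp
          have h6 : es (e p) = p := e.symm_apply_apply p
          rwa [h6] at this
        · intro hp
          have := Ideal.mem_map_of_mem er hp
          rw [Ideal.map_map] at this
          have hid : er.comp es = RingHom.id _ := by
            apply RingHom.ext
            intro x
            exact e.apply_symm_apply x
          rw [hid, Ideal.map_id] at this
          exact this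
      rw [h2, Ideal.map_span]
      have h3 : (⇑es) '' ({Polynomial.X} ∪
            (Polynomial.C : _ →+* (MvPolynomial (Fin n) k)[X]) '' (X '' {i : Fin n | (i : ℕ) < h})) =
          X '' {j : Fin (n + 1) | (j : ℕ) < h + 1} := by
        ext y
        simp only [Set.mem_image, Set.mem_union, Set.mem_singleton_iff, Set.mem_setOf_eq]
        constructor
        · rintro ⟨z, (rfl | ⟨_, ⟨i, hi, rfl⟩, rfl⟩), rfl⟩
          · exact ⟨0, by simp, hesX.symm⟩
          · refine ⟨i.succ, by simpa using hi, ?_⟩
            change _ = e.symm (Polynomial.C (X i))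
            rw [AlgEquiv.eq_symm_apply]
            exact finSuccEquiv_X_succ
        · rintro ⟨j, hj, rfl⟩
          revert hj
          refine Fin.cases ?_ (fun i => ?_) j
          · intro _
            exact ⟨Polynomial.X, Or.inl rfl, hesX⟩
          · intro hj
            refine ⟨Polynomial.C (X i), Or.inr ⟨X i, ⟨i, by simpa using hj, rfl⟩, rfl⟩, ?_⟩
            change e.symm (Polynomial.C (X i)) = _
            rw [AlgEquiv.symm_apply_eq]
            exact finSuccEquiv_X_succ.symm
      rw [h3]
    · -- the dimension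
      have hd1 : ringKrullDim (MvPolynomial (Fin (n + 1)) k ⧸ q₁) =
          ringKrullDim (MvPolynomial (Fin (n + 1)) k ⧸ q) :=
        ringKrullDim_quotient_comap_eq Ψ.toRingHom hΨ q
      let g : MvPolynomial (Fin n) k →+* MvPolynomial (Fin (n + 1)) k :=
        es.comp Polynomial.C
      have hq₂g : q₂ = q₁.comap g := rfl
      have hsurj : Function.Surjective (Ideal.quotientMap q₁ g (le_of_eq hq₂g)) := by
        intro y
        obtain ⟨p, rfl⟩ := Ideal.Quotient.mk_surjective y
        obtain ⟨P', rfl⟩ := e.symm.surjective p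
        refine ⟨Ideal.Quotient.mk q₂ (P'.coeff 0), ?_⟩
        rw [Ideal.quotientMap_mk, Ideal.Quotient.eq]
        have hdec : P' = P'.divX * Polynomial.X + Polynomial.C (P'.coeff 0) :=
          (Polynomial.divX_mul_X_add P').symm
        have h5 : e.symm P' = e.symm P'.divX * X 0 + g (P'.coeff 0) := by
          calc e.symm P' = e.symm (P'.divX * Polynomial.X + Polynomial.C (P'.coeff 0)) :=
                congrArg e.symm hdec
            _ = e.symm P'.divX * e.symm Polynomial.X + e.symm (Polynomial.C (P'.coeff 0)) := by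
                rw [map_add, map_mul]
            _ = _ := by rw [hesX]; rfl
        have h4 : g (P'.coeff 0) - e.symm P' = - (e.symm P'.divX * X 0) := by
          rw [h5]; ring
        rw [h4]
        exact q₁.neg_mem (q₁.mul_mem_left _ hX0)
      have hinj : Function.Injective (Ideal.quotientMap q₁ g (le_of_eq hq₂g)) :=
        Ideal.quotientMap_injective' (le_of_eq hq₂g.symm)
      have hd2 : ringKrullDim (MvPolynomial (Fin n) k ⧸ q₂) =
          ringKrullDim (MvPolynomial (Fin (n + 1)) k ⧸ q₁) :=
        ringKrullDim_eq_of_ringEquiv (RingEquiv.ofBijective _ ⟨hinj, hsurj⟩)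
      rw [← hd1, ← hd2, hdim]
      have : n + 1 - (h + 1) = n - h := by omega
      rw [this]

end Main

end Groth.Agent.H56.NoetherPrime
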