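import Mathlib
import Groth.Agent.H56.NoetherPrime

/-!
# Noether normalization adapted to a finite family of primes

For a finite set `s` of primes of `k[X_0, …, X_{n-1}]` there is a single integral (hence injective)
`k`-algebra endomorphism `φ` with `φ⁻¹ p = (X_i : i < h_p)` and `dim k[X]/p = n - h_p` for all
`p ∈ s`.
-/

set_option autoImplicit false

open Polynomial

namespace Groth.Agent.H56.NoetherChain

open MvPolynomial Groth.Agent.H56.NoetherPrime

variable {k : Type*} [Field k]

/-- an integral endomorphism of a polynomial ring over a field is injective -/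
theorem injective_of_isIntegral {n : ℕ}
    (φ : MvPolynomial (Fin n) k →+* MvPolynomial (Fin n) k) (hφ : φ.IsIntegral) :
    Function.Injective φ := by
  rw [injective_iff_map_eq_zero]
  intro f hf
  by_contra hf0
  have h1 : ringKrullDim (MvPolynomial (Fin n) k ⧸ (⊥ : Ideal (MvPolynomial (Fin n) k)).comap φ) =
      ringKrullDim (MvPolynomial (Fin n) k ⧸ (⊥ : Ideal (MvPolynomial (Fin n) k))) :=
    ringKrullDim_quotient_comap_eq φ hφ ⊥
  have hb : ringKrullDim (MvPolynomial (Fin n) k ⧸ (⊥ : Ideal (MvPolynomial (Fin n) k))) =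
      (n : WithBot ℕ∞) := by
    rw [ringKrullDim_eq_of_ringEquiv (RingEquiv.quotientBot (MvPolynomial (Fin n) k)),
      Groth.Agent.H54.ringKrullDim_mvPolynomial_fin_field]
  rw [hb] at h1
  have h2 := ringKrullDim_succ_le_of_surjective
    (Ideal.Quotient.mk ((⊥ : Ideal (MvPolynomial (Fin n) k)).comap φ))
    Ideal.Quotient.mk_surjective (r := f) (mem_nonZeroDivisors_of_ne_zero hf0)
    (by
      rw [Ideal.Quotient.eq_zero_iff_mem, Ideal.mem_comap, hf]
      exact Ideal.zero_mem _)
  rw [h1, Groth.Agent.H54.ringKrullDim_mvPolynomial_fin_field] at h2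
  have h3 : ((n + 1 : ℕ) : WithBot ℕ∞) ≤ (n : ℕ) := by exact_mod_cast h2
  have : n + 1 ≤ n := by exact_mod_cast h3
  omega

/-- the case of the zero ideal -/
theorem bot_case {n : ℕ} (φ : MvPolynomial (Fin n) k →ₐ[k] MvPolynomial (Fin n) k)
    (hφ : Function.Injective φ) :
    (⊥ : Ideal (MvPolynomial (Fin n) k)).comap φ =
        Ideal.span (X '' {i : Fin n | (i : ℕ) < 0}) ∧
      ringKrullDim (MvPolynomial (Fin n) k ⧸ (⊥ : Ideal (MvPolynomial (Fin n) k))) =
        ((n - 0 : ℕ) : WithBot ℕ∞) := by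
  constructor
  · have : {i : Fin n | (i : ℕ) < 0} = ∅ := by ext; simp
    rw [this, Set.image_empty, Ideal.span_empty]
    ext x
    rw [Ideal.mem_comap, Ideal.mem_bot, Ideal.mem_bot]
    exact ⟨fun h => hφ (h.trans (map_zero φ).symm), fun h => by rw [h, map_zero]⟩
  · rw [ringKrullDim_eq_of_ringEquiv (RingEquiv.quotientBot (MvPolynomial (Fin n) k)),
      Groth.Agent.H54.ringKrullDim_mvPolynomial_fin_field]
    simp

/-- a nonzero element lying in all members of a finite family of nonzero ideals of a domain -/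
theorem exists_ne_zero_mem_of_forall_ne_bot {P : Type*} [CommRing P] [IsDomain P]
    (s : Finset (Ideal P)) (hs : ∀ p ∈ s, p ≠ ⊥) : ∃ f : P, f ≠ 0 ∧ ∀ p ∈ s, f ∈ p := by
  classical
  induction s using Finset.induction_on with
  | empty => exact ⟨1, one_ne_zero, fun p hp => absurd hp (Finset.notMem_empty p)⟩
  | insert a s ha ih =>
    obtain ⟨f, hf0, hf⟩ := ih (fun p hp => hs p (Finset.mem_insert_of_mem hp))
    obtain ⟨g, hga, hg0⟩ := Submodule.exists_mem_ne_zero_of_ne_bot (hs a (Finset.mem_insert_self a s))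
    refine ⟨g * f, mul_ne_zero hg0 hf0, ?_⟩
    intro p hp
    rcases Finset.mem_insert.mp hp with rfl | hp
    · exact Ideal.mul_mem_right _ _ hga
    · exact Ideal.mul_mem_left _ _ (hf p hp)

/-- the prime of `k[X_1..X_n]` cut out by a prime of `k[X_0..X_n]` after a substitution -/
noncomputable def cut {n : ℕ}
    (Ψ : MvPolynomial (Fin (n + 1)) k →ₐ[k] MvPolynomial (Fin (n + 1)) k)
    (q : Ideal (MvPolynomial (Fin (n + 1)) k)) : Ideal (MvPolynomial (Fin n) k) :=
  ((q.comap Ψ.toRingHom).comap ((finSuccEquiv k n).symm.toAlgHom.toRingHom)).comap Polynomial.C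

instance cut_isPrime {n : ℕ}
    (Ψ : MvPolynomial (Fin (n + 1)) k →ₐ[k] MvPolynomial (Fin (n + 1)) k)
    (q : Ideal (MvPolynomial (Fin (n + 1)) k)) [q.IsPrime] : (cut Ψ q).IsPrime := by
  unfold cut
  infer_instance

/-- the total substitution -/
noncomputable def total {n : ℕ}
    (Ψ : MvPolynomial (Fin (n + 1)) k →ₐ[k] MvPolynomial (Fin (n + 1)) k)
    (φ₂ : MvPolynomial (Fin n) k →ₐ[k] MvPolynomial (Fin n) k) :
    MvPolynomial (Fin (n + 1)) k →ₐ[k] MvPolynomial (Fin (n + 1)) k :=
  Ψ.comp ((finSuccEquiv k n).symm.toAlgHom.comp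
    ((Polynomial.mapAlgHom φ₂).comp (finSuccEquiv k n).toAlgHom))

theorem total_isIntegral {n : ℕ}
    (Ψ : MvPolynomial (Fin (n + 1)) k →ₐ[k] MvPolynomial (Fin (n + 1)) k)
    (hΨ : Ψ.toRingHom.IsIntegral)
    (φ₂ : MvPolynomial (Fin n) k →ₐ[k] MvPolynomial (Fin n) k) (hφ₂ : φ₂.toRingHom.IsIntegral) :
    (total Ψ φ₂).toRingHom.IsIntegral := by
  let e := finSuccEquiv k n
  have hΦ' : (Polynomial.mapAlgHom φ₂).toRingHom.IsIntegral :=
    mapRingHom_isIntegral φ₂.toRingHom hφ₂
  have he : (e.toAlgHom.toRingHom).IsIntegral :=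
    RingHom.isIntegral_of_surjective _ e.surjective
  have he' : (e.symm.toAlgHom.toRingHom).IsIntegral :=
    RingHom.isIntegral_of_surjective _ e.symm.surjective
  exact RingHom.IsIntegral.trans _ _
    (RingHom.IsIntegral.trans _ _ (RingHom.IsIntegral.trans _ _ he hΦ') he') hΨ

/-- **Inductive step** (adapted from `NoetherPrime.core`). -/
theorem core_step {n : ℕ} (q : Ideal (MvPolynomial (Fin (n + 1)) k)) [hq : q.IsPrime]
    (Ψ : MvPolynomial (Fin (n + 1)) k →ₐ[k] MvPolynomial (Fin (n + 1)) k)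
    (hΨ : Ψ.toRingHom.IsIntegral) (hΨ0 : Ψ (X 0) ∈ q)
    (φ₂ : MvPolynomial (Fin n) k →ₐ[k] MvPolynomial (Fin n) k)
    (h : ℕ) (hh : h ≤ n)
    (hcomap : (cut Ψ q).comap φ₂ = Ideal.span (X '' {i : Fin n | (i : ℕ) < h}))
    (hdim : ringKrullDim (MvPolynomial (Fin n) k ⧸ cut Ψ q) = ((n - h : ℕ) : WithBot ℕ∞)) :
    q.comap (total Ψ φ₂) = Ideal.span (X '' {i : Fin (n + 1) | (i : ℕ) < h + 1}) ∧
      ringKrullDim (MvPolynomial (Fin (n + 1)) k ⧸ q) =
        ((n + 1 - (h + 1) : ℕ) : WithBot ℕ∞) := by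
  let e := finSuccEquiv k n
  let q₁ : Ideal (MvPolynomial (Fin (n + 1)) k) := q.comap Ψ.toRingHom
  have hq₁ : q₁.IsPrime := Ideal.comap_isPrime _ _
  have hX0 : (X 0 : MvPolynomial (Fin (n + 1)) k) ∈ q₁ := hΨ0
  let es : (MvPolynomial (Fin n) k)[X] →+* MvPolynomial (Fin (n + 1)) k :=
    e.symm.toAlgHom.toRingHom
  let er : MvPolynomial (Fin (n + 1)) k →+* (MvPolynomial (Fin n) k)[X] :=
    e.toAlgHom.toRingHom
  let Q₁ : Ideal (MvPolynomial (Fin n) k)[X] := q₁.comap es
  have hQ₁ : Q₁.IsPrime := Ideal.comap_isPrime _ _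
  have hesX : e.symm Polynomial.X = X 0 := by
    rw [AlgEquiv.symm_apply_eq]
    exact finSuccEquiv_X_zero.symm
  have hXQ : (Polynomial.X : (MvPolynomial (Fin n) k)[X]) ∈ Q₁ := by
    change e.symm Polynomial.X ∈ q₁
    rw [hesX]
    exact hX0
  let q₂ : Ideal (MvPolynomial (Fin n) k) := Q₁.comap Polynomial.C
  have hq₂eq : q₂ = cut Ψ q := rfl
  have hq₂ : q₂.IsPrime := Ideal.comap_isPrime _ _
  let φ : MvPolynomial (Fin (n + 1)) k →ₐ[k] MvPolynomial (Fin (n + 1)) k := total Ψ φ₂
  refine ⟨?_, ?_⟩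
  · -- the contraction
    have hkey := comap_mapRingHom_of_X_mem Q₁ hXQ φ₂.toRingHom
    ext p
    have h1 : p ∈ q.comap φ ↔ e p ∈ Q₁.comap (Polynomial.mapRingHom φ₂.toRingHom) := by
      rfl
    change p ∈ q.comap φ ↔ _
    rw [h1, hkey]
    change e p ∈ Ideal.span {Polynomial.X} ⊔ (q₂.comap φ₂.toRingHom).map Polynomial.C ↔ _
    have hcomap' : q₂.comap φ₂.toRingHom = Ideal.span (X '' {i : Fin n | (i : ℕ) < h}) := hcomap
    rw [hcomap', Ideal.map_span, ← Ideal.span_union]
    have h2 : e p ∈ Ideal.span ({Polynomial.X} ∪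
          (Polynomial.C : _ →+* (MvPolynomial (Fin n) k)[X]) '' (X '' {i : Fin n | (i : ℕ) < h})) ↔
        p ∈ (Ideal.span ({Polynomial.X} ∪
          (Polynomial.C : _ →+* (MvPolynomial (Fin n) k)[X]) ''
            (X '' {i : Fin n | (i : ℕ) < h}))).map es := by
      constructor
      · intro hp
        have := Ideal.mem_map_of_mem es hp
        have h6 : es (e p) = p := e.symm_apply_apply p
        rwa [h6] at this
      · intro hp
        have := Ideal.mem_map_of_mem er hp
        rw [Ideal.map_map] at this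
        have hid : er.comp es = RingHom.id _ := by
          apply RingHom.ext
          intro x
          exact e.apply_symm_apply x
        rw [hid, Ideal.map_id] at this
        exact this
    rw [h2, Ideal.map_span]
    have h3 : (⇑es) '' ({Polynomial.X} ∪
          (Polynomial.C : _ →+* (MvPolynomial (Fin n) k)[X]) '' (X '' {i : Fin n | (i : ℕ) < h})) =
        X '' {j : Fin (n + 1) | (j : ℕ) < h + 1} := by
      ext y
      simp only [Set.mem_image, Set.mem_union, Set.mem_singleton_iff, Set.mem_setOf_eq]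
      constructor
      · rintro ⟨z, (rfl | ⟨_, ⟨i, hi, rfl⟩, rfl⟩), rfl⟩
        · exact ⟨0, by simp, hesX.symm⟩
        · refine ⟨i.succ, by simpa using hi, ?_⟩
          change _ = e.symm (Polynomial.C (X i))
          rw [AlgEquiv.eq_symm_apply]
          exact finSuccEquiv_X_succ
      · rintro ⟨j, hj, rfl⟩
        revert hj
        refine Fin.cases ?_ (fun i => ?_) j
        · intro _
          exact ⟨Polynomial.X, Or.inl rfl, hesX⟩
        · intro hj
          refine ⟨Polynomial.C (X i), Or.inr ⟨X i, ⟨i, by simpa using hj, rfl⟩, rfl⟩, ?_⟩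
          change e.symm (Polynomial.C (X i)) = _
          rw [AlgEquiv.symm_apply_eq]
          exact finSuccEquiv_X_succ.symm
    rw [h3]
  · -- the dimension
    have hd1 : ringKrullDim (MvPolynomial (Fin (n + 1)) k ⧸ q₁) =
        ringKrullDim (MvPolynomial (Fin (n + 1)) k ⧸ q) :=
      ringKrullDim_quotient_comap_eq Ψ.toRingHom hΨ q
    let g : MvPolynomial (Fin n) k →+* MvPolynomial (Fin (n + 1)) k :=
      es.comp Polynomial.C
    have hq₂g : q₂ = q₁.comap g := rfl
    have hsurj : Function.Surjective (Ideal.quotientMap q₁ g (le_of_eq hq₂g)) := by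
      intro y
      obtain ⟨p, rfl⟩ := Ideal.Quotient.mk_surjective y
      obtain ⟨P', rfl⟩ := e.symm.surjective p
      refine ⟨Ideal.Quotient.mk q₂ (P'.coeff 0), ?_⟩
      rw [Ideal.quotientMap_mk, Ideal.Quotient.eq]
      have hdec : P' = P'.divX * Polynomial.X + Polynomial.C (P'.coeff 0) :=
        (Polynomial.divX_mul_X_add P').symm
      have h5 : e.symm P' = e.symm P'.divX * X 0 + g (P'.coeff 0) := by
        calc e.symm P' = e.symm (P'.divX * Polynomial.X + Polynomial.C (P'.coeff 0)) :=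
              congrArg e.symm hdec
          _ = e.symm P'.divX * e.symm Polynomial.X + e.symm (Polynomial.C (P'.coeff 0)) := by
              rw [map_add, map_mul]
          _ = _ := by rw [hesX]; rfl
      have h4 : g (P'.coeff 0) - e.symm P' = - (e.symm P'.divX * X 0) := by
        rw [h5]; ring
      rw [h4]
      exact q₁.neg_mem (q₁.mul_mem_left _ hX0)
    have hinj : Function.Injective (Ideal.quotientMap q₁ g (le_of_eq hq₂g)) :=
      Ideal.quotientMap_injective' (le_of_eq hq₂g.symm)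
    have hd2 : ringKrullDim (MvPolynomial (Fin n) k ⧸ q₂) =
        ringKrullDim (MvPolynomial (Fin (n + 1)) k ⧸ q₁) :=
      ringKrullDim_eq_of_ringEquiv (RingEquiv.ofBijective _ ⟨hinj, hsurj⟩)
    rw [← hd1, ← hd2, hq₂eq, hdim]
    have : n + 1 - (h + 1) = n - h := by omega
    rw [this]

/-- **Noether normalization adapted to a finite family of primes.** -/
theorem coreFam : ∀ (n : ℕ) (s : Finset (Ideal (MvPolynomial (Fin n) k))),
    (∀ p ∈ s, p.IsPrime) →
    ∃ φ : MvPolynomial (Fin n) k →ₐ[k] MvPolynomial (Fin n) k, φ.toRingHom.IsIntegral ∧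
      ∀ p ∈ s, ∃ h ≤ n, p.comap φ = Ideal.span (X '' {i : Fin n | (i : ℕ) < h}) ∧
        ringKrullDim (MvPolynomial (Fin n) k ⧸ p) = ((n - h : ℕ) : WithBot ℕ∞) := by
  intro n
  induction n with
  | zero =>
    intro s hs
    refine ⟨AlgHom.id k _, RingHom.isIntegral_of_surjective _ (fun x => ⟨x, rfl⟩), ?_⟩
    intro p hp
    have hp' := hs p hp
    have hbot : p = ⊥ := by
      by_contra hbot
      obtain ⟨f, hfq, fne⟩ := Submodule.exists_mem_ne_zero_of_ne_bot hbot
      have hf : f = MvPolynomial.C (MvPolynomial.coeff 0 f) := MvPolynomial.eq_C_of_isEmpty f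
      have hc : MvPolynomial.coeff 0 f ≠ 0 := by
        intro h0
        rw [h0, map_zero] at hf
        exact fne hf
      have hu : IsUnit f := by
        rw [hf]
        exact (hc.isUnit).map MvPolynomial.C
      exact hp'.ne_top (Ideal.eq_top_of_isUnit_mem _ hfq hu)
    subst hbot
    have := bot_case (AlgHom.id k (MvPolynomial (Fin 0) k)) (fun _ _ h => h)
    exact ⟨0, le_refl _, this.1, this.2⟩
  | succ n ih =>
    intro s hs
    classical
    let s' := s.filter (· ≠ ⊥)
    by_cases hs' : s' = ∅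
    · refine ⟨AlgHom.id k _, RingHom.isIntegral_of_surjective _ (fun x => ⟨x, rfl⟩), ?_⟩
      intro p hp
      have hpb : p = ⊥ := by
        by_contra h
        have : p ∈ s' := Finset.mem_filter.mpr ⟨hp, h⟩
        rw [hs'] at this
        exact Finset.notMem_empty p this
      subst hpb
      have := bot_case (AlgHom.id k (MvPolynomial (Fin (n + 1)) k)) (fun _ _ h => h)
      exact ⟨0, Nat.zero_le _, this.1, this.2⟩
    · obtain ⟨f, hf0, hf⟩ := exists_ne_zero_mem_of_forall_ne_bot s'
        (fun p hp => (Finset.mem_filter.mp hp).2)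
      obtain ⟨p0, hp0⟩ := Finset.nonempty_iff_ne_empty.mpr hs'
      have hfu : ¬ IsUnit f := fun hu =>
        (hs p0 (Finset.mem_filter.mp hp0).1).ne_top
          (Ideal.eq_top_of_isUnit_mem _ (hf p0 hp0) hu)
      obtain ⟨Ψ, hΨ, hΨ0⟩ := exists_finite_algHom_X_zero f hf0 hfu
      obtain ⟨φ₂, hφ₂, hfam⟩ := ih (s'.image (cut Ψ)) (by
        intro q hq
        obtain ⟨p, hp, rfl⟩ := Finset.mem_image.mp hq
        haveI := hs p (Finset.mem_filter.mp hp).1
        infer_instance)
      have htot := total_isIntegral Ψ hΨ φ₂ hφ₂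
      refine ⟨total Ψ φ₂, htot, ?_⟩
      intro p hp
      by_cases hpb : p = ⊥
      · subst hpb
        have := bot_case (total Ψ φ₂) (injective_of_isIntegral _ htot)
        exact ⟨0, Nat.zero_le _, this.1, this.2⟩
      · have hp' : p ∈ s' := Finset.mem_filter.mpr ⟨hp, hpb⟩
        haveI := hs p hp
        obtain ⟨h, hh, hcomap, hdim⟩ := hfam (cut Ψ p) (Finset.mem_image_of_mem _ hp')
        have := core_step p Ψ hΨ (by rw [hΨ0]; exact hf p hp') φ₂ h hh hcomap hdim
        exact ⟨h + 1, by omega, this.1, this.2⟩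

/-- **Noether normalization adapted to a family of primes of a finitely generated domain.** -/
theorem exists_normalization_family (A : Type*) [CommRing A] [IsDomain A] [Algebra k A]
    [Algebra.FiniteType k A] (d : ℕ) (hd : ringKrullDim A = (d : WithBot ℕ∞))
    (r : ℕ) (q : Fin r → PrimeSpectrum A) (h : Fin r → ℕ) (hh : ∀ i, h i ≤ d)
    (hdim : ∀ i, ringKrullDim (A ⧸ (q i).asIdeal) = ((d - h i : ℕ) : WithBot ℕ∞)) :
    ∃ φ : MvPolynomial (Fin d) k →ₐ[k] A, φ.toRingHom.Finite ∧ Function.Injective φ ∧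
      ∀ i, (q i).asIdeal.comap φ = Ideal.span (MvPolynomial.X '' {l : Fin d | (l : ℕ) < h i}) := by
  classical
  obtain ⟨s, ν, hνinj, hνint⟩ := exists_integral_inj_algHom_of_fg k A
  have hs : s = d := by
    have h1 := Groth.Agent.H54.ringKrullDim_eq_of_ringHom_isIntegral_of_injective
      ν.toRingHom hνint hνinj
    rw [Groth.Agent.H54.ringKrullDim_mvPolynomial_fin_field, hd] at h1
    exact_mod_cast h1
  subst hs
  let p : Fin r → Ideal (MvPolynomial (Fin s) k) := fun i => (q i).asIdeal.comap ν.toRingHom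
  obtain ⟨ψ, hψ, hfam⟩ := coreFam s (Finset.univ.image p) (by
    intro x hx
    obtain ⟨i, _, rfl⟩ := Finset.mem_image.mp hx
    exact Ideal.comap_isPrime _ _)
  refine ⟨ν.comp ψ, ?_, ?_, ?_⟩
  · exact finite_of_isIntegral (ν.comp ψ) (RingHom.IsIntegral.trans _ _ hψ hνint)
  · exact hνinj.comp (injective_of_isIntegral _ hψ)
  · intro i
    obtain ⟨h', hh', hcomap, hdim'⟩ := hfam (p i) (Finset.mem_image_of_mem _ (Finset.mem_univ i))
    have h2 : ringKrullDim (MvPolynomial (Fin s) k ⧸ p i) =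
        ringKrullDim (A ⧸ (q i).asIdeal) :=
      ringKrullDim_quotient_comap_eq ν.toRingHom hνint _
    rw [hdim', hdim i] at h2
    have h3 : s - h' = s - h i := by exact_mod_cast h2
    have h4 : h' = h i := by
      have := hh i
      omega
    rw [← h4]
    exact hcomap

end Groth.Agent.H56.NoetherChain
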