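import Mathlib

/-!
# Extending chains of primes along an integral extension of a normal domain

* `exists_between_of_goingDown`: going-down between two primes, performed in the quotient.
* `exists_chain`: given an increasing family `𝔱 0 < 𝔱 1 < … < 𝔱 d` of primes of `R` with all
  `R ⧸ 𝔱 j` integrally closed, and finitely many primes of an integral extension `S` lying over some of
  the `𝔱 j` compatibly, there is a full chain `Q 0 < … < Q d` over the `𝔱 j` through the given primes.
-/

set_option autoImplicit false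

namespace Groth.Agent.H56.ChainExtend

open Ideal

section GD

variable {R S : Type*} [CommRing R] [CommRing S] [Algebra R S] [Algebra.IsIntegral R S]

/-- **Going-down between two primes.** -/
theorem exists_between_of_goingDown (q q' : Ideal S) [q.IsPrime] [q'.IsPrime] (hqq' : q ≤ q')
    [IsIntegrallyClosed (R ⧸ q.comap (algebraMap R S))]
    (p₁ : Ideal R) [p₁.IsPrime] (h0 : q.comap (algebraMap R S) ≤ p₁)
    (h1 : p₁ ≤ q'.comap (algebraMap R S)) :
    ∃ Q : Ideal S, Q.IsPrime ∧ q ≤ Q ∧ Q ≤ q' ∧ Q.comap (algebraMap R S) = p₁ := by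
  let p₀ : Ideal R := q.comap (algebraMap R S)
  letI : Algebra (R ⧸ p₀) (S ⧸ q) := Ideal.quotientAlgebra
  haveI : FaithfulSMul (R ⧸ p₀) (S ⧸ q) :=
    (faithfulSMul_iff_algebraMap_injective _ _).mpr Ideal.algebraMap_quotient_injective
  haveI : Algebra.IsIntegral (R ⧸ p₀) (S ⧸ q) := inferInstance
  let mR := Ideal.Quotient.mk p₀
  let mS := Ideal.Quotient.mk q
  have hpb1 : (p₁.map mR).IsPrime :=
    Ideal.map_isPrime_of_surjective Ideal.Quotient.mk_surjective (by simpa [mR] using h0)
  have hQb : (q'.map mS).IsPrime :=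
    Ideal.map_isPrime_of_surjective Ideal.Quotient.mk_surjective (by simpa [mS] using hqq')
  have hle : p₁.map mR ≤ (q'.map mS).under (R ⧸ p₀) := by
    rw [Ideal.map_le_iff_le_comap]
    intro x hx
    rw [Ideal.mem_comap, Ideal.under, Ideal.mem_comap]
    have : algebraMap (R ⧸ p₀) (S ⧸ q) (mR x) = mS (algebraMap R S x) := rfl
    rw [this]
    exact Ideal.mem_map_of_mem _ (h1 hx)
  obtain ⟨Pb, hPble, hPbp, hPbo⟩ :=
    Ideal.exists_ideal_le_liesOver_of_le (q'.map mS) hle
  refine ⟨Pb.comap mS, Ideal.comap_isPrime _ _, ?_, ?_, ?_⟩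
  · exact le_trans (le_of_eq Ideal.mk_ker.symm) (Ideal.ker_le_comap _)
  · calc Pb.comap mS ≤ (q'.map mS).comap mS := Ideal.comap_mono hPble
      _ = q' := by
        rw [Ideal.comap_map_of_surjective _ Ideal.Quotient.mk_surjective]
        have : Ideal.comap mS ⊥ = q := by
          rw [← RingHom.ker_eq_comap_bot]; exact Ideal.mk_ker
        rw [this]
        exact sup_eq_left.mpr hqq'
  · have hover : p₁.map mR = Pb.comap (algebraMap (R ⧸ p₀) (S ⧸ q)) := hPbo.over
    calc (Pb.comap mS).comap (algebraMap R S)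
        = (Pb.comap (algebraMap (R ⧸ p₀) (S ⧸ q))).comap mR := by
          rw [Ideal.comap_comap, Ideal.comap_comap]
          rfl
      _ = (p₁.map mR).comap mR := by rw [hover]
      _ = p₁ := by
        rw [Ideal.comap_map_of_surjective _ Ideal.Quotient.mk_surjective]
        have : Ideal.comap mR ⊥ = p₀ := by
          rw [← RingHom.ker_eq_comap_bot]; exact Ideal.mk_ker
        rw [this]
        exact sup_eq_left.mpr h0

end GD

section Chain

variable {R S : Type*} [CommRing R] [CommRing S] [Algebra R S] [Algebra.IsIntegral R S]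

/-- incomparability -/
theorem eq_of_le_of_comap_eq {Q Q' : Ideal S} [Q.IsPrime] (hle : Q ≤ Q')
    (h : Q.comap (algebraMap R S) = Q'.comap (algebraMap R S)) : Q = Q' := by
  by_contra hne
  have hlt : Q < Q' := lt_of_le_of_ne hle hne
  have := Ideal.IsIntegral.comap_lt_comap (R := R) hlt
  rw [h] at this
  exact lt_irrefl _ this

/-- **Filling in a chain of primes** over `𝔱 0 < … < 𝔱 d` through finitely many given primes. -/
theorem exists_chain (d : ℕ) (𝔱 : ℕ → Ideal R) (h𝔱p : ∀ j ≤ d, (𝔱 j).IsPrime)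
    (h𝔱n : ∀ j ≤ d, IsIntegrallyClosed (R ⧸ 𝔱 j))
    (h𝔱m : ∀ i j, i ≤ j → j ≤ d → 𝔱 i ≤ 𝔱 j) (h𝔱s : ∀ j < d, 𝔱 j ≠ 𝔱 (j + 1))
    {ι : Type*} [Fintype ι] (g : ι → Ideal S) (a : ι → ℕ) (hgp : ∀ i, (g i).IsPrime)
    (had : ∀ i, a i ≤ d) (hga : ∀ i, (g i).comap (algebraMap R S) = 𝔱 (a i))
    (hcompat : ∀ i i', a i ≤ a i' → g i ≤ g i') (i₀ : ι) (hi₀ : a i₀ = 0) :
    ∃ Q : ℕ → Ideal S, (∀ j ≤ d, (Q j).IsPrime ∧ (Q j).comap (algebraMap R S) = 𝔱 j) ∧
      (∀ j < d, Q j < Q (j + 1)) ∧ ∀ i, Q (a i) = g i := by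
  classical
  have key : ∀ m ≤ d, ∃ Q : ℕ → Ideal S, ∀ j, d - m ≤ j → j ≤ d →
      ((Q j).IsPrime ∧ (Q j).comap (algebraMap R S) = 𝔱 j ∧ (∀ i, a i ≤ j → g i ≤ Q j)) ∧
      (j < d → Q j ≤ Q (j + 1)) := by
    intro m
    induction m with
    | zero =>
      intro _
      obtain ⟨i1, -, hi1⟩ := Finset.exists_max_image Finset.univ a ⟨i₀, Finset.mem_univ _⟩
      haveI := h𝔱p d le_rfl
      haveI := hgp i1
      obtain ⟨Q0, hQ0ge, hQ0p, hQ0c⟩ :=
        Ideal.exists_ideal_over_prime_of_isIntegral_of_isPrime (𝔱 d) (g i1)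
          (by rw [hga]; exact h𝔱m _ _ (had i1) le_rfl)
      refine ⟨fun _ => Q0, ?_⟩
      intro j hj1 hj2
      have hjd : j = d := by omega
      subst hjd
      exact ⟨⟨hQ0p, hQ0c, fun i _ =>
        le_trans (hcompat i i1 (hi1 i (Finset.mem_univ _))) hQ0ge⟩,
        fun h => absurd h (lt_irrefl _)⟩
    | succ m ih =>
      intro hm
      obtain ⟨Q, hQ⟩ := ih (by omega)
      obtain ⟨j0, hj0⟩ : ∃ j0, j0 = d - (m + 1) := ⟨_, rfl⟩
      have hj0lt : j0 < d := by omega
      obtain ⟨⟨hQp, hQc, hQg⟩, -⟩ := hQ (j0 + 1) (by omega) (by omega)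
      obtain ⟨i1, hi1mem, hi1⟩ := Finset.exists_max_image
        (Finset.univ.filter (fun i => a i ≤ j0)) a ⟨i₀, by simp [hi₀]⟩
      have hi1j0 : a i1 ≤ j0 := (Finset.mem_filter.mp hi1mem).2
      haveI := hgp i1
      haveI := h𝔱p j0 (by omega)
      haveI : IsIntegrallyClosed (R ⧸ (g i1).comap (algebraMap R S)) := by
        rw [hga]; exact h𝔱n _ (had i1)
      obtain ⟨Qn, hQnp, hQn1, hQn2, hQnc⟩ := exists_between_of_goingDown (g i1) (Q (j0 + 1))
        (hQg i1 (by omega)) (𝔱 j0) (by rw [hga]; exact h𝔱m _ _ hi1j0 (by omega))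
        (by rw [hQc]; exact h𝔱m _ _ (by omega) (by omega))
      refine ⟨Function.update Q j0 Qn, ?_⟩
      intro j hj1 hj2
      rcases eq_or_ne j j0 with hjj | hjj
      · rw [hjj, Function.update_self, Function.update_of_ne (by omega)]
        refine ⟨⟨hQnp, hQnc, fun i hi => ?_⟩, fun _ => hQn2⟩
        have h1 : a i ≤ a i1 := hi1 i (Finset.mem_filter.mpr ⟨Finset.mem_univ _, hi⟩)
        exact le_trans (hcompat i i1 h1) hQn1
      · rw [Function.update_of_ne hjj, Function.update_of_ne (by omega)]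
        exact hQ j (by omega) hj2
  obtain ⟨Q, hQ⟩ := key d le_rfl
  refine ⟨Q, ?_, ?_, ?_⟩
  · intro j hj
    obtain ⟨⟨h1, h2, -⟩, -⟩ := hQ j (by omega) hj
    exact ⟨h1, h2⟩
  · intro j hj
    obtain ⟨⟨h1, h2, -⟩, h3⟩ := hQ j (by omega) hj.le
    obtain ⟨⟨h1', h2', -⟩, -⟩ := hQ (j + 1) (by omega) hj
    refine lt_of_le_of_ne (h3 hj) ?_
    intro heq
    apply h𝔱s j hj
    rw [← h2, ← h2', heq]
  · intro i
    obtain ⟨⟨h1, h2, h3⟩, -⟩ := hQ (a i) (by omega) (had i)
    haveI := hgp i
    exact (eq_of_le_of_comap_eq (R := R) (h3 i le_rfl) (by rw [hga, h2])).symm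

end Chain

section Vars

open MvPolynomial

variable (k : Type*) [Field k] (d : ℕ)

/-- the ideal generated by the first `j` variables -/
noncomputable def tIdeal (j : ℕ) : Ideal (MvPolynomial (Fin d) k) :=
  Ideal.span (X '' {l : Fin d | (l : ℕ) < j})

theorem tIdeal_mono {i j : ℕ} (h : i ≤ j) : tIdeal k d i ≤ tIdeal k d j :=
  Ideal.span_mono (Set.image_mono (fun _ hl => lt_of_lt_of_le hl h))

theorem X_notMem_tIdeal (j : Fin d) : (X j : MvPolynomial (Fin d) k) ∉ tIdeal k d j.1 := by
  classical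
  rw [tIdeal, mem_ideal_span_X_image]
  push_neg
  refine ⟨Finsupp.single j 1, ?_, ?_⟩
  · rw [X, support_monomial, if_neg one_ne_zero]
    exact Finset.mem_singleton_self _
  · intro i hi
    have hij : j ≠ i := by
      rintro rfl
      exact lt_irrefl _ (show (j : ℕ) < j from hi)
    rw [Finsupp.single_apply, if_neg hij]

theorem tIdeal_ne (j : ℕ) (hj : j < d) : tIdeal k d j ≠ tIdeal k d (j + 1) := by
  intro h
  apply X_notMem_tIdeal k d ⟨j, hj⟩
  change X ⟨j, hj⟩ ∈ tIdeal k d j
  rw [h]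
  exact Ideal.subset_span ⟨⟨j, hj⟩, Nat.lt_succ_self j, rfl⟩

/-- the projection killing the first `j` variables -/
noncomputable def proj (j : ℕ) :
    MvPolynomial (Fin d) k →ₐ[k] MvPolynomial {l : Fin d // ¬ (l : ℕ) < j} k :=
  killCompl (Subtype.val_injective :
    Function.Injective (Subtype.val : {l : Fin d // ¬ (l : ℕ) < j} → Fin d))

theorem proj_X_of_lt (j : ℕ) (l : Fin d) (hl : (l : ℕ) < j) : proj k d j (X l) = 0 := by
  rw [proj, killCompl, aeval_X, dif_neg]
  rintro ⟨⟨l', hl'⟩, rfl⟩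
  exact hl' hl

theorem proj_X_of_not_lt (j : ℕ) (l : Fin d) (hl : ¬ (l : ℕ) < j) :
    proj k d j (X l) = X ⟨l, hl⟩ := by
  have : (X l : MvPolynomial (Fin d) k) = rename Subtype.val (X (⟨l, hl⟩ :
      {l : Fin d // ¬ (l : ℕ) < j})) := by
    rw [rename_X]
  rw [this, proj, killCompl_rename_app]

theorem proj_surjective (j : ℕ) : Function.Surjective (proj k d j) := by
  intro p
  exact ⟨rename Subtype.val p, by rw [proj, killCompl_rename_app]⟩

theorem ker_proj (j : ℕ) : RingHom.ker (proj k d j).toRingHom = tIdeal k d j := by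
  apply le_antisymm
  · intro p hp
    have hp0 : proj k d j p = 0 := hp
    let F1 : MvPolynomial (Fin d) k →ₐ[k] (MvPolynomial (Fin d) k ⧸ tIdeal k d j) :=
      Ideal.Quotient.mkₐ k (tIdeal k d j)
    let F2 : MvPolynomial (Fin d) k →ₐ[k] (MvPolynomial (Fin d) k ⧸ tIdeal k d j) :=
      F1.comp ((rename Subtype.val).comp (proj k d j))
    have hF : F1 = F2 := by
      apply MvPolynomial.algHom_ext
      intro l
      by_cases hl : (l : ℕ) < j
      · have h1 : F1 (X l) = 0 := by
          change Ideal.Quotient.mk _ (X l) = 0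
          rw [Ideal.Quotient.eq_zero_iff_mem]
          exact Ideal.subset_span ⟨l, hl, rfl⟩
        have h2 : F2 (X l) = 0 := by
          change F1 (rename Subtype.val (proj k d j (X l))) = 0
          rw [proj_X_of_lt k d j l hl, map_zero, map_zero]
        rw [h1, h2]
      · change F1 (X l) = F1 (rename Subtype.val (proj k d j (X l)))
        rw [proj_X_of_not_lt k d j l hl, rename_X]
    have h1 : F1 p = 0 := by
      rw [hF]
      change F1 (rename Subtype.val (proj k d j p)) = 0
      rw [hp0, map_zero, map_zero]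
    exact Ideal.Quotient.eq_zero_iff_mem.mp h1
  · rw [tIdeal, Ideal.span_le]
    rintro _ ⟨l, hl, rfl⟩
    exact proj_X_of_lt k d j l hl

instance tIdeal_isPrime (j : ℕ) : (tIdeal k d j).IsPrime := by
  rw [← ker_proj]
  exact RingHom.ker_isPrime _

/-- `k[T]/(T_l : l < j)` is a polynomial ring -/
noncomputable def quotEquiv (j : ℕ) :
    (MvPolynomial (Fin d) k ⧸ tIdeal k d j) ≃+* MvPolynomial {l : Fin d // ¬ (l : ℕ) < j} k :=
  (Ideal.quotEquivOfEq (ker_proj k d j).symm).trans
    (RingHom.quotientKerEquivOfSurjective (f := (proj k d j).toRingHom) (proj_surjective k d j))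

instance tIdeal_isIntegrallyClosed (j : ℕ) :
    IsIntegrallyClosed (MvPolynomial (Fin d) k ⧸ tIdeal k d j) :=
  IsIntegrallyClosed.of_equiv (quotEquiv k d j).symm

theorem tIdeal_zero : tIdeal k d 0 = ⊥ := by
  have : {l : Fin d | (l : ℕ) < 0} = ∅ := by ext; simp
  rw [tIdeal, this, Set.image_empty, Ideal.span_empty]

end Vars

section Extend

open MvPolynomial

/-- **Extending a chain adapted to a Noether normalization to a full chain.** -/
theorem exists_extension (k A : Type*) [Field k] [CommRing A] [IsDomain A] [Algebra k A] (d : ℕ)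
    (r : ℕ) (q : Fin r → PrimeSpectrum A) (hq : StrictMono q) (h : Fin r → ℕ) (hh : ∀ i, h i ≤ d)
    (φ : MvPolynomial (Fin d) k →ₐ[k] A) (hφf : φ.toRingHom.Finite) (hφi : Function.Injective φ)
    (hφq : ∀ i, (q i).asIdeal.comap φ =
      Ideal.span (MvPolynomial.X '' {l : Fin d | (l : ℕ) < h i})) :
    ∃ Q : ℕ → PrimeSpectrum A,
      (∀ j, j ≤ d → (Q j).asIdeal.comap φ =
        Ideal.span (MvPolynomial.X '' {l : Fin d | (l : ℕ) < j})) ∧
      (∀ j, j < d → Q j < Q (j + 1)) ∧ (∀ i, Q (h i) = q i) := by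
  classical
  letI : Algebra (MvPolynomial (Fin d) k) A := φ.toRingHom.toAlgebra
  haveI : Module.Finite (MvPolynomial (Fin d) k) A := hφf
  haveI : Algebra.IsIntegral (MvPolynomial (Fin d) k) A := Algebra.IsIntegral.of_finite _ _
  have hcomap : ∀ I : Ideal A, I.comap (algebraMap (MvPolynomial (Fin d) k) A) = I.comap φ :=
    fun I => Ideal.ext fun x => Iff.rfl
  have hbot : (⊥ : Ideal A).comap φ = tIdeal k d 0 := by
    rw [tIdeal_zero]
    ext x
    rw [Ideal.mem_comap, Ideal.mem_bot, Ideal.mem_bot]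
    exact ⟨fun hx => hφi (hx.trans (map_zero φ).symm), fun hx => by rw [hx, map_zero]⟩
  let g : Option (Fin r) → Ideal A := fun o => o.elim ⊥ (fun i => (q i).asIdeal)
  let a : Option (Fin r) → ℕ := fun o => o.elim 0 h
  have hgp : ∀ o, (g o).IsPrime := by
    intro o
    cases o with
    | none => exact Ideal.isPrime_bot
    | some i => exact (q i).isPrime
  have hga : ∀ o, (g o).comap (algebraMap (MvPolynomial (Fin d) k) A) = tIdeal k d (a o) := by
    intro o
    rw [hcomap]
    cases o with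
    | none => exact hbot
    | some i => exact hφq i
  have hcompat : ∀ o o', a o ≤ a o' → g o ≤ g o' := by
    intro o o' hoo'
    cases o with
    | none => exact bot_le
    | some i =>
      cases o' with
      | none =>
        have hi0 : h i = 0 := Nat.le_zero.mp hoo'
        haveI : (⊥ : Ideal A).IsPrime := Ideal.isPrime_bot
        have : (⊥ : Ideal A) = (q i).asIdeal := by
          apply eq_of_le_of_comap_eq (R := MvPolynomial (Fin d) k) bot_le
          rw [hcomap, hcomap, hbot, hφq i, hi0]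
          rfl
        exact le_of_eq this.symm
      | some j =>
        change (q i).asIdeal ≤ (q j).asIdeal
        by_cases hij : i ≤ j
        · exact hq.monotone hij
        · exfalso
          have hlt : q j < q i := hq (lt_of_not_ge hij)
          haveI := (q j).isPrime
          have h1 := Ideal.IsIntegral.comap_lt_comap (R := MvPolynomial (Fin d) k)
            (PrimeSpectrum.asIdeal_lt_asIdeal _ _ |>.mpr hlt)
          rw [hcomap, hcomap, hφq, hφq] at h1
          exact absurd (tIdeal_mono k d hoo') (not_le_of_gt h1)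
  obtain ⟨Qi, hQi1, hQi2, hQi3⟩ := exists_chain (R := MvPolynomial (Fin d) k) (S := A) d
    (tIdeal k d) (fun j _ => inferInstance) (fun j _ => inferInstance)
    (fun i j hij _ => tIdeal_mono k d hij) (fun j hj => tIdeal_ne k d j hj)
    g a hgp (by
      intro o
      cases o with
      | none => exact Nat.zero_le _
      | some i => exact hh i) hga hcompat none rfl
  refine ⟨fun j => if hj : j ≤ d then ⟨Qi j, (hQi1 j hj).1⟩ else ⟨⊥, Ideal.isPrime_bot⟩,
    ?_, ?_, ?_⟩
  · intro j hj
    simp only [dif_pos hj]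
    rw [← hcomap]
    exact (hQi1 j hj).2
  · intro j hj
    have hj1 : j ≤ d := hj.le
    have hj2 : j + 1 ≤ d := hj
    simp only [dif_pos hj1, dif_pos hj2]
    exact (PrimeSpectrum.asIdeal_lt_asIdeal _ _).mp (hQi2 j hj)
  · intro i
    simp only [dif_pos (hh i)]
    apply PrimeSpectrum.ext
    exact hQi3 (some i)

end Extend

end Groth.Agent.H56.ChainExtend
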