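import Groth.Agent.H29.Exal
import Mathlib.RingTheory.Filtration
import Mathlib.RingTheory.Ideal.Maps
import Mathlib.RingTheory.Ideal.Quotient.Operations
import Mathlib.LinearAlgebra.Finsupp.LinearCombination
import Mathlib.RingTheory.MvPowerSeries.Equiv
import Mathlib.RingTheory.AdicCompletion.Completeness
import Mathlib.Tactic.LinearCombination
import Mathlib.Tactic.Ring

/-!
# Artin–Rees for extensions by a module killed by an ideal, and extensions of power series rings

* `exists_pow_inf_ker`: for `B` Noetherian, `𝔞` an ideal of `B` and `L` a `B`-module killed by `𝔞`,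
  there is `n` such that for every extension `X` of `B` by `L` the ideal `(p⁻¹ 𝔞)^(n+1)` of the
  middle ring meets the kernel of the projection only in `0`.
* `isTrivial_of_quotient_lift`: a criterion for an extension to be trivial.
* `liftHom`: the map `C ⊕ L → E` attached to a lift `C → E` of `C → B`.
* `sub_truncTotal_mem`: a power series minus its truncation lies in the power of the ideal of
  variables.
* `powerSeries_isTrivial`: every extension of `Λ[[X_1..X_d]]` (`Λ` Noetherian) by a module killed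
  by the variables is trivial.
-/

set_option autoImplicit false

namespace Groth.Agent.H56.ExalAR

open Exal Groth.Agent.H29.ExalL

universe u v

section General

variable {A : Type u} {B L : Type v} [CommRing A] [CommRing B] [Algebra A B] [AddCommGroup L]
  [Module B L]

/-- the preimage in the middle ring of an ideal of `B` -/
def nE (I : Ideal B) (X : Ext A B L) : Ideal X.E := Ideal.comap X.proj I

lemma mem_nE (I : Ideal B) (X : Ext A B L) (e : X.E) : e ∈ nE I X ↔ X.proj e ∈ I := Iff.rfl

lemma map_nE (I : Ideal B) (X : Ext A B L) : Ideal.map X.proj (nE I X) = I :=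
  Ideal.map_comap_of_surjective _ X.isExtension.proj_surjective I

lemma map_nE_pow (I : Ideal B) (X : Ext A B L) (n : ℕ) :
    Ideal.map X.proj (nE I X ^ n) = I ^ n := by
  rw [Ideal.map_pow, map_nE]

variable {I : Ideal B} (hL : ∀ a ∈ I, ∀ z : L, a • z = 0) (X : Ext A B L)
include hL

lemma mul_eq_zero_of_mem {m w : X.E} (hm : m ∈ nE I X) (hw : X.proj w = 0) : m * w = 0 := by
  obtain ⟨z, rfl⟩ := (X.isExtension.exact w).mp hw
  rw [X.isExtension.mul_incl, hL _ hm, map_zero]

lemma theta_congr {d : ℕ} (y : Fin d → X.E) (hy : ∀ i, y i ∈ nE I X) (a a' : Fin d → X.E)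
    (h : ∀ i, X.proj (a i) = X.proj (a' i)) : ∑ i, a i * y i = ∑ i, a' i * y i := by
  refine Finset.sum_congr rfl (fun i _ => ?_)
  have : (a i - a' i) * y i = 0 := by
    rw [mul_comm]
    exact mul_eq_zero_of_mem hL X (hy i) (by rw [map_sub, h i, sub_self])
  linear_combination this

lemma exists_rep {d : ℕ} (x : Fin d → B) (hx : Ideal.span (Set.range x) = I)
    (y : Fin d → X.E) (hy : ∀ i, X.proj (y i) = x i) (n : ℕ) (hn : 1 ≤ n) (e : X.E)
    (he : e ∈ nE I X ^ (n + 1)) :
    ∃ a : Fin d → X.E, (∀ i, a i ∈ nE I X ^ n) ∧ e = ∑ i, a i * y i := by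
  rw [pow_succ] at he
  refine Submodule.mul_induction_on he ?_ ?_
  · intro p hp q hq
    have hq' : X.proj q ∈ Ideal.span (Set.range x) := by rw [hx]; exact hq
    obtain ⟨c, hc⟩ := Ideal.mem_span_range_iff_exists_fun.mp hq'
    choose c' hc' using fun i => X.isExtension.proj_surjective (c i)
    have hp1 : p ∈ nE I X := Ideal.pow_le_self (by omega) hp
    have h0 : p * (q - ∑ i, c' i * y i) = 0 := by
      refine mul_eq_zero_of_mem hL X hp1 ?_
      rw [map_sub, map_sum, ← hc, sub_eq_zero]
      refine Finset.sum_congr rfl (fun i _ => ?_)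
      rw [map_mul, hc', hy]
    refine ⟨fun i => p * c' i, fun i => Ideal.mul_mem_right _ _ hp, ?_⟩
    have : p * q = p * (q - ∑ i, c' i * y i) + ∑ i, p * c' i * y i := by
      rw [mul_sub, Finset.mul_sum]
      simp only [mul_assoc]
      ring
    rw [this, h0, zero_add]
  · rintro e₁ e₂ ⟨a₁, ha₁, rfl⟩ ⟨a₂, ha₂, rfl⟩
    refine ⟨fun i => a₁ i + a₂ i, fun i => add_mem (ha₁ i) (ha₂ i), ?_⟩
    rw [← Finset.sum_add_distrib]
    refine Finset.sum_congr rfl (fun i _ => ?_)
    ring

lemma theta_eq_zero_of_mem_smul_ker {d : ℕ} (x : Fin d → B)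
    (y : Fin d → X.E) (hy : ∀ i, X.proj (y i) = x i) (r : Fin d → B)
    (hr : r ∈ I • LinearMap.ker (Fintype.linearCombination B x)) :
    ∃ a : Fin d → X.E, (∀ i, X.proj (a i) = r i) ∧ ∑ i, a i * y i = 0 := by
  refine Submodule.smul_induction_on hr ?_ ?_
  · intro m hm κ hκ
    obtain ⟨m', hm'⟩ := X.isExtension.proj_surjective m
    choose u hu using fun i => X.isExtension.proj_surjective (κ i)
    refine ⟨fun i => m' * u i, fun i => ?_, ?_⟩
    · rw [map_mul, hm', hu]
      rfl
    · have h1 : X.proj (∑ i, u i * y i) = 0 := by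
        rw [LinearMap.mem_ker, Fintype.linearCombination_apply] at hκ
        rw [map_sum, ← hκ]
        refine Finset.sum_congr rfl (fun i _ => ?_)
        rw [map_mul, hu, hy, smul_eq_mul]
      have h2 : m' * ∑ i, u i * y i = 0 :=
        mul_eq_zero_of_mem hL X (by show X.proj m' ∈ I; rw [hm']; exact hm) h1
      rw [← h2, Finset.mul_sum]
      refine Finset.sum_congr rfl (fun i _ => ?_)
      ring
  · rintro r₁ r₂ ⟨a₁, ha₁, h₁⟩ ⟨a₂, ha₂, h₂⟩
    refine ⟨fun i => a₁ i + a₂ i, fun i => by rw [map_add, ha₁, ha₂]; rfl, ?_⟩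
    have : ∑ i, (a₁ i + a₂ i) * y i = ∑ i, a₁ i * y i + ∑ i, a₂ i * y i := by
      rw [← Finset.sum_add_distrib]
      refine Finset.sum_congr rfl (fun i _ => ?_)
      ring
    rw [this, h₁, h₂, add_zero]

omit X in
/-- Artin–Rees: a power of the preimage of `I` meets the kernel trivially, uniformly in the
extension. -/
theorem exists_pow_inf_ker [IsNoetherianRing B] :
    ∃ n : ℕ, ∀ X : Ext A B L, ∀ e ∈ nE I X ^ (n + 1), X.proj e = 0 → e = 0 := by
  obtain ⟨d, x, hx⟩ := Submodule.fg_iff_exists_fin_generating_family.mp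
    (IsNoetherian.noetherian I)
  obtain ⟨c, hc⟩ := Ideal.exists_pow_inf_eq_pow_smul I
    (LinearMap.ker (Fintype.linearCombination B x))
  refine ⟨c + 1, fun X => ?_⟩
  intro e he hpe
  choose y hy using fun i => X.isExtension.proj_surjective (x i)
  have hym : ∀ i, y i ∈ nE I X := fun i => by
    show X.proj (y i) ∈ I
    rw [hy, ← hx]
    exact Ideal.subset_span ⟨i, rfl⟩
  obtain ⟨a, ha, rfl⟩ := exists_rep hL X x hx y hy (c + 1) (by omega) e he
  have hmap : ∀ i, X.proj (a i) ∈ I ^ (c + 1) := fun i => by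
    have := Ideal.mem_map_of_mem X.proj (ha i)
    rwa [map_nE_pow] at this
  set r : Fin d → B := fun i => X.proj (a i) with hrdef
  have hr1 : r ∈ I ^ (c + 1) • (⊤ : Submodule B (Fin d → B)) := by
    rw [pi_eq_sum_univ r]
    refine Submodule.sum_mem _ (fun i _ => Submodule.smul_mem_smul (hmap i) trivial)
  have hr2 : r ∈ LinearMap.ker (Fintype.linearCombination B x) := by
    rw [LinearMap.mem_ker, Fintype.linearCombination_apply, ← hpe, map_sum]
    refine Finset.sum_congr rfl (fun i _ => ?_)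
    rw [map_mul, hy, smul_eq_mul]
  have hr3 : r ∈ I • LinearMap.ker (Fintype.linearCombination B x) := by
    have h3 := hc (c + 1) (by omega)
    have h4 : r ∈ I ^ (c + 1) • (⊤ : Submodule B (Fin d → B))
        ⊓ LinearMap.ker (Fintype.linearCombination B x) := ⟨hr1, hr2⟩
    rw [h3, Nat.add_sub_cancel_left, pow_one] at h4
    have hle : I • (I ^ c • (⊤ : Submodule B (Fin d → B))
        ⊓ LinearMap.ker (Fintype.linearCombination B x))
        ≤ I • LinearMap.ker (Fintype.linearCombination B x) :=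
      smul_mono_right _ inf_le_right
    exact hle h4
  obtain ⟨a', ha', h0⟩ := theta_eq_zero_of_mem_smul_ker hL X x y hy r hr3
  rw [← h0]
  exact theta_congr hL X y hym a a' (fun i => (ha' i).symm)

end General

section Criterion

variable {A : Type u} {B L : Type v} [CommRing A] [CommRing B] [Algebra A B] [AddCommGroup L]
  [Module B L]

/-- If an ideal `I` of the middle ring meets the kernel trivially and `B` maps to `E/I` compatibly
with the projection, the extension is trivial. -/
theorem isTrivial_of_quotient_lift (X : Ext A B L) (I : Ideal X.E)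
    (hI : ∀ e ∈ I, X.proj e = 0 → e = 0) (ψ : B →ₐ[A] X.E ⧸ I)
    (hψ : ∀ b, ∃ e, X.proj e = b ∧ Ideal.Quotient.mk I e = ψ b) : X.IsTrivial := by
  let qI : X.E →ₐ[A] X.E ⧸ I := Ideal.Quotient.mkₐ A I
  let Γ : Subalgebra A X.E := AlgHom.equalizer qI (ψ.comp X.proj)
  have hΓ : ∀ e, e ∈ Γ ↔ qI e = ψ (X.proj e) := fun e => Iff.rfl
  let p : Γ →ₐ[A] B := X.proj.comp Γ.val
  have hp : Function.Bijective p := by
    constructor
    · intro γ γ' h
      have h1 : X.proj (γ : X.E) = X.proj (γ' : X.E) := h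
      have h2 : qI (γ : X.E) = qI (γ' : X.E) := by
        rw [(hΓ _).mp γ.2, (hΓ _).mp γ'.2, h1]
      have h3 : (γ : X.E) - γ' ∈ I := Ideal.Quotient.eq.mp h2
      have := hI _ h3 (by rw [map_sub, h1, sub_self])
      exact Subtype.ext (sub_eq_zero.mp this)
    · intro b
      obtain ⟨e, he, he'⟩ := hψ b
      refine ⟨⟨e, ?_⟩, he⟩
      rw [hΓ, he]
      exact he'
  refine ⟨Γ.val.comp ((AlgEquiv.ofBijective p hp).symm : B →ₐ[A] Γ), fun r => ?_⟩
  exact (AlgEquiv.ofBijective p hp).apply_symm_apply r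

end Criterion

section Lift

attribute [local instance] Exal.opModule Exal.isCentralScalar_opModule

variable {A : Type u} {B L : Type v} [CommRing A] [CommRing B] [Algebra A B] [AddCommGroup L]
  [Module B L] {C : Type v} [CommRing C] [Algebra A C] [Algebra C B] [IsScalarTower A C B]
  [Module C L] [IsScalarTower C B L]

/-- the ring map `C ⊕ L → E`, `(c, z) ↦ t c + i z`, attached to a lift `t : C → E` of `C → B` -/
noncomputable def liftRingHom (X : Ext A B L) (t : C →ₐ[A] X.E)
    (ht : ∀ c, X.proj (t c) = algebraMap C B c) : TrivSqZeroExt C L →+* X.E where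
  toFun w := t w.fst + X.incl w.snd
  map_one' := by simp
  map_mul' x y := by
    rw [TrivSqZeroExt.fst_mul, TrivSqZeroExt.snd_mul, map_mul, map_add]
    have h1 : X.incl (x.fst • y.snd) = t x.fst * X.incl y.snd := by
      rw [X.isExtension.mul_incl, ht, algebraMap_smul]
    have h2 : X.incl (MulOpposite.op y.fst • x.snd) = t y.fst * X.incl x.snd := by
      rw [X.isExtension.mul_incl, ht, algebraMap_smul, op_smul_eq_smul]
    have h3 := incl_mul_incl X x.snd y.snd
    rw [h1, h2]
    linear_combination -h3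
  map_zero' := by simp
  map_add' x y := by
    rw [TrivSqZeroExt.fst_add, TrivSqZeroExt.snd_add, map_add, map_add]
    abel

/-- the algebra map `C ⊕ L → E`, `(c, z) ↦ t c + i z`, attached to a lift `t : C → E` of `C → B` -/
noncomputable def liftHom (X : Ext A B L) (t : C →ₐ[A] X.E)
    (ht : ∀ c, X.proj (t c) = algebraMap C B c) : (Ext.trivial A C L).E →ₐ[A] X.E where
  toFun w := liftRingHom X t ht w
  map_one' := (liftRingHom X t ht).map_one
  map_mul' := (liftRingHom X t ht).map_mul
  map_zero' := (liftRingHom X t ht).map_zero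
  map_add' := (liftRingHom X t ht).map_add
  commutes' a := by
    show t (TrivSqZeroExt.fst (TrivSqZeroExt.inl (algebraMap A C a) : TrivSqZeroExt C L))
      + X.incl (TrivSqZeroExt.snd (TrivSqZeroExt.inl (algebraMap A C a) : TrivSqZeroExt C L)) = _
    rw [TrivSqZeroExt.fst_inl, TrivSqZeroExt.snd_inl, map_zero, add_zero, AlgHom.commutes]

lemma liftHom_apply (X : Ext A B L) (t : C →ₐ[A] X.E)
    (ht : ∀ c, X.proj (t c) = algebraMap C B c) (w : (Ext.trivial A C L).E) :
    liftHom X t ht w = t ((Ext.trivial A C L).proj w)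
      + X.incl (TrivSqZeroExt.snd (R := C) (M := L) w) := rfl

lemma proj_liftHom (X : Ext A B L) (t : C →ₐ[A] X.E)
    (ht : ∀ c, X.proj (t c) = algebraMap C B c) (w : (Ext.trivial A C L).E) :
    X.proj (liftHom X t ht w) = algebraMap C B ((Ext.trivial A C L).proj w) := by
  rw [liftHom_apply, map_add, ht, proj_incl, add_zero]

lemma liftHom_incl (X : Ext A B L) (t : C →ₐ[A] X.E)
    (ht : ∀ c, X.proj (t c) = algebraMap C B c) (z : L) :
    liftHom X t ht ((Ext.trivial A C L).incl z) = X.incl z := by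
  rw [liftHom_apply, proj_incl, map_zero, zero_add]
  rfl

lemma liftHom_surjective (X : Ext A B L) (t : C →ₐ[A] X.E)
    (ht : ∀ c, X.proj (t c) = algebraMap C B c)
    (hsurj : Function.Surjective (algebraMap C B)) : Function.Surjective (liftHom X t ht) := by
  intro x
  obtain ⟨c, hc⟩ := hsurj (X.proj x)
  obtain ⟨z, hz⟩ := exists_incl_of_proj_eq X (x := x) (y := t c) (by rw [ht, hc])
  refine ⟨(TrivSqZeroExt.inl c + TrivSqZeroExt.inr z : TrivSqZeroExt C L), ?_⟩
  show t (TrivSqZeroExt.fst (TrivSqZeroExt.inl c + TrivSqZeroExt.inr z : TrivSqZeroExt C L))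
    + X.incl (TrivSqZeroExt.snd (TrivSqZeroExt.inl c + TrivSqZeroExt.inr z : TrivSqZeroExt C L)) = x
  simp only [TrivSqZeroExt.fst_add, TrivSqZeroExt.fst_inl, TrivSqZeroExt.fst_inr, add_zero,
    TrivSqZeroExt.snd_add, TrivSqZeroExt.snd_inl, TrivSqZeroExt.snd_inr, zero_add]
  rw [hz]
  ring

end Lift

section KerEq

/-- two surjective algebra maps with the same kernel have isomorphic targets -/
noncomputable def algEquivOfKerEq {R T E E' : Type*} [CommRing R] [CommRing T] [CommRing E]
    [CommRing E'] [Algebra R T] [Algebra R E] [Algebra R E']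
    (f : T →ₐ[R] E) (g : T →ₐ[R] E') (hf : Function.Surjective f) (hg : Function.Surjective g)
    (h : RingHom.ker f = RingHom.ker g) : E ≃ₐ[R] E' :=
  (Ideal.quotientKerAlgEquivOfSurjective hf).symm.trans
    ((Ideal.quotientEquivAlgOfEq R h).trans (Ideal.quotientKerAlgEquivOfSurjective hg))

theorem algEquivOfKerEq_apply {R T E E' : Type*} [CommRing R] [CommRing T] [CommRing E]
    [CommRing E'] [Algebra R T] [Algebra R E] [Algebra R E']
    (f : T →ₐ[R] E) (g : T →ₐ[R] E') (hf : Function.Surjective f) (hg : Function.Surjective g)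
    (h : RingHom.ker f = RingHom.ker g) (t : T) :
    algEquivOfKerEq f g hf hg h (f t) = g t := by
  unfold algEquivOfKerEq
  rw [AlgEquiv.trans_apply, AlgEquiv.trans_apply, Ideal.quotientKerAlgEquivOfSurjective_symm_apply,
    Ideal.quotientEquivAlgOfEq_mk, Ideal.quotientKerAlgEquivOfSurjective_mk]

end KerEq

section Trunc

open MvPowerSeries

/-- a power series minus its truncation in total degree `< N` lies in the `N`-th power of the ideal
generated by the variables -/
lemma sub_truncTotal_mem {σ R : Type*} [Finite σ] [CommRing R] (N : ℕ) (p : MvPowerSeries σ R) :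
    p - ((truncTotal N p : MvPolynomial σ R) : MvPowerSeries σ R) ∈
      Ideal.span (Set.range (MvPowerSeries.X : σ → MvPowerSeries σ R)) ^ N := by
  set I := MvPolynomial.idealOfVars σ R with hI
  set Φ := toAdicCompletionAlgEquiv σ R with hΦ
  set q := p - ((truncTotal N p : MvPolynomial σ R) : MvPowerSeries σ R) with hq
  have hcoe : ∀ a ∈ I ^ N, algebraMap (MvPolynomial σ R) (MvPowerSeries σ R) a ∈
      Ideal.span (Set.range (MvPowerSeries.X : σ → MvPowerSeries σ R)) ^ N := by
    intro a ha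
    have h1 := Ideal.mem_map_of_mem (algebraMap (MvPolynomial σ R) (MvPowerSeries σ R)) ha
    rw [Ideal.map_pow] at h1
    refine Ideal.pow_right_mono ?_ N h1
    rw [hI, Ideal.map_span, Ideal.span_le]
    rintro _ ⟨_, ⟨i, rfl⟩, rfl⟩
    refine Ideal.subset_span ⟨i, ?_⟩
    rw [MvPowerSeries.algebraMap_apply', Algebra.algebraMap_self, MvPowerSeries.map_id,
      RingHom.id_apply, MvPolynomial.coe_X]
  have h1 : AdicCompletion.eval I (MvPolynomial σ R) N (Φ q) = 0 := by
    rw [hq, map_sub, map_sub, hΦ, toAdicCompletionAlgEquiv_apply, toAdicCompletionAlgEquiv_apply,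
      toAdicCompletion_coe, sub_eq_zero]
    rfl
  have h2 : Φ q ∈ I ^ N • (⊤ : Submodule (MvPolynomial σ R)
      (AdicCompletion I (MvPolynomial σ R))) := by
    rw [AdicCompletion.pow_smul_top_eq_ker_eval (MvPolynomial.idealOfVars_fg σ R)]
    exact h1
  have h3 : ∀ w ∈ I ^ N • (⊤ : Submodule (MvPolynomial σ R)
      (AdicCompletion I (MvPolynomial σ R))),
      Φ.symm w ∈ Ideal.span (Set.range (MvPowerSeries.X : σ → MvPowerSeries σ R)) ^ N := by
    intro w hw
    refine Submodule.smul_induction_on hw ?_ ?_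
    · intro a ha x _
      rw [map_smul, Algebra.smul_def]
      exact Ideal.mul_mem_right _ _ (hcoe a ha)
    · intro x y hx hy
      rw [map_add]
      exact add_mem hx hy
  have := h3 _ h2
  rwa [Φ.symm_apply_apply] at this

end Trunc

section PowerSeries

open MvPowerSeries

variable {Λ : Type u} [CommRing Λ] [IsNoetherianRing Λ] {d : ℕ} {L : Type u} [AddCommGroup L]
  [Module (MvPowerSeries (Fin d) Λ) L]

/-- Every extension of the power series ring `Λ[[X_1, …, X_d]]` over a Noetherian ring `Λ` by a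
module killed by the variables is trivial. -/
theorem powerSeries_isTrivial
    (hL : ∀ a ∈ Ideal.span (Set.range (MvPowerSeries.X : Fin d → MvPowerSeries (Fin d) Λ)),
      ∀ z : L, a • z = 0)
    (Y : Ext Λ (MvPowerSeries (Fin d) Λ) L) : Y.IsTrivial := by
  obtain ⟨n, hn⟩ := exists_pow_inf_ker (A := Λ) hL
  set 𝔞 : Ideal (MvPowerSeries (Fin d) Λ) :=
    Ideal.span (Set.range (MvPowerSeries.X : Fin d → MvPowerSeries (Fin d) Λ)) with h𝔞
  choose y hy using fun i : Fin d =>
    Y.isExtension.proj_surjective (MvPowerSeries.X i : MvPowerSeries (Fin d) Λ)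
  let φy : MvPolynomial (Fin d) Λ →ₐ[Λ] Y.E := MvPolynomial.aeval y
  have hφy : ∀ q : MvPolynomial (Fin d) Λ, Y.proj (φy q) = (q : MvPowerSeries (Fin d) Λ) := by
    intro q
    have h1 : Y.proj.comp φy = MvPolynomial.coeToMvPowerSeries.algHom Λ := by
      apply MvPolynomial.algHom_ext
      intro i
      rw [AlgHom.comp_apply, MvPolynomial.aeval_X, hy, MvPolynomial.coeToMvPowerSeries.algHom_apply,
        Algebra.algebraMap_self, MvPowerSeries.map_id, RingHom.id_apply, MvPolynomial.coe_X]
    have h2 := DFunLike.congr_fun h1 q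
    rw [AlgHom.comp_apply, MvPolynomial.coeToMvPowerSeries.algHom_apply,
      Algebra.algebraMap_self, MvPowerSeries.map_id, RingHom.id_apply] at h2
    exact h2
  have hym : ∀ i, y i ∈ nE 𝔞 Y := fun i => by
    show Y.proj (y i) ∈ 𝔞
    rw [hy]
    exact Ideal.subset_span ⟨i, rfl⟩
  have hle : MvPolynomial.idealOfVars (Fin d) Λ ^ (n + 1)
      ≤ Ideal.comap φy (nE 𝔞 Y ^ (n + 1)) := by
    rw [← Ideal.map_le_iff_le_comap, Ideal.map_pow]
    refine Ideal.pow_right_mono ?_ (n + 1)
    rw [Ideal.map_span, Ideal.span_le]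
    rintro _ ⟨_, ⟨i, rfl⟩, rfl⟩
    show φy (MvPolynomial.X i) ∈ nE 𝔞 Y
    rw [MvPolynomial.aeval_X]
    exact hym i
  let ψ₀ : (MvPolynomial (Fin d) Λ ⧸ MvPolynomial.idealOfVars (Fin d) Λ ^ (n + 1))
      →ₐ[Λ] Y.E ⧸ nE 𝔞 Y ^ (n + 1) := Ideal.quotientMapₐ (nE 𝔞 Y ^ (n + 1)) φy hle
  let τ : MvPowerSeries (Fin d) Λ →ₐ[Λ]
      (MvPolynomial (Fin d) Λ ⧸ MvPolynomial.idealOfVars (Fin d) Λ ^ (n + 1)) :=
    (truncTotalAlgHom (Fin d) Λ (n + 1)).restrictScalars Λ
  refine isTrivial_of_quotient_lift Y (nE 𝔞 Y ^ (n + 1)) (hn Y) (ψ₀.comp τ) ?_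
  intro p
  have h1 := sub_truncTotal_mem (n + 1) p
  rw [← map_nE_pow 𝔞 Y (n + 1)] at h1
  obtain ⟨e₁, he₁, he₁'⟩ :=
    (Ideal.mem_map_iff_of_surjective Y.proj Y.isExtension.proj_surjective).mp h1
  refine ⟨φy (truncTotal (n + 1) p) + e₁, ?_, ?_⟩
  · rw [map_add, hφy, he₁']
    ring
  · rw [map_add, Ideal.Quotient.eq_zero_iff_mem.mpr he₁, add_zero]
    show _ = ψ₀ (Ideal.Quotient.mk _ (truncTotal (n + 1) p))
    rw [Ideal.quotient_map_mkₐ]
    rfl

end PowerSeries

end Groth.Agent.H56.ExalAR
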