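import Groth.Agent.H29.Exal
import Mathlib.Tactic.LinearCombination
import Mathlib.Tactic.Ring
import Mathlib.RingTheory.Ideal.Quotient.Operations
import Mathlib.Algebra.Algebra.Subalgebra.Basic

/-!
# Equivalence of trivial extensions and the Baer difference of two extensions

* `equiv_of_isTrivial`: two trivial extensions are equivalent.
* `equiv_of_pullback_equiv`: if every `B₀`-extension of `B` by `L` is trivial, two `A`-extensions of
  `B` by `L` whose inverse images over `B₀` are equivalent are equivalent.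
-/

set_option autoImplicit false

namespace Groth.Agent.H56.ExalBaer

open Exal Groth.Agent.H29.ExalL

universe u v

attribute [local instance] Exal.opModule Exal.isCentralScalar_opModule

section Triv

variable {A : Type u} {B L : Type v} [CommRing A] [CommRing B] [Algebra A B] [AddCommGroup L]
  [Module B L]

/-- the ring map `B ⊕ L → E`, `(b, z) ↦ s b + i z`, attached to a section `s` -/
noncomputable def trivRingHom (X : Ext A B L) (s : B →ₐ[A] X.E) (hs : ∀ b, X.proj (s b) = b) :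
    TrivSqZeroExt B L →+* X.E where
  toFun t := s t.fst + X.incl t.snd
  map_one' := by simp
  map_mul' x y := by
    rw [TrivSqZeroExt.fst_mul, TrivSqZeroExt.snd_mul, map_mul, map_add]
    have h1 : X.incl (x.fst • y.snd) = s x.fst * X.incl y.snd := by
      rw [X.isExtension.mul_incl, hs]
    have h2 : X.incl (MulOpposite.op y.fst • x.snd) = s y.fst * X.incl x.snd := by
      rw [X.isExtension.mul_incl, hs, op_smul_eq_smul]
    have h3 := incl_mul_incl X x.snd y.snd
    rw [h1, h2]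
    linear_combination -h3
  map_zero' := by simp
  map_add' x y := by
    rw [TrivSqZeroExt.fst_add, TrivSqZeroExt.snd_add, map_add, map_add]
    abel

/-- the map `B ⊕ L → E`, `(b, z) ↦ s b + i z`, attached to a section `s` -/
noncomputable def trivHom (X : Ext A B L) (s : B →ₐ[A] X.E) (hs : ∀ b, X.proj (s b) = b) :
    (Ext.trivial A B L).E →ₐ[A] X.E where
  toFun t := trivRingHom X s hs t
  map_one' := (trivRingHom X s hs).map_one
  map_mul' := (trivRingHom X s hs).map_mul
  map_zero' := (trivRingHom X s hs).map_zero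
  map_add' := (trivRingHom X s hs).map_add
  commutes' a := by
    show s (TrivSqZeroExt.fst (TrivSqZeroExt.inl (algebraMap A B a) : TrivSqZeroExt B L))
      + X.incl (TrivSqZeroExt.snd (TrivSqZeroExt.inl (algebraMap A B a) : TrivSqZeroExt B L)) = _
    rw [TrivSqZeroExt.fst_inl, TrivSqZeroExt.snd_inl, map_zero, add_zero, AlgHom.commutes]

lemma trivHom_apply (X : Ext A B L) (s : B →ₐ[A] X.E) (hs : ∀ b, X.proj (s b) = b)
    (t : (Ext.trivial A B L).E) :
    trivHom X s hs t = s ((Ext.trivial A B L).proj t) + X.incl (TrivSqZeroExt.snd (R := B) (M := L) t) :=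
  rfl

lemma trivHom_bijective (X : Ext A B L) (s : B →ₐ[A] X.E) (hs : ∀ b, X.proj (s b) = b) :
    Function.Bijective (trivHom X s hs) := by
  constructor
  · rw [injective_iff_map_eq_zero]
    intro t ht
    rw [trivHom_apply] at ht
    have h1 : (Ext.trivial A B L).proj t = 0 := by
      have := congrArg X.proj ht
      rwa [map_add, hs, proj_incl, add_zero, map_zero] at this
    rw [h1, map_zero, zero_add] at ht
    have h2 : TrivSqZeroExt.snd (R := B) (M := L) t = 0 :=
      X.isExtension.incl_injective (by rw [ht, map_zero])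
    exact TrivSqZeroExt.ext h1 h2
  · intro x
    obtain ⟨z, hz⟩ := exists_incl_of_proj_eq X (x := x) (y := s (X.proj x)) (by rw [hs])
    refine ⟨(TrivSqZeroExt.inl (X.proj x) + TrivSqZeroExt.inr z : TrivSqZeroExt B L), ?_⟩
    show s (TrivSqZeroExt.fst (TrivSqZeroExt.inl (X.proj x) + TrivSqZeroExt.inr z : TrivSqZeroExt B L))
      + X.incl (TrivSqZeroExt.snd (TrivSqZeroExt.inl (X.proj x) + TrivSqZeroExt.inr z : TrivSqZeroExt B L)) = x
    simp only [TrivSqZeroExt.fst_add, TrivSqZeroExt.fst_inl, TrivSqZeroExt.fst_inr, add_zero,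
      TrivSqZeroExt.snd_add, TrivSqZeroExt.snd_inl, TrivSqZeroExt.snd_inr, zero_add]
    rw [hz]
    ring

/-- a trivial extension is equivalent to the trivial extension `B ⊕ L` -/
noncomputable def equivTrivial (X : Ext A B L) (s : B →ₐ[A] X.E) (hs : ∀ b, X.proj (s b) = b) :
    (Ext.trivial A B L).Equiv X where
  toAlgEquiv := AlgEquiv.ofBijective (trivHom X s hs) (trivHom_bijective X s hs)
  proj_apply t := by
    show X.proj (trivHom X s hs t) = _
    rw [trivHom_apply, map_add, hs, proj_incl, add_zero]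
  apply_incl z := by
    show trivHom X s hs ((Ext.trivial A B L).incl z) = _
    rw [trivHom_apply, proj_incl, map_zero, zero_add]
    rfl

theorem equiv_of_isTrivial {X Y : Ext A B L} (hX : X.IsTrivial) (hY : Y.IsTrivial) :
    Nonempty (X.Equiv Y) := by
  obtain ⟨s, hs⟩ := hX
  obtain ⟨s', hs'⟩ := hY
  exact ⟨(equivTrivial X s hs).symm.trans (equivTrivial Y s' hs')⟩

theorem trivial_isTrivial : (Ext.trivial A B L).IsTrivial := by
  refine ⟨{ toFun := fun b => (TrivSqZeroExt.inl b : TrivSqZeroExt B L)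
            map_one' := TrivSqZeroExt.inl_one L
            map_mul' := fun a b => TrivSqZeroExt.inl_mul L a b
            map_zero' := TrivSqZeroExt.inl_zero L
            map_add' := fun a b => TrivSqZeroExt.inl_add L a b
            commutes' := fun a => rfl }, fun b => rfl⟩

end Triv

section Baer

variable {A : Type u} {B L : Type v} [CommRing A] [CommRing B] [Algebra A B] [AddCommGroup L]
  [Module B L]

variable (Y Y' : Ext A B L)

/-- `G = E ×_B E'` -/
def G : Subalgebra A (Y.E × Y'.E) :=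
  AlgHom.equalizer (Y.proj.comp (AlgHom.fst A Y.E Y'.E)) (Y'.proj.comp (AlgHom.snd A Y.E Y'.E))

lemma mem_G (x : Y.E × Y'.E) : x ∈ G Y Y' ↔ Y.proj x.1 = Y'.proj x.2 := Iff.rfl

lemma proj_eq (g : G Y Y') : Y.proj (g : Y.E × Y'.E).1 = Y'.proj (g : Y.E × Y'.E).2 := g.2

/-- the ideal `{(i z, i' z)}` of `G` -/
def N : Ideal (G Y Y') where
  carrier := {g | ∃ z : L, (g : Y.E × Y'.E) = (Y.incl z, Y'.incl z)}
  zero_mem' := ⟨0, by rw [map_zero, map_zero]; rfl⟩
  add_mem' := by
    rintro a b ⟨z, hz⟩ ⟨w, hw⟩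
    refine ⟨z + w, ?_⟩
    rw [Subalgebra.coe_add, hz, hw, map_add, map_add]
    rfl
  smul_mem' := by
    rintro c g ⟨z, hz⟩
    refine ⟨Y.proj (c : Y.E × Y'.E).1 • z, ?_⟩
    have hc := proj_eq Y Y' c
    rw [smul_eq_mul, Subalgebra.coe_mul, hz]
    refine Prod.ext ?_ ?_
    · show (c : Y.E × Y'.E).1 * Y.incl z = _
      rw [Y.isExtension.mul_incl]
    · show (c : Y.E × Y'.E).2 * Y'.incl z = _
      rw [Y'.isExtension.mul_incl, hc]

lemma mem_N (g : G Y Y') : g ∈ N Y Y' ↔ ∃ z : L, (g : Y.E × Y'.E) = (Y.incl z, Y'.incl z) :=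
  Iff.rfl

/-- the middle ring of the Baer difference -/
abbrev D : Type v := G Y Y' ⧸ N Y Y'

/-- the projection of the Baer difference -/
noncomputable def projD : D Y Y' →ₐ[A] B :=
  Ideal.Quotient.liftₐ (N Y Y') ((Y.proj.comp (AlgHom.fst A Y.E Y'.E)).comp (G Y Y').val) (by
    rintro g ⟨z, hz⟩
    show Y.proj (g : Y.E × Y'.E).1 = 0
    rw [hz]
    exact proj_incl Y z)

lemma projD_mk (g : G Y Y') : projD Y Y' (Ideal.Quotient.mk _ g) = Y.proj (g : Y.E × Y'.E).1 := rfl

/-- `z ↦ (i z, 0)` -/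
noncomputable def inclG : L →+ G Y Y' where
  toFun z := ⟨(Y.incl z, 0), by rw [mem_G]; simp [proj_incl]⟩
  map_zero' := by
    apply Subtype.ext
    apply Prod.ext <;> simp
  map_add' z w := by
    apply Subtype.ext
    apply Prod.ext <;> simp

lemma coe_inclG (z : L) : (inclG Y Y' z : Y.E × Y'.E) = (Y.incl z, 0) := rfl

/-- the inclusion of the Baer difference -/
noncomputable def inclD : L →+ D Y Y' :=
  (Ideal.Quotient.mk (N Y Y')).toAddMonoidHom.comp (inclG Y Y')

lemma inclD_apply (z : L) : inclD Y Y' z = Ideal.Quotient.mk _ (inclG Y Y' z) := rfl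

lemma isExtension_D : IsExtension (E := D Y Y') (projD Y Y') (inclD Y Y') := by
  refine ⟨?_, ?_, ?_, ?_⟩
  · intro b
    obtain ⟨e, he⟩ := Y.isExtension.proj_surjective b
    obtain ⟨e', he'⟩ := Y'.isExtension.proj_surjective b
    exact ⟨Ideal.Quotient.mk _ ⟨(e, e'), by rw [mem_G, he, he']⟩, he⟩
  · rw [injective_iff_map_eq_zero]
    intro z hz
    rw [inclD_apply, Ideal.Quotient.eq_zero_iff_mem, mem_N] at hz
    obtain ⟨w, hw⟩ := hz
    rw [coe_inclG] at hw
    have h1 : Y.incl z = Y.incl w := congrArg Prod.fst hw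
    have h2 : (0 : Y'.E) = Y'.incl w := congrArg Prod.snd hw
    have hw0 : w = 0 := Y'.isExtension.incl_injective (by rw [← h2, map_zero])
    exact Y.isExtension.incl_injective (by rw [h1, hw0])
  · intro x
    obtain ⟨g, rfl⟩ := Ideal.Quotient.mk_surjective x
    rw [projD_mk]
    constructor
    · intro h
      obtain ⟨z, hz⟩ := (Y.isExtension.exact _).mp h
      have h' : Y'.proj (g : Y.E × Y'.E).2 = 0 := by rw [← proj_eq, h]
      obtain ⟨z', hz'⟩ := (Y'.isExtension.exact _).mp h'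
      refine ⟨z - z', ?_⟩
      rw [inclD_apply, Ideal.Quotient.eq, mem_N]
      refine ⟨-z', ?_⟩
      rw [Subalgebra.coe_sub, coe_inclG, map_sub, map_neg, map_neg, hz, hz']
      refine Prod.ext ?_ ?_
      · show (g : Y.E × Y'.E).1 - Y.incl z' - (g : Y.E × Y'.E).1 = _
        ring
      · show (0 : Y'.E) - (g : Y.E × Y'.E).2 = _
        ring
    · rintro ⟨z, hz⟩
      rw [inclD_apply] at hz
      have := congrArg (projD Y Y') hz
      rw [projD_mk, projD_mk, coe_inclG] at this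
      rw [← this]
      exact proj_incl Y z
  · intro x z
    obtain ⟨g, rfl⟩ := Ideal.Quotient.mk_surjective x
    rw [projD_mk, inclD_apply, inclD_apply, ← map_mul]
    congr 1
    apply Subtype.ext
    rw [Subalgebra.coe_mul, coe_inclG, coe_inclG]
    refine Prod.ext ?_ ?_
    · show (g : Y.E × Y'.E).1 * Y.incl z = _
      rw [Y.isExtension.mul_incl]
    · show (g : Y.E × Y'.E).2 * 0 = 0
      rw [mul_zero]

/-- the element `(i z, i' z)` of `G` -/
noncomputable def diagN (z : L) : G Y Y' :=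
  ⟨(Y.incl z, Y'.incl z), by rw [mem_G, proj_incl, proj_incl]⟩

lemma diagN_mem (z : L) : diagN Y Y' z ∈ N Y Y' := ⟨z, rfl⟩

lemma coe_diagN (z : L) : (diagN Y Y' z : Y.E × Y'.E) = (Y.incl z, Y'.incl z) := rfl

section Section

variable (s : B →ₐ[A] D Y Y')

/-- the preimage in `G` of the image of a section: the graph of the isomorphism -/
def Gam : Subalgebra A (G Y Y') := (s.range).comap (Ideal.Quotient.mkₐ A (N Y Y'))

lemma mem_Gam (g : G Y Y') : g ∈ Gam Y Y' s ↔ ∃ b, s b = Ideal.Quotient.mk _ g := Iff.rfl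

variable (hs : ∀ b, projD Y Y' (s b) = b)
include hs

lemma mk_eq_of_mem_Gam {g : G Y Y'} (hg : g ∈ Gam Y Y' s) :
    Ideal.Quotient.mk (N Y Y') g = s (Y.proj (g : Y.E × Y'.E).1) := by
  obtain ⟨b, hb⟩ := (mem_Gam Y Y' s g).mp hg
  have : b = Y.proj (g : Y.E × Y'.E).1 := by
    have := congrArg (projD Y Y') hb
    rwa [hs, projD_mk] at this
  rw [← this, hb]

omit hs in
/-- first projection of the graph -/
noncomputable def p₁ : Gam Y Y' s →ₐ[A] Y.E :=
  ((AlgHom.fst A Y.E Y'.E).comp (G Y Y').val).comp (Gam Y Y' s).val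

omit hs in
/-- second projection of the graph -/
noncomputable def p₂ : Gam Y Y' s →ₐ[A] Y'.E :=
  ((AlgHom.snd A Y.E Y'.E).comp (G Y Y').val).comp (Gam Y Y' s).val

omit hs in
lemma p₁_apply (γ : Gam Y Y' s) : p₁ Y Y' s γ = ((γ : G Y Y') : Y.E × Y'.E).1 := rfl

omit hs in
lemma p₂_apply (γ : Gam Y Y' s) : p₂ Y Y' s γ = ((γ : G Y Y') : Y.E × Y'.E).2 := rfl

lemma sub_mem_N_of_proj_eq (γ γ' : Gam Y Y' s)
    (h : Y.proj (p₁ Y Y' s γ) = Y.proj (p₁ Y Y' s γ')) :
    ∃ z : L, (((γ : G Y Y') : Y.E × Y'.E) - ((γ' : G Y Y') : Y.E × Y'.E)) = (Y.incl z, Y'.incl z) := by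
  have h1 := mk_eq_of_mem_Gam Y Y' s hs γ.2
  have h2 := mk_eq_of_mem_Gam Y Y' s hs γ'.2
  rw [p₁_apply, p₁_apply] at h
  rw [h, ← h2, Ideal.Quotient.eq, mem_N] at h1
  obtain ⟨z, hz⟩ := h1
  exact ⟨z, by rw [← hz, Subalgebra.coe_sub]⟩

lemma p₁_bijective : Function.Bijective (p₁ Y Y' s) := by
  constructor
  · intro γ γ' h
    obtain ⟨z, hz⟩ := sub_mem_N_of_proj_eq Y Y' s hs γ γ' (by rw [h])
    have h1 : ((γ : G Y Y') : Y.E × Y'.E).1 - ((γ' : G Y Y') : Y.E × Y'.E).1 = Y.incl z :=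
      congrArg Prod.fst hz
    have h2 : ((γ : G Y Y') : Y.E × Y'.E).2 - ((γ' : G Y Y') : Y.E × Y'.E).2 = Y'.incl z :=
      congrArg Prod.snd hz
    rw [p₁_apply, p₁_apply] at h
    have hz0 : z = 0 := Y.isExtension.incl_injective (by rw [← h1, h, sub_self, map_zero])
    rw [hz0, map_zero, sub_eq_zero] at h2
    exact Subtype.ext (Subtype.ext (Prod.ext h h2))
  · intro e
    obtain ⟨g, hg⟩ := Ideal.Quotient.mk_surjective (s (Y.proj e))
    have h1 : Y.proj (g : Y.E × Y'.E).1 = Y.proj e := by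
      have := congrArg (projD Y Y') hg
      rwa [hs, projD_mk] at this
    obtain ⟨z, hz⟩ := exists_incl_of_proj_eq Y h1.symm
    refine ⟨⟨g + diagN Y Y' z, (mem_Gam Y Y' s _).mpr ⟨Y.proj e, ?_⟩⟩, ?_⟩
    · rw [← hg, Ideal.Quotient.eq, sub_add_cancel_left]
      exact neg_mem (diagN_mem Y Y' z)
    · rw [p₁_apply]
      show ((g + diagN Y Y' z : G Y Y') : Y.E × Y'.E).1 = e
      rw [Subalgebra.coe_add, coe_diagN]
      show (g : Y.E × Y'.E).1 + Y.incl z = e
      rw [hz]
      ring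

lemma p₂_bijective : Function.Bijective (p₂ Y Y' s) := by
  constructor
  · intro γ γ' h
    rw [p₂_apply, p₂_apply] at h
    obtain ⟨z, hz⟩ := sub_mem_N_of_proj_eq Y Y' s hs γ γ' (by
      rw [p₁_apply, p₁_apply, proj_eq, proj_eq, h])
    have h1 : ((γ : G Y Y') : Y.E × Y'.E).1 - ((γ' : G Y Y') : Y.E × Y'.E).1 = Y.incl z :=
      congrArg Prod.fst hz
    have h2 : ((γ : G Y Y') : Y.E × Y'.E).2 - ((γ' : G Y Y') : Y.E × Y'.E).2 = Y'.incl z :=
      congrArg Prod.snd hz
    have hz0 : z = 0 := Y'.isExtension.incl_injective (by rw [← h2, h, sub_self, map_zero])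
    rw [hz0, map_zero, sub_eq_zero] at h1
    exact Subtype.ext (Subtype.ext (Prod.ext h1 h))
  · intro e'
    obtain ⟨g, hg⟩ := Ideal.Quotient.mk_surjective (s (Y'.proj e'))
    have h1 : Y'.proj (g : Y.E × Y'.E).2 = Y'.proj e' := by
      have := congrArg (projD Y Y') hg
      rwa [hs, projD_mk, proj_eq] at this
    obtain ⟨z, hz⟩ := exists_incl_of_proj_eq Y' h1.symm
    refine ⟨⟨g + diagN Y Y' z, (mem_Gam Y Y' s _).mpr ⟨Y'.proj e', ?_⟩⟩, ?_⟩
    · rw [← hg, Ideal.Quotient.eq, sub_add_cancel_left]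
      exact neg_mem (diagN_mem Y Y' z)
    · rw [p₂_apply]
      show ((g + diagN Y Y' z : G Y Y') : Y.E × Y'.E).2 = e'
      rw [Subalgebra.coe_add, coe_diagN]
      show (g : Y.E × Y'.E).2 + Y'.incl z = e'
      rw [hz]
      ring

/-- a section of the Baer difference gives an equivalence of the two extensions -/
noncomputable def equivOfSection : Y.Equiv Y' where
  toAlgEquiv := (AlgEquiv.ofBijective (p₁ Y Y' s) (p₁_bijective Y Y' s hs)).symm.trans
    (AlgEquiv.ofBijective (p₂ Y Y' s) (p₂_bijective Y Y' s hs))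
  proj_apply e := by
    obtain ⟨γ, rfl⟩ := (p₁_bijective Y Y' s hs).2 e
    have : (AlgEquiv.ofBijective (p₁ Y Y' s) (p₁_bijective Y Y' s hs)).symm (p₁ Y Y' s γ) = γ :=
      (AlgEquiv.ofBijective (p₁ Y Y' s) (p₁_bijective Y Y' s hs)).symm_apply_apply γ
    rw [AlgEquiv.trans_apply, this]
    show Y'.proj (p₂ Y Y' s γ) = _
    rw [p₁_apply, p₂_apply, proj_eq]
  apply_incl z := by
    have hmem : diagN Y Y' z ∈ Gam Y Y' s := (mem_Gam Y Y' s _).mpr ⟨0, by
      rw [map_zero]
      exact (Ideal.Quotient.eq_zero_iff_mem.mpr (diagN_mem Y Y' z)).symm⟩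
    have h1 : p₁ Y Y' s ⟨diagN Y Y' z, hmem⟩ = Y.incl z := rfl
    have : (AlgEquiv.ofBijective (p₁ Y Y' s) (p₁_bijective Y Y' s hs)).symm (Y.incl z)
        = ⟨diagN Y Y' z, hmem⟩ := by
      rw [← h1]
      exact (AlgEquiv.ofBijective (p₁ Y Y' s) (p₁_bijective Y Y' s hs)).symm_apply_apply
        ⟨diagN Y Y' z, hmem⟩
    rw [AlgEquiv.trans_apply, this]
    rfl

end Section

end Baer

section Main

variable {A : Type u} {B₀ B L : Type v} [CommRing A] [CommRing B₀] [CommRing B] [Algebra A B₀]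
  [Algebra A B] [Algebra B₀ B] [IsScalarTower A B₀ B] [AddCommGroup L] [Module B L] [Module B₀ L]
  [IsScalarTower B₀ B L]

variable (Y Y' : Ext A B L)

/-- the underlying pair of an element of the pull-back -/
def pbVal : (Y.pullback B₀).E →ₐ[A] Y.E × B₀ := (Y.fiberProd B₀).val

lemma pbVal_mem (x : (Y.pullback B₀).E) :
    Y.proj (pbVal Y x).1 = algebraMap B₀ B (pbVal Y x).2 := x.2

lemma pb_proj_apply (x : (Y.pullback B₀).E) : (Y.pullback B₀).proj x = (pbVal Y x).2 := rfl

lemma pbVal_incl (z : L) : pbVal Y ((Y.pullback B₀).incl z) = (Y.incl z, 0) := rfl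

variable (θ : (Y.pullback B₀).Equiv (Y'.pullback B₀))

/-- `F → G`, `(e, a) ↦ (e, e')` with `θ (e, a) = (e', a)` -/
noncomputable def betaG : (Y.pullback B₀).E →ₐ[A] G Y Y' :=
  AlgHom.codRestrict
    (AlgHom.prod ((AlgHom.fst A Y.E B₀).comp (pbVal Y))
      (((AlgHom.fst A Y'.E B₀).comp (pbVal Y')).comp (θ.toAlgEquiv : _ →ₐ[A] _)))
    (G Y Y') (fun x => by
      rw [mem_G]
      show Y.proj (pbVal Y x).1 = Y'.proj (pbVal Y' (θ.toAlgEquiv x)).1
      rw [pbVal_mem, pbVal_mem, ← pb_proj_apply, ← pb_proj_apply, θ.proj_apply])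

lemma coe_betaG (x : (Y.pullback B₀).E) :
    (betaG Y Y' θ x : Y.E × Y'.E) = ((pbVal Y x).1, (pbVal Y' (θ.toAlgEquiv x)).1) := rfl

/-- `F → D` -/
noncomputable def beta : (Y.pullback B₀).E →ₐ[A] D Y Y' :=
  (Ideal.Quotient.mkₐ A (N Y Y')).comp (betaG Y Y' θ)

lemma ker_le : RingHom.ker ((Y.pullback B₀).proj : (Y.pullback B₀).E →+* B₀)
    ≤ RingHom.ker (beta Y Y' θ : (Y.pullback B₀).E →+* D Y Y') := by
  intro x hx
  rw [RingHom.mem_ker] at hx ⊢
  obtain ⟨z, rfl⟩ := ((Y.pullback B₀).isExtension.exact x).mp hx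
  show Ideal.Quotient.mk _ (betaG Y Y' θ _) = 0
  rw [Ideal.Quotient.eq_zero_iff_mem, mem_N]
  refine ⟨z, ?_⟩
  rw [coe_betaG, θ.apply_incl, pbVal_incl, pbVal_incl]

/-- the structure map `B₀ → D` of the Baer difference -/
noncomputable def alpha : B₀ →+* D Y Y' :=
  RingHom.liftOfSurjective ((Y.pullback B₀).proj : (Y.pullback B₀).E →+* B₀)
    (Y.pullback B₀).isExtension.proj_surjective
    ⟨(beta Y Y' θ : (Y.pullback B₀).E →+* D Y Y'), ker_le Y Y' θ⟩

lemma alpha_proj (x : (Y.pullback B₀).E) :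
    alpha Y Y' θ ((Y.pullback B₀).proj x) = beta Y Y' θ x :=
  RingHom.liftOfSurjective_comp_apply _ _ _ x

lemma alpha_algebraMap (a : A) : alpha Y Y' θ (algebraMap A B₀ a) = algebraMap A (D Y Y') a := by
  have : algebraMap A B₀ a = (Y.pullback B₀).proj (algebraMap A _ a) :=
    ((Y.pullback B₀).proj.commutes a).symm
  rw [this, alpha_proj, AlgHom.commutes]

lemma projD_alpha (b : B₀) : projD Y Y' (alpha Y Y' θ b) = algebraMap B₀ B b := by
  obtain ⟨x, rfl⟩ := (Y.pullback B₀).isExtension.proj_surjective b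
  rw [alpha_proj]
  show Y.proj (pbVal Y x).1 = _
  rw [pbVal_mem]
  rfl

/-- the `B₀`-algebra structure of the Baer difference -/
@[reducible] noncomputable def algD : Algebra B₀ (D Y Y') := @RingHom.toAlgebra B₀ (D Y Y') _ _ (alpha Y Y' θ)

lemma algebraMap_algD (b : B₀) :
    @algebraMap B₀ (D Y Y') _ _ (algD Y Y' θ) b = alpha Y Y' θ b := rfl

/-- the projection of the Baer difference as a `B₀`-algebra map -/
noncomputable def projDB : @AlgHom B₀ (D Y Y') B _ _ _ (algD Y Y' θ) _ :=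
  letI := algD Y Y' θ
  { (projD Y Y' : D Y Y' →+* B) with
    commutes' := fun b => by
      show projD Y Y' (@algebraMap B₀ (D Y Y') _ _ (algD Y Y' θ) b) = _
      rw [algebraMap_algD, projD_alpha] }

/-- the Baer difference as a `B₀`-extension -/
noncomputable def baerExt : Ext B₀ B L :=
  @Ext.mk B₀ B L _ _ _ _ _ (D Y Y') _ (algD Y Y' θ) (projDB Y Y' θ) (inclD Y Y')
    (@IsExtension.mk B₀ B (D Y Y') L _ _ _ _ (algD Y Y' θ) _ _ (projDB Y Y' θ) (inclD Y Y')
      (isExtension_D Y Y').proj_surjective (isExtension_D Y Y').incl_injective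
      (isExtension_D Y Y').exact (isExtension_D Y Y').mul_incl)

include θ in
/-- If every `B₀`-extension of `B` by `L` is trivial, two `A`-extensions of `B` by `L` with
equivalent inverse images over `B₀` are equivalent. -/
theorem equiv_of_pullback_equiv (H : ∀ X : Ext B₀ B L, X.IsTrivial) : Nonempty (Y.Equiv Y') := by
  obtain ⟨s, hs⟩ := H (baerExt Y Y' θ)
  let s₀ : B →+* D Y Y' := s.toRingHom
  have hs₀ : ∀ b, projD Y Y' (s₀ b) = b := hs
  have hsA : ∀ a : A, s₀ (algebraMap A B a) = algebraMap A (D Y Y') a := by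
    intro a
    rw [IsScalarTower.algebraMap_apply A B₀ B]
    have := s.commutes (algebraMap A B₀ a)
    exact this.trans (alpha_algebraMap Y Y' θ a)
  let sA : B →ₐ[A] D Y Y' := { s₀ with commutes' := hsA }
  exact ⟨equivOfSection Y Y' sA hs₀⟩

omit [Module B₀ L] [IsScalarTower B₀ B L] in
/-- membership in the fibre product -/
lemma mem_fiberProd (x : Y.E × B₀) : x ∈ Y.fiberProd B₀ ↔ Y.proj x.1 = algebraMap B₀ B x.2 :=
  Iff.rfl

/-- an `A`-algebra map `B₀ → E` lifting the structure map gives a section of the pull-back -/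
theorem pullback_isTrivial_of_lift (t : B₀ →ₐ[A] Y.E) (ht : ∀ b, Y.proj (t b) = algebraMap B₀ B b) :
    (Y.pullback B₀).IsTrivial := by
  refine ⟨AlgHom.codRestrict (AlgHom.prod t (AlgHom.id A B₀)) (Y.fiberProd B₀) (fun b => ?_),
    fun b => rfl⟩
  rw [mem_fiberProd]
  exact ht b

/-- the inverse image of a trivial extension is trivial -/
theorem pullback_isTrivial_of_isTrivial (h : Y.IsTrivial) : (Y.pullback B₀).IsTrivial := by
  obtain ⟨s, hs⟩ := h
  exact pullback_isTrivial_of_lift Y (s.comp (IsScalarTower.toAlgHom A B₀ B)) (fun b => hs _)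

end Main

end Groth.Agent.H56.ExalBaer
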