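import Groth.Agent.H56.ExalBaer

/-!
# Extensions and lifts from a presentation

Fix `A → C → B` with `C → B` surjective and a `B`-module `M`.

* `equiv_of_lifts`: two `A`-extensions of `B` by `M` with lifts `C → E`, `C → E'` of `C → B` which
  agree on the kernel of `C → B` (as maps to `M`) are equivalent.
* `exists_ext_of_linearMap`: every `C`-linear map `ker (C → B) → M` comes from an extension with a
  lift.
-/

set_option autoImplicit false

namespace Groth.Agent.H56.ExalPres

open Exal Groth.Agent.H29.ExalL Groth.Agent.H56.ExalBaer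

universe u v w

section Lifts

variable {A : Type u} {B M : Type v} [CommRing A] [CommRing B] [Algebra A B] [AddCommGroup M]
  [Module B M] {C : Type w} [CommRing C] [Algebra A C] [Algebra C B] [IsScalarTower A C B]

/-- two extensions with lifts from `C` inducing the same map `ker (C → B) → M` are equivalent -/
theorem equiv_of_lifts (hsurj : Function.Surjective (algebraMap C B)) (X X' : Ext A B M)
    (t : C →ₐ[A] X.E) (t' : C →ₐ[A] X'.E)
    (ht : ∀ c, X.proj (t c) = algebraMap C B c) (ht' : ∀ c, X'.proj (t' c) = algebraMap C B c)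
    (h : ∀ c, algebraMap C B c = 0 → ∃ z : M, X.incl z = t c ∧ X'.incl z = t' c) :
    Nonempty (X.Equiv X') := by
  let τ : C →ₐ[A] G X X' := AlgHom.codRestrict (AlgHom.prod t t') (G X X') (fun c => by
    rw [mem_G]
    exact (ht c).trans (ht' c).symm)
  let τ' : C →ₐ[A] D X X' := (Ideal.Quotient.mkₐ A (N X X')).comp τ
  have hker : RingHom.ker (algebraMap C B) ≤ RingHom.ker (τ' : C →+* D X X') := by
    intro c hc
    obtain ⟨z, hz, hz'⟩ := h c hc
    rw [RingHom.mem_ker]
    exact Ideal.Quotient.eq_zero_iff_mem.mpr ((mem_N X X' _).mpr ⟨z, Prod.ext hz.symm hz'.symm⟩)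
  let s₀ : B →+* D X X' := RingHom.liftOfSurjective (algebraMap C B) hsurj
    ⟨(τ' : C →+* D X X'), hker⟩
  have hs₀ : ∀ c, s₀ (algebraMap C B c) = τ' c :=
    fun c => RingHom.liftOfSurjective_comp_apply _ _ _ c
  let s : B →ₐ[A] D X X' :=
    { s₀ with
      commutes' := fun a => by
        show s₀ (algebraMap A B a) = _
        rw [IsScalarTower.algebraMap_apply A C B, hs₀, AlgHom.commutes] }
  have hs : ∀ b, projD X X' (s b) = b := by
    intro b
    obtain ⟨c, rfl⟩ := hsurj b
    show projD X X' (s₀ (algebraMap C B c)) = _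
    rw [hs₀]
    exact ht c
  exact ⟨equivOfSection X X' s hs⟩

end Lifts

section Push

attribute [local instance] Exal.opModule Exal.isCentralScalar_opModule

variable {A : Type u} {C B M : Type v} [CommRing A] [CommRing C] [CommRing B] [Algebra A C]
  [Algebra A B] [Algebra C B] [IsScalarTower A C B] [AddCommGroup M] [Module B M] [Module C M]
  [IsScalarTower C B M]

omit [Algebra A C] [Algebra A B] [IsScalarTower A C B] in
lemma smul_eq_zero_of_mem_ker {x : C} (hx : x ∈ RingHom.ker (algebraMap C B)) (m : M) :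
    x • m = 0 := by
  rw [← algebraMap_smul B x m, (RingHom.mem_ker).mp hx, zero_smul]

variable (δ : RingHom.ker (algebraMap C B) →ₗ[C] M)

/-- the generator `(x, - δ x)` -/
def gen (x : RingHom.ker (algebraMap C B)) : TrivSqZeroExt C M :=
  TrivSqZeroExt.inl (x : C) - TrivSqZeroExt.inr (δ x)

omit [Algebra A C] [Algebra A B] [IsScalarTower A C B] [IsScalarTower C B M] in
lemma fst_gen (x : RingHom.ker (algebraMap C B)) : (gen δ x).fst = x := by
  simp [gen]

omit [Algebra A C] [Algebra A B] [IsScalarTower A C B] [IsScalarTower C B M] in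
lemma snd_gen (x : RingHom.ker (algebraMap C B)) : (gen δ x).snd = - δ x := by
  simp [gen]

omit [Algebra A C] [Algebra A B] [IsScalarTower A C B] in
/-- the ideal `{(x, - δ x)}` of `C ⊕ M` -/
def kerIdeal : Ideal (TrivSqZeroExt C M) where
  carrier := Set.range (gen δ)
  zero_mem' := ⟨0, by simp [gen]⟩
  add_mem' := by
    rintro _ _ ⟨j, rfl⟩ ⟨j', rfl⟩
    refine ⟨j + j', ?_⟩
    refine TrivSqZeroExt.ext ?_ ?_
    · rw [TrivSqZeroExt.fst_add, fst_gen, fst_gen, fst_gen]; rfl
    · rw [TrivSqZeroExt.snd_add, snd_gen, snd_gen, snd_gen, map_add, neg_add]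
  smul_mem' := by
    rintro c _ ⟨j, rfl⟩
    refine ⟨c.fst • j, ?_⟩
    refine TrivSqZeroExt.ext ?_ ?_
    · rw [fst_gen, smul_eq_mul, TrivSqZeroExt.fst_mul, fst_gen]; rfl
    · rw [snd_gen, smul_eq_mul, TrivSqZeroExt.snd_mul, fst_gen, snd_gen, op_smul_eq_smul,
        smul_eq_zero_of_mem_ker j.2, add_zero, map_smul, smul_neg]

omit [Algebra A C] [Algebra A B] [IsScalarTower A C B] in
lemma mem_kerIdeal (t : TrivSqZeroExt C M) : t ∈ kerIdeal δ ↔ ∃ x, gen δ x = t := Iff.rfl

variable (A C M) in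
/-- the `A`-algebra structure on `C ⊕ M` through `C` -/
@[reducible] noncomputable def algT : Algebra A (TrivSqZeroExt C M) :=
  ((TrivSqZeroExt.inlHom C M).comp (algebraMap A C)).toAlgebra

attribute [local instance] algT

omit [Algebra A B] [Algebra C B] [IsScalarTower A C B] [Module B M] [IsScalarTower C B M] in
lemma algebraMap_T (a : A) :
    algebraMap A (TrivSqZeroExt C M) a = TrivSqZeroExt.inl (algebraMap A C a) := rfl

variable (A M) in
/-- `C → C ⊕ M` as an `A`-algebra map -/
noncomputable def inlHom : C →ₐ[A] TrivSqZeroExt C M where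
  toFun c := TrivSqZeroExt.inl c
  map_one' := TrivSqZeroExt.inl_one M
  map_mul' := fun a b => TrivSqZeroExt.inl_mul M a b
  map_zero' := TrivSqZeroExt.inl_zero M
  map_add' := fun a b => TrivSqZeroExt.inl_add M a b
  commutes' := fun _ => rfl

variable (A B M) in
/-- `C ⊕ M → B` -/
noncomputable def piB : TrivSqZeroExt C M →ₐ[A] B where
  toFun t := algebraMap C B t.fst
  map_one' := by rw [TrivSqZeroExt.fst_one, map_one]
  map_mul' := fun a b => by rw [TrivSqZeroExt.fst_mul, map_mul]
  map_zero' := by rw [TrivSqZeroExt.fst_zero, map_zero]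
  map_add' := fun a b => by rw [TrivSqZeroExt.fst_add, map_add]
  commutes' := fun a => by
    rw [algebraMap_T, TrivSqZeroExt.fst_inl, ← IsScalarTower.algebraMap_apply]

omit [IsScalarTower C B M] in
lemma piB_apply (t : TrivSqZeroExt C M) : piB A B M t = algebraMap C B t.fst := rfl

lemma piB_eq_zero_of_mem (t : TrivSqZeroExt C M) (ht : t ∈ kerIdeal δ) : piB A B M t = 0 := by
  obtain ⟨x, rfl⟩ := (mem_kerIdeal δ t).mp ht
  rw [piB_apply, fst_gen]
  exact x.2

variable (A) in
/-- the projection of the push-out extension -/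
noncomputable def pushProj : (TrivSqZeroExt C M ⧸ kerIdeal δ) →ₐ[A] B :=
  Ideal.Quotient.liftₐ (kerIdeal δ) (piB A B M) (piB_eq_zero_of_mem δ)

lemma pushProj_mk (t : TrivSqZeroExt C M) :
    pushProj A δ (Ideal.Quotient.mk (kerIdeal δ) t) = algebraMap C B t.fst := rfl

/-- the inclusion of the push-out extension -/
noncomputable def pushIncl : M →+ (TrivSqZeroExt C M ⧸ kerIdeal δ) :=
  (Ideal.Quotient.mk (kerIdeal δ) : TrivSqZeroExt C M →+* _).toAddMonoidHom.comp
    (TrivSqZeroExt.inrHom C M).toAddMonoidHom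

omit [Algebra A C] [Algebra A B] [IsScalarTower A C B] in
lemma pushIncl_apply (z : M) :
    pushIncl δ z = Ideal.Quotient.mk (kerIdeal δ) (TrivSqZeroExt.inr z) := rfl

omit [Algebra A C] [Algebra A B] [IsScalarTower A C B] in
lemma mk_eq_mk_iff (t t' : TrivSqZeroExt C M) :
    Ideal.Quotient.mk (kerIdeal δ) t = Ideal.Quotient.mk (kerIdeal δ) t'
      ↔ ∃ x, gen δ x = t - t' := by
  rw [Ideal.Quotient.mk_eq_mk_iff_sub_mem, mem_kerIdeal]

theorem isExtension_push (hsurj : Function.Surjective (algebraMap C B)) :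
    IsExtension (pushProj A δ) (pushIncl δ) := by
  refine ⟨?_, ?_, ?_, ?_⟩
  · intro b
    obtain ⟨c, rfl⟩ := hsurj b
    refine ⟨Ideal.Quotient.mk _ (TrivSqZeroExt.inl c), ?_⟩
    rw [pushProj_mk, TrivSqZeroExt.fst_inl]
  · rw [injective_iff_map_eq_zero]
    intro z hz
    rw [pushIncl_apply, Ideal.Quotient.eq_zero_iff_mem, mem_kerIdeal] at hz
    obtain ⟨x, hx⟩ := hz
    have hx0 : x = 0 := by
      apply Subtype.ext
      have := congrArg TrivSqZeroExt.fst hx
      rw [fst_gen, TrivSqZeroExt.fst_inr] at this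
      exact this
    have := congrArg TrivSqZeroExt.snd hx
    rw [snd_gen, TrivSqZeroExt.snd_inr, hx0, map_zero, neg_zero] at this
    exact this.symm
  · intro e
    obtain ⟨t, rfl⟩ := Ideal.Quotient.mk_surjective e
    rw [pushProj_mk]
    constructor
    · intro h
      have h1 : t.fst ∈ RingHom.ker (algebraMap C B) := h
      refine ⟨t.snd + δ ⟨t.fst, h1⟩, ?_⟩
      rw [pushIncl_apply, eq_comm, mk_eq_mk_iff]
      refine ⟨⟨t.fst, h1⟩, ?_⟩
      refine TrivSqZeroExt.ext ?_ ?_
      · rw [fst_gen, TrivSqZeroExt.fst_sub, TrivSqZeroExt.fst_inr, sub_zero]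
      · rw [snd_gen, TrivSqZeroExt.snd_sub, TrivSqZeroExt.snd_inr]
        abel
    · rintro ⟨z, hz⟩
      have h1 := congrArg (pushProj A δ) hz
      rw [pushIncl_apply, pushProj_mk, pushProj_mk, TrivSqZeroExt.fst_inr, map_zero] at h1
      exact h1.symm
  · intro e z
    obtain ⟨t, rfl⟩ := Ideal.Quotient.mk_surjective e
    rw [pushProj_mk, pushIncl_apply, pushIncl_apply, ← map_mul]
    congr 1
    refine TrivSqZeroExt.ext ?_ ?_
    · simp
    · rw [TrivSqZeroExt.snd_mul, TrivSqZeroExt.snd_inr, TrivSqZeroExt.fst_inr, MulOpposite.op_zero,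
        zero_smul, add_zero, TrivSqZeroExt.snd_inr, algebraMap_smul]

/-- every `C`-linear map `ker (C → B) → M` comes from an `A`-extension of `B` by `M` with a lift -/
theorem exists_ext_of_linearMap (hsurj : Function.Surjective (algebraMap C B)) :
    ∃ (X : Ext A B M) (t : C →ₐ[A] X.E), (∀ c, X.proj (t c) = algebraMap C B c) ∧
      ∀ x : RingHom.ker (algebraMap C B), X.incl (δ x) = t x := by
  refine ⟨⟨TrivSqZeroExt C M ⧸ kerIdeal δ, pushProj A δ, pushIncl δ, isExtension_push δ hsurj⟩,
    (Ideal.Quotient.mkₐ A (kerIdeal δ)).comp (inlHom A M), fun c => ?_, fun x => ?_⟩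
  · show pushProj A δ (Ideal.Quotient.mk (kerIdeal δ) (TrivSqZeroExt.inl c)) = _
    rw [pushProj_mk, TrivSqZeroExt.fst_inl]
  · show pushIncl δ (δ x) = Ideal.Quotient.mk (kerIdeal δ) (TrivSqZeroExt.inl (x : C))
    rw [pushIncl_apply, eq_comm, mk_eq_mk_iff]
    exact ⟨x, rfl⟩

end Push

end Groth.Agent.H56.ExalPres
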