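import Groth.Agent.H56.ExalPres
import Groth.Prelude.Def_CotT
import Groth.Agent.S12289

/-!
# Extensions of a presented algebra and maps out of the conormal module

For a presentation `P` of `B` over `A` with polynomial ring `R` and kernel `I`, an `A`-extension `X`
of `B` by `M` and an `A`-algebra lift `t : R → X.E` of `R → B`:

* `phi X t ht : I/I² →ₗ[B] M`, the map induced by `t` on the kernel;
* `exists_lift`: a lift always exists;
* `phi_sub_eq`: two lifts differ by a map factoring through `I/I² → B ⊗ Ω_{R/A}`.
-/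

set_option autoImplicit false

namespace Groth.Agent.H56.ExalT1

open Exal Groth.Agent.H29.ExalL Groth.Agent.H56.ExalBaer Groth.Agent.H56.ExalPres
open TensorProduct

universe u

variable {A B : Type u} [CommRing A] [CommRing B] [Algebra A B] {ι σ : Type u}
  (P : Algebra.Presentation A B ι σ) {M : Type u} [AddCommGroup M] [Module B M]

section Phi

variable (X : Ext A B M) (t : P.toExtension.Ring →ₐ[A] X.E)
  (ht : ∀ r, X.proj (t r) = algebraMap P.toExtension.Ring B r)

include ht in
lemma proj_t_of_mem (x : P.toExtension.ker) : X.proj (t x) = 0 := by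
  rw [ht]
  exact x.2

/-- the element of `M` under the image of an element of the kernel -/
noncomputable def del (x : P.toExtension.ker) : M := X.kerLift (t x) (proj_t_of_mem P X t ht x)

lemma incl_del (x : P.toExtension.ker) : X.incl (del P X t ht x) = t x :=
  X.incl_kerLift _ _

lemma del_add (x y : P.toExtension.ker) :
    del P X t ht (x + y) = del P X t ht x + del P X t ht y := by
  apply X.isExtension.incl_injective
  rw [map_add, incl_del, incl_del, incl_del, Submodule.coe_add, map_add]

lemma del_smul (r : P.toExtension.Ring) (x : P.toExtension.ker) :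
    del P X t ht (r • x) = algebraMap P.toExtension.Ring B r • del P X t ht x := by
  apply X.isExtension.incl_injective
  rw [incl_del, ← ht, ← X.isExtension.mul_incl, incl_del, Submodule.coe_smul, smul_eq_mul, map_mul]

include ht in
lemma t_eq_zero_of_mem_sq (x : P.toExtension.Ring) (hx : x ∈ P.toExtension.ker ^ 2) : t x = 0 := by
  rw [pow_two] at hx
  refine Submodule.mul_induction_on hx ?_ ?_
  · intro a ha b hb
    have h1 := incl_del P X t ht ⟨a, ha⟩
    have h2 := incl_del P X t ht ⟨b, hb⟩
    rw [map_mul, ← h1, ← h2]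
    exact incl_mul_incl X _ _
  · intro a b ha hb
    rw [map_add, ha, hb, add_zero]

/-- the underlying function of `phi` -/
noncomputable def phiFun (c : P.toExtension.Cotangent) : M :=
  del P X t ht (Algebra.Extension.Cotangent.mk_surjective c).choose

lemma phiFun_mk (x : P.toExtension.ker) :
    phiFun P X t ht (Algebra.Extension.Cotangent.mk x) = del P X t ht x := by
  have h1 := (Algebra.Extension.Cotangent.mk_surjective
    (Algebra.Extension.Cotangent.mk x)).choose_spec
  rw [Algebra.Extension.Cotangent.mk_eq_mk_iff_sub_mem] at h1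
  have h2 := t_eq_zero_of_mem_sq P X t ht _ h1
  rw [map_sub, sub_eq_zero] at h2
  apply X.isExtension.incl_injective
  rw [incl_del]
  show X.incl (del P X t ht _) = _
  rw [incl_del]
  exact h2

/-- the `B`-linear map `I/I² → M` induced by a lift -/
noncomputable def phi : P.toExtension.Cotangent →ₗ[B] M where
  toFun := phiFun P X t ht
  map_add' c c' := by
    obtain ⟨x, rfl⟩ := Algebra.Extension.Cotangent.mk_surjective c
    obtain ⟨y, rfl⟩ := Algebra.Extension.Cotangent.mk_surjective c'
    rw [← map_add, phiFun_mk, phiFun_mk, phiFun_mk, del_add]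
  map_smul' b c := by
    obtain ⟨x, rfl⟩ := Algebra.Extension.Cotangent.mk_surjective c
    obtain ⟨r, rfl⟩ := P.toExtension.algebraMap_surjective b
    rw [RingHom.id_apply, algebraMap_smul, ← map_smul, phiFun_mk, phiFun_mk, del_smul]

lemma incl_phi_mk (x : P.toExtension.ker) :
    X.incl (phi P X t ht (Algebra.Extension.Cotangent.mk x)) = t x := by
  show X.incl (phiFun P X t ht _) = _
  rw [phiFun_mk, incl_del]

/-- `phi` is determined by its defining property -/
lemma phi_eq_of_incl (φ : P.toExtension.Cotangent →ₗ[B] M)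
    (h : ∀ x : P.toExtension.ker, X.incl (φ (Algebra.Extension.Cotangent.mk x)) = t x) :
    phi P X t ht = φ := by
  ext c
  obtain ⟨x, rfl⟩ := Algebra.Extension.Cotangent.mk_surjective c
  apply X.isExtension.incl_injective
  rw [incl_phi_mk, h]

end Phi

section Lift

variable (X : Ext A B M)

/-- the polynomial ring of the presentation lifts to the middle ring of any extension -/
theorem exists_lift : ∃ t : P.toExtension.Ring →ₐ[A] X.E,
    ∀ r, X.proj (t r) = algebraMap P.toExtension.Ring B r := by
  choose e he using fun i : ι => X.isExtension.proj_surjective (P.val i)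
  let t : P.toExtension.Ring →ₐ[A] X.E := (MvPolynomial.aeval e : MvPolynomial ι A →ₐ[A] X.E)
  refine ⟨t, fun r => ?_⟩
  have h1 : X.proj.comp t = IsScalarTower.toAlgHom A P.toExtension.Ring B := by
    apply MvPolynomial.algHom_ext
    intro i
    show X.proj (MvPolynomial.aeval e (MvPolynomial.X i)) = algebraMap P.toExtension.Ring B _
    rw [MvPolynomial.aeval_X, he, CotT.algebraMap_toExtension, MvPolynomial.aeval_X]
  exact DFunLike.congr_fun h1 r

/-- a lift with prescribed values on the variables -/
theorem exists_lift_of_values (e : ι → X.E) (he : ∀ i, X.proj (e i) = P.val i) :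
    ∃ t : P.toExtension.Ring →ₐ[A] X.E,
      (∀ r, X.proj (t r) = algebraMap P.toExtension.Ring B r) ∧
      ∀ i, t (MvPolynomial.X i) = e i := by
  let t : P.toExtension.Ring →ₐ[A] X.E := (MvPolynomial.aeval e : MvPolynomial ι A →ₐ[A] X.E)
  refine ⟨t, fun r => ?_, fun i => MvPolynomial.aeval_X e i⟩
  have h1 : X.proj.comp t = IsScalarTower.toAlgHom A P.toExtension.Ring B := by
    apply MvPolynomial.algHom_ext
    intro i
    show X.proj (MvPolynomial.aeval e (MvPolynomial.X i)) = algebraMap P.toExtension.Ring B _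
    rw [MvPolynomial.aeval_X, he, CotT.algebraMap_toExtension, MvPolynomial.aeval_X]
  exact DFunLike.congr_fun h1 r

end Lift

section Diff

variable (X : Ext A B M) (t t' : P.toExtension.Ring →ₐ[A] X.E)
  (ht : ∀ r, X.proj (t r) = algebraMap P.toExtension.Ring B r)
  (ht' : ∀ r, X.proj (t' r) = algebraMap P.toExtension.Ring B r)
  (ψ : P.toExtension.CotangentSpace →ₗ[B] M)
  (hψ : ∀ i, X.incl (ψ (P.cotangentSpaceBasis i)) = t (MvPolynomial.X i) - t' (MvPolynomial.X i))

omit ψ hψ in
include ht ht' in
lemma incl_psi_D_add (ψ : P.toExtension.CotangentSpace →ₗ[B] M) (p q : P.toExtension.Ring)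
    (hp : X.incl (ψ ((1 : B) ⊗ₜ[P.toExtension.Ring] KaehlerDifferential.D A P.toExtension.Ring p))
      = t p - t' p)
    (hq : X.incl (ψ ((1 : B) ⊗ₜ[P.toExtension.Ring] KaehlerDifferential.D A P.toExtension.Ring q))
      = t q - t' q) :
    X.incl (ψ ((1 : B) ⊗ₜ[P.toExtension.Ring] KaehlerDifferential.D A P.toExtension.Ring (p + q)))
      = t (p + q) - t' (p + q) := by
  rw [map_add, TensorProduct.tmul_add, map_add, map_add, hp, hq, map_add, map_add]
  ring

omit ψ hψ in
include ht ht' in
lemma incl_psi_D_mul (ψ : P.toExtension.CotangentSpace →ₗ[B] M) (p q : P.toExtension.Ring)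
    (hp : X.incl (ψ ((1 : B) ⊗ₜ[P.toExtension.Ring] KaehlerDifferential.D A P.toExtension.Ring p))
      = t p - t' p)
    (hq : X.incl (ψ ((1 : B) ⊗ₜ[P.toExtension.Ring] KaehlerDifferential.D A P.toExtension.Ring q))
      = t q - t' q) :
    X.incl (ψ ((1 : B) ⊗ₜ[P.toExtension.Ring] KaehlerDifferential.D A P.toExtension.Ring (p * q)))
      = t (p * q) - t' (p * q) := by
  rw [Derivation.leibniz, TensorProduct.tmul_add, TensorProduct.tmul_smul,
    TensorProduct.tmul_smul, ← algebraMap_smul B p, ← algebraMap_smul B q,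
    map_add, map_smul, map_smul, map_add, ← ht p, ← ht' q,
    ← X.isExtension.mul_incl, ← X.isExtension.mul_incl, hq, hp, map_mul, map_mul]
  ring

omit ψ hψ in
lemma incl_psi_D_algebraMap (ψ : P.toExtension.CotangentSpace →ₗ[B] M) (a : A) :
    X.incl (ψ ((1 : B) ⊗ₜ[P.toExtension.Ring] KaehlerDifferential.D A P.toExtension.Ring
      (algebraMap A P.toExtension.Ring a)))
      = t (algebraMap A P.toExtension.Ring a) - t' (algebraMap A P.toExtension.Ring a) := by
  rw [Derivation.map_algebraMap, TensorProduct.tmul_zero, map_zero, map_zero,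
    AlgHom.commutes, AlgHom.commutes, sub_self]

include ht ht' hψ in
/-- the difference of two lifts is the derivation attached to `ψ` -/
lemma incl_psi_D (r : P.toExtension.Ring) :
    X.incl (ψ ((1 : B) ⊗ₜ[P.toExtension.Ring] KaehlerDifferential.D A P.toExtension.Ring r))
      = t r - t' r := by
  refine MvPolynomial.induction_on (motive := fun r : MvPolynomial ι A =>
    X.incl (ψ ((1 : B) ⊗ₜ[P.toExtension.Ring] KaehlerDifferential.D A P.toExtension.Ring r))
      = t r - t' r) r ?_ ?_ ?_
  · intro a
    exact incl_psi_D_algebraMap P X t t' ψ a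
  · intro p q hp hq
    exact incl_psi_D_add P X t t' ht ht' ψ p q hp hq
  · intro p i hp
    have hX := hψ i
    rw [Algebra.Generators.cotangentSpaceBasis_apply] at hX
    exact incl_psi_D_mul P X t t' ht ht' ψ p (MvPolynomial.X i) hp hX

include ht ht' hψ in
lemma phi_sub_eq :
    phi P X t ht - phi P X t' ht' = ψ ∘ₗ P.toExtension.cotangentComplex := by
  ext c
  obtain ⟨x, rfl⟩ := Algebra.Extension.Cotangent.mk_surjective c
  apply X.isExtension.incl_injective
  rw [LinearMap.sub_apply, map_sub, incl_phi_mk, incl_phi_mk, LinearMap.comp_apply,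
    Algebra.Extension.cotangentComplex_mk, incl_psi_D P X t t' ht ht' ψ hψ]

omit ψ hψ in
include ht ht' in
/-- two lifts of one extension induce maps differing by a coboundary -/
theorem exists_psi : ∃ ψ : P.toExtension.CotangentSpace →ₗ[B] M,
    phi P X t ht - phi P X t' ht' = ψ ∘ₗ P.toExtension.cotangentComplex := by
  have h0 : ∀ i, X.proj (t (MvPolynomial.X i) - t' (MvPolynomial.X i)) = 0 := fun i => by
    rw [map_sub, ht, ht', sub_self]
  refine ⟨P.cotangentSpaceBasis.constr ℤ (fun i => X.kerLift _ (h0 i)), ?_⟩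
  refine phi_sub_eq P X t t' ht ht' _ (fun i => ?_)
  rw [Module.Basis.constr_basis, X.incl_kerLift]

end Diff

section Main

variable (M)

lemma homToT1_eq_iff (φ φ' : P.toExtension.Cotangent →ₗ[B] M) :
    CotT.homToT1 P M φ = CotT.homToT1 P M φ' ↔
      ∃ ψ : P.toExtension.CotangentSpace →ₗ[B] M,
        φ - φ' = ψ ∘ₗ P.toExtension.cotangentComplex := by
  have h := (Groth.Agent.S12289.result A B ι σ P M).2.1
  rw [← sub_eq_zero, ← map_sub, ← LinearMap.mem_ker, h, LinearMap.mem_range]
  constructor
  · rintro ⟨ψ, hψ⟩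
    exact ⟨ψ, hψ.symm⟩
  · rintro ⟨ψ, hψ⟩
    exact ⟨ψ, hψ.symm⟩

/-- the class in `T¹` of an extension -/
noncomputable def classMap (X : Ext A B M) : CotT.T1 P M :=
  CotT.homToT1 P M (phi P X (exists_lift P X).choose (exists_lift P X).choose_spec)

lemma classMap_eq (X : Ext A B M) (t : P.toExtension.Ring →ₐ[A] X.E)
    (ht : ∀ r, X.proj (t r) = algebraMap P.toExtension.Ring B r) :
    classMap P M X = CotT.homToT1 P M (phi P X t ht) := by
  rw [classMap, homToT1_eq_iff]
  exact exists_psi P X _ t _ ht

lemma classMap_congr {X X' : Ext A B M} (θ : X.Equiv X') : classMap P M X = classMap P M X' := by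
  obtain ⟨t, ht⟩ := exists_lift P X
  let t' : P.toExtension.Ring →ₐ[A] X'.E := (θ.toAlgEquiv : X.E →ₐ[A] X'.E).comp t
  have ht' : ∀ r, X'.proj (t' r) = algebraMap P.toExtension.Ring B r := fun r => by
    show X'.proj (θ.toAlgEquiv (t r)) = _
    rw [θ.proj_apply, ht]
  rw [classMap_eq P M X t ht, classMap_eq P M X' t' ht']
  congr 1
  symm
  apply phi_eq_of_incl
  intro x
  show X'.incl _ = θ.toAlgEquiv (t x)
  rw [← incl_phi_mk P X t ht x, θ.apply_incl]

lemma classMap_injective {X X' : Ext A B M} (h : classMap P M X = classMap P M X') :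
    Nonempty (X.Equiv X') := by
  obtain ⟨t, ht⟩ := exists_lift P X
  obtain ⟨t', ht'⟩ := exists_lift P X'
  rw [classMap_eq P M X t ht, classMap_eq P M X' t' ht', homToT1_eq_iff] at h
  obtain ⟨ψ, hψ⟩ := h
  obtain ⟨t'', ht'', hval⟩ := exists_lift_of_values P X'
    (fun i => t' (MvPolynomial.X i) + X'.incl (ψ (P.cotangentSpaceBasis i)))
    (fun i => by
      rw [map_add, ht', proj_incl, add_zero, CotT.algebraMap_toExtension, MvPolynomial.aeval_X])
  have h1 : phi P X' t'' ht'' - phi P X' t' ht' = ψ ∘ₗ P.toExtension.cotangentComplex :=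
    phi_sub_eq P X' t'' t' ht'' ht' ψ (fun i => by rw [hval]; ring)
  have h2 : phi P X' t'' ht'' = phi P X t ht := sub_left_injective (h1.trans hψ.symm)
  refine equiv_of_lifts P.toExtension.algebraMap_surjective X X' t t'' ht ht'' (fun c hc => ?_)
  refine ⟨phi P X t ht (Algebra.Extension.Cotangent.mk ⟨c, hc⟩), incl_phi_mk P X t ht ⟨c, hc⟩, ?_⟩
  rw [← h2]
  exact incl_phi_mk P X' t'' ht'' ⟨c, hc⟩

lemma classMap_surjective (τ : CotT.T1 P M) : ∃ X : Ext A B M, classMap P M X = τ := by
  obtain ⟨φ, rfl⟩ := (Groth.Agent.S12289.result A B ι σ P M).2.2 τ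
  let _ : Module P.toExtension.Ring M := Module.compHom M (algebraMap P.toExtension.Ring B)
  have _ : IsScalarTower P.toExtension.Ring B M := IsScalarTower.of_compHom _ B M
  let δ : RingHom.ker (algebraMap P.toExtension.Ring B) →ₗ[P.toExtension.Ring] M :=
    { toFun := fun x => φ (Algebra.Extension.Cotangent.mk x)
      map_add' := fun x y => by rw [map_add, map_add]
      map_smul' := fun r x => by
        rw [map_smul, ← algebraMap_smul B r (Algebra.Extension.Cotangent.mk x), map_smul,
          RingHom.id_apply, algebraMap_smul] }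
  obtain ⟨X, t, ht, hδ⟩ := exists_ext_of_linearMap (A := A) δ P.toExtension.algebraMap_surjective
  refine ⟨X, ?_⟩
  rw [classMap_eq P M X t ht]
  congr 1
  exact phi_eq_of_incl P X t ht φ (fun x => hδ x)

lemma classMap_trivial : classMap P M (Ext.trivial A B M) = 0 := by
  obtain ⟨s, hs⟩ := trivial_isTrivial (A := A) (B := B) (L := M)
  let t₀ : P.toExtension.Ring →ₐ[A] (Ext.trivial A B M).E :=
    s.comp (IsScalarTower.toAlgHom A P.toExtension.Ring B)
  have ht₀ : ∀ r, (Ext.trivial A B M).proj (t₀ r) = algebraMap P.toExtension.Ring B r :=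
    fun r => hs _
  rw [classMap_eq P M _ t₀ ht₀]
  have h0 : phi P (Ext.trivial A B M) t₀ ht₀ = 0 := by
    apply phi_eq_of_incl
    intro x
    show _ = s (algebraMap P.toExtension.Ring B x)
    have hx : algebraMap P.toExtension.Ring B x = 0 := x.2
    rw [hx, map_zero, LinearMap.zero_apply, map_zero]
  rw [h0, map_zero]

/-- classes of extensions correspond bijectively to `T¹` of the presentation -/
theorem exists_equiv : ∃ e : Exalcom A B M ≃ CotT.T1 P M, e 0 = 0 := by
  let f : Exalcom A B M → CotT.T1 P M := Quotient.lift (classMap P M) (fun X X' h => by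
    obtain ⟨θ⟩ := h
    exact classMap_congr P M θ)
  have hf : Function.Bijective f := by
    constructor
    · intro a b
      induction a using Quotient.inductionOn with
      | _ X =>
        induction b using Quotient.inductionOn with
        | _ X' =>
          intro h
          exact Quotient.sound (classMap_injective P M h)
    · intro τ
      obtain ⟨X, hX⟩ := classMap_surjective P M τ
      exact ⟨Quotient.mk _ X, hX⟩
  exact ⟨Equiv.ofBijective f hf, classMap_trivial P M⟩

end Main

end Groth.Agent.H56.ExalT1
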