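import Mathlib
import Groth.Agent.H56.JacCot
import Groth.Agent.S7918

/-!
# Jacobian criterion for regularity at a rational point (with local generators)

* `height_le_height_quotient_add_card`: Krull's height theorem with *local* generators.
* `le_height_ker_eval`: the maximal ideal of a rational point of affine `n`-space has height `≥ n`.
* `isRegularLocalRing_of_jacobian_rank`: if the ideal `(F)` is generated at the rational point `a`
  by `c` elements and the Jacobian matrix of `F` at `a` has rank `≥ c`, the local ring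
  of `k[T]/(F)` at `a` is regular of dimension `n - c`.
-/

set_option autoImplicit false
universe u

open MvPolynomial IsLocalRing

namespace Groth.Agent.H56.JacReg

/-- Krull's height theorem with local generators: if `I ≤ p`, and `I` is generated at `p` by the
finite set `G ⊆ p` (there is `u ∉ p` with `u • I ≤ span G`), then
`ht p ≤ ht (p / I) + #G`. -/
theorem height_le_height_quotient_add_card {R : Type*} [CommRing R] [IsNoetherianRing R]
    {I p : Ideal R} [p.IsPrime] (hIp : I ≤ p) (G : Finset R) (hG : (G : Set R) ⊆ p)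
    (u : R) (hu : u ∉ p) (huI : ∀ x ∈ I, u * x ∈ Ideal.span (G : Set R)) :
    p.height ≤ (p.map (Ideal.Quotient.mk I)).height + G.card := by
  classical
  let p' := p.map (Ideal.Quotient.mk I)
  have hp' : p'.IsPrime := Ideal.isPrime_map_quotientMk_of_isPrime hIp
  obtain ⟨s, hps, hs⟩ := Ideal.exists_finset_card_eq_height_of_isNoetherianRing p'
  have hsp' : (s : Set (R ⧸ I)) ⊆ (p' : Set _) := fun _ hx ↦ hps.1.2 (Ideal.subset_span hx)
  have hsurj : Set.SurjOn (Ideal.Quotient.mk I) p s := by
    refine Set.SurjOn.mono subset_rfl hsp' fun x hx ↦ ?_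
    obtain ⟨x, rfl⟩ := Ideal.Quotient.mk_surjective x
    refine ⟨x, ?_, rfl⟩
    have hx' : Ideal.Quotient.mk I x ∈ p.map (Ideal.Quotient.mk I) := hx
    rw [Ideal.mem_map_iff_of_surjective _ Ideal.Quotient.mk_surjective] at hx'
    obtain ⟨y, hy, hxy⟩ := hx'
    have : x - y ∈ I := by
      rw [← Ideal.Quotient.eq]; exact hxy.symm
    have h2 : x = (x - y) + y := by ring
    rw [h2]
    exact p.add_mem (hIp this) hy
  obtain ⟨o, hsubset, ho, himgo⟩ := s.exists_subset_injOn_image_eq_of_surjOn (p : Set R) hsurj
  let t : Finset R := o ∪ G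
  have hmin0 : p ∈ (I ⊔ Ideal.span (o : Set R)).minimalPrimes := by
    refine Ideal.mem_minimalPrimes_sup hIp ?_
    have : (Ideal.span (o : Set R)).map (Ideal.Quotient.mk I) = Ideal.span (s : Set (R ⧸ I)) := by
      rw [Ideal.map_span, ← himgo]
      simp
    rw [this]
    exact hps
  have hmin : p ∈ (Ideal.span (t : Set R)).minimalPrimes := by
    refine ⟨⟨inferInstance, ?_⟩, fun q ⟨hqprime, hq⟩ hqp ↦ ?_⟩
    · rw [Ideal.span_le]
      intro x hx
      rcases Finset.mem_union.mp (Finset.mem_coe.mp hx) with h | h
      · exact hsubset h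
      · exact hG h
    · have hIq : I ≤ q := by
        intro x hx
        have h1 : u * x ∈ q := by
          refine hq ((Ideal.span_mono ?_) (huI x hx))
          intro g hg
          exact Finset.mem_coe.mpr (Finset.mem_union_right _ (Finset.mem_coe.mp hg))
        rcases hqprime.mem_or_mem h1 with h | h
        · exact absurd (hqp h) hu
        · exact h
      have hoq : Ideal.span (o : Set R) ≤ q := by
        refine le_trans (Ideal.span_mono ?_) hq
        intro g hg
        exact Finset.mem_coe.mpr (Finset.mem_union_left _ (Finset.mem_coe.mp hg))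
      exact hmin0.2 ⟨hqprime, sup_le hIq hoq⟩ hqp
  have h := Ideal.height_le_card_of_mem_minimalPrimes_span_finset hmin
  refine le_trans h ?_
  rw [← hs]
  have hcard : t.card ≤ s.card + G.card := by
    refine le_trans (Finset.card_union_le _ _) ?_
    rw [← himgo, Finset.card_image_of_injOn ho]
  exact_mod_cast hcard

section point

variable {k : Type u} [Field k] {n : ℕ} (a : Fin n → k)

/-- The maximal ideal of a rational point of affine `n`-space has height at least `n`. -/
theorem le_height_ker_eval : (n : ℕ∞) ≤ (RingHom.ker (eval a)).height := by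
  classical
  have hfrac : ∀ x : k, ∃ c b : k, b ≠ 0 ∧ algebraMap k k b * x = algebraMap k k c :=
    fun x => ⟨x, 1, one_ne_zero, by simp⟩
  have hinj : Function.Injective (algebraMap k k) := fun x y h => h
  have hprime : ∀ j : ℕ, (RingHom.ker (Groth.Agent.S7918.phi (A := k) a j)).IsPrime := fun j =>
    RingHom.ker_isPrime _
  let g : Fin (n + 1) → PrimeSpectrum (MvPolynomial (Fin n) k) := fun j =>
    ⟨RingHom.ker (Groth.Agent.S7918.phi (A := k) a j), hprime j⟩
  have hg : StrictMono g := by
    rw [Fin.strictMono_iff_lt_succ]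
    intro i
    change RingHom.ker (Groth.Agent.S7918.phi (A := k) a i) <
      RingHom.ker (Groth.Agent.S7918.phi (A := k) a (i.succ : Fin (n + 1)))
    have := Groth.Agent.S7918.ker_phi_lt a hinj hfrac i.2
    simpa using this
  have hlast : (g (Fin.last n)).asIdeal = RingHom.ker (eval a) := by
    change RingHom.ker (Groth.Agent.S7918.phi (A := k) a n) = _
    ext p
    have hev : eval₂Hom (algebraMap k k) a p = eval a p := rfl
    rw [RingHom.mem_ker, RingHom.mem_ker, Groth.Agent.S7918.phi_top, hev]
    constructor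
    · intro h
      rw [← C_0] at h
      exact C_injective _ _ h
    · intro h
      rw [h, C_0]
  have hs : ((LTSeries.mk n g hg).length : ℕ∞) ≤ Order.height (LTSeries.mk n g hg).last :=
    Order.length_le_height_last
  have hker : (RingHom.ker (eval a)).IsPrime := RingHom.ker_isPrime _
  have h2 : (LTSeries.mk n g hg).last = ⟨RingHom.ker (eval a), hker⟩ := by
    apply PrimeSpectrum.ext
    exact hlast
  rw [h2, ← PrimeSpectrum.height_eq_orderHeight] at hs
  exact hs

end point

section main

variable {k : Type u} [Field k] {n r : ℕ} (F : Fin r → MvPolynomial (Fin n) k) (a : Fin n → k)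
  (𝔪 : Ideal (MvPolynomial (Fin n) k ⧸ Ideal.span (Set.range F))) [𝔪.IsMaximal]
  (h𝔪 : 𝔪.comap (Ideal.Quotient.mk (Ideal.span (Set.range F))) = RingHom.ker (MvPolynomial.eval a))

include h𝔪

/-- **Jacobian criterion** (regularity at a rational point).  If `(F)` is generated near the
rational point `a` by a set `G` of at most `c` elements (`u • (F) ≤ (G)` with `u(a) ≠ 0`) and the
Jacobian matrix of `F` at `a` has rank at least `c`, then the local ring of `k[T]/(F)` at `a` is
regular of dimension `n - c`. -/
theorem isRegularLocalRing_of_jacobian_rank (c : ℕ) (G : Finset (MvPolynomial (Fin n) k))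
    (hGc : G.card ≤ c) (hG : ∀ g ∈ G, eval a g = 0) (u : MvPolynomial (Fin n) k)
    (hu : eval a u ≠ 0) (huF : ∀ i, u * F i ∈ Ideal.span (G : Set (MvPolynomial (Fin n) k)))
    (hrank : c ≤ (Matrix.of fun i j => eval a (pderiv j (F i))).rank) :
    IsRegularLocalRing (Localization.AtPrime 𝔪) ∧
      ringKrullDim (Localization.AtPrime 𝔪) + (c : WithBot ℕ∞) = n := by
  classical
  have h𝔫prime : (RingHom.ker (eval a)).IsPrime := RingHom.ker_isPrime _
  have hI𝔫 : Ideal.span (Set.range F) ≤ RingHom.ker (eval a) := by
    rw [← h𝔪]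
    intro x hx
    rw [Ideal.mem_comap, Ideal.Quotient.eq_zero_iff_mem.mpr hx]
    exact 𝔪.zero_mem
  have h𝔪map : 𝔪 = (RingHom.ker (eval a)).map (Ideal.Quotient.mk (Ideal.span (Set.range F))) := by
    rw [← h𝔪, Ideal.map_comap_of_surjective _ Ideal.Quotient.mk_surjective]
  have huI : ∀ x ∈ Ideal.span (Set.range F), u * x ∈ Ideal.span (G : Set (MvPolynomial (Fin n) k)) := by
    intro x hx
    refine Submodule.span_induction (p := fun x _ => u * x ∈ Ideal.span (G : Set _)) ?_ ?_ ?_ ?_ hx
    · rintro _ ⟨i, rfl⟩
      exact huF i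
    · rw [mul_zero]; exact Ideal.zero_mem _
    · intro x y _ _ hx hy
      rw [mul_add]; exact Ideal.add_mem _ hx hy
    · intro b x _ hx
      rw [smul_eq_mul, mul_left_comm]
      exact Ideal.mul_mem_left _ _ hx
  have hG' : (G : Set (MvPolynomial (Fin n) k)) ⊆ (RingHom.ker (eval a) : Ideal (MvPolynomial (Fin n) k)) := fun g hg =>
    RingHom.mem_ker.mpr (hG g (Finset.mem_coe.mp hg))
  have hu' : u ∉ RingHom.ker (eval a) := fun h => hu (RingHom.mem_ker.mp h)
  have hK := height_le_height_quotient_add_card hI𝔫 G hG' u hu' huI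
  rw [← h𝔪map] at hK
  have hn := le_height_ker_eval a
  have hdim : ringKrullDim (Localization.AtPrime 𝔪) = 𝔪.height :=
    IsLocalization.AtPrime.ringKrullDim_eq_height 𝔪 (Localization.AtPrime 𝔪)
  have hcot := JacCot.finrank_cotangentSpace_add_rank F a 𝔪 h𝔪
  have hle : ringKrullDim (Localization.AtPrime 𝔪) ≤
      (Module.finrank (ResidueField (Localization.AtPrime 𝔪))
        (CotangentSpace (Localization.AtPrime 𝔪)) : WithBot ℕ∞) := by
    have h3 := IsLocalRing.spanFinrank_maximalIdeal_eq_finrank_cotangentSpace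
      (Localization.AtPrime 𝔪)
    have := ringKrullDim_le_spanFinrank_maximalIdeal (Localization.AtPrime 𝔪)
    refine this.trans (le_of_eq ?_)
    exact congrArg (fun m : ℕ => (m : WithBot ℕ∞)) h3
  set f := Module.finrank (ResidueField (Localization.AtPrime 𝔪))
        (CotangentSpace (Localization.AtPrime 𝔪)) with hf
  set ρ := (Matrix.of fun i j => eval a (pderiv j (F i))).rank with hρ
  rw [hdim] at hle
  have hle' : 𝔪.height ≤ (f : ℕ∞) := by exact_mod_cast hle
  obtain ⟨h, hh⟩ : ∃ h : ℕ, 𝔪.height = h := by
    refine ⟨𝔪.height.toNat, (ENat.coe_toNat ?_).symm⟩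
    exact ne_top_of_le_ne_top (ENat.natCast_ne_top f) hle'
  rw [hh] at hle' hK
  have h1 : h ≤ f := by exact_mod_cast hle'
  have h2 : n ≤ h + G.card := by
    have := hn.trans hK
    exact_mod_cast this
  have hhf : h = f := by omega
  have hcn : h + c = n := by omega
  refine ⟨?_, ?_⟩
  · rw [IsRegularLocalRing.iff_finrank_cotangentSpace, hdim, hh, ← hf, hhf]
    rfl
  · rw [hdim, hh]
    exact_mod_cast hcn

end main

end Groth.Agent.H56.JacReg
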