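import Mathlib

/-!
# Length in towers and a Herbrand-quotient lemma

* `length_quotient_eq_add`: for submodules `A ≤ B` of `V`, `ℓ(V/A) = ℓ(B/A) + ℓ(V/B)`.
* `length_quotient_smul_eq`: if `x` acts injectively on `V` and `A ≤ V` has finite colength then
  `ℓ(V/xV) = ℓ(A/xA)`.
-/

set_option autoImplicit false

namespace Groth.Agent.H56.LengthHerbrand

variable {R : Type*} [CommRing R] {V : Type*} [AddCommGroup V] [Module R V]

theorem mem_span_singleton_smul_top (x : R) (y : V) :
    y ∈ (Ideal.span {x} • (⊤ : Submodule R V)) ↔ ∃ v : V, x • v = y := by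
  rw [Submodule.ideal_span_singleton_smul, Submodule.mem_smul_pointwise_iff_exists]
  simp

/-- additivity of length in a tower `A ≤ B ≤ V` -/
theorem length_quotient_eq_add (A B : Submodule R V) (hAB : A ≤ B) :
    Module.length R (V ⧸ A) =
      Module.length R (B ⧸ A.comap B.subtype) + Module.length R (V ⧸ B) := by
  let f : (B ⧸ A.comap B.subtype) →ₗ[R] (V ⧸ A) :=
    Submodule.mapQ (A.comap B.subtype) A B.subtype le_rfl
  let g : (V ⧸ A) →ₗ[R] (V ⧸ B) := Submodule.mapQ A B LinearMap.id (by simpa using hAB)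
  refine Module.length_eq_add_of_exact f g ?_ ?_ ?_
  · rw [← LinearMap.ker_eq_bot, eq_bot_iff]
    intro y hy
    obtain ⟨b, rfl⟩ := Submodule.mkQ_surjective _ y
    rw [LinearMap.mem_ker] at hy
    simp only [f, Submodule.mkQ_apply, Submodule.mapQ_apply, Submodule.subtype_apply] at hy
    rw [Submodule.Quotient.mk_eq_zero] at hy
    rw [Submodule.mem_bot, Submodule.mkQ_apply, Submodule.Quotient.mk_eq_zero]
    exact hy
  · intro z
    obtain ⟨v, rfl⟩ := Submodule.mkQ_surjective _ z
    exact ⟨Submodule.Quotient.mk v, by simp [g]⟩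
  · intro y
    obtain ⟨v, rfl⟩ := Submodule.mkQ_surjective _ y
    simp only [g, Submodule.mkQ_apply, Submodule.mapQ_apply, LinearMap.id_coe, id_eq,
      Submodule.Quotient.mk_eq_zero, Set.mem_range]
    constructor
    · intro hv
      exact ⟨Submodule.Quotient.mk ⟨v, hv⟩, by simp [f]⟩
    · rintro ⟨z, hz⟩
      obtain ⟨b, rfl⟩ := Submodule.mkQ_surjective _ z
      simp only [f, Submodule.mkQ_apply, Submodule.mapQ_apply, Submodule.subtype_apply] at hz
      rw [Submodule.Quotient.eq] at hz
      have : v = b.1 - (b.1 - v) := by abel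
      rw [this]
      exact B.sub_mem b.2 (hAB hz)

/-- **Herbrand quotient**: multiplication by `x` injective on `V`, `A` of finite colength in `V`:
`ℓ(V/xV) = ℓ(A/xA)`. -/
theorem length_quotient_smul_eq (x : R) (hx : Function.Injective (fun v : V => x • v))
    (A : Submodule R V) (hfin : Module.length R (V ⧸ A) ≠ ⊤) :
    Module.length R (V ⧸ (Ideal.span {x} • ⊤ : Submodule R V)) =
      Module.length R (A ⧸ (Ideal.span {x} • ⊤ : Submodule R A)) := by
  let xV : Submodule R V := Ideal.span {x} • ⊤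
  let xA : Submodule R V := A.map (LinearMap.lsmul R V x)
  have hxA_A : xA ≤ A := by
    rintro _ ⟨a, ha, rfl⟩
    exact A.smul_mem x ha
  have hxA_xV : xA ≤ xV := by
    rintro _ ⟨a, ha, rfl⟩
    exact (mem_span_singleton_smul_top x _).mpr ⟨a, rfl⟩
  have T1 := length_quotient_eq_add xA A hxA_A
  have T2 := length_quotient_eq_add xA xV hxA_xV
  -- first identification
  have h1 : xA.comap A.subtype = (Ideal.span {x} • ⊤ : Submodule R A) := by
    ext a
    rw [mem_span_singleton_smul_top, Submodule.mem_comap]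
    constructor
    · rintro ⟨a', ha', h⟩
      exact ⟨⟨a', ha'⟩, Subtype.ext h⟩
    · rintro ⟨a', h⟩
      exact ⟨a'.1, a'.2, congrArg Subtype.val h⟩
  -- second identification
  let e0 : V ≃ₗ[R] LinearMap.range (LinearMap.lsmul R V x) :=
    LinearEquiv.ofInjective (LinearMap.lsmul R V x) hx
  have hrange : LinearMap.range (LinearMap.lsmul R V x) = xV := by
    ext y
    rw [mem_span_singleton_smul_top]
    simp [LinearMap.mem_range]
  let e : V ≃ₗ[R] xV := e0.trans (LinearEquiv.ofEq _ _ hrange)
  have he : ∀ v : V, (e v : V) = x • v := fun v => rfl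
  have h2 : A.map (e : V →ₗ[R] xV) = xA.comap xV.subtype := by
    ext y
    rw [Submodule.mem_map, Submodule.mem_comap]
    constructor
    · rintro ⟨a, ha, rfl⟩
      exact ⟨a, ha, (he a).symm⟩
    · rintro ⟨a, ha, h⟩
      exact ⟨a, ha, Subtype.ext ((he a).trans h)⟩
  have e2 : (V ⧸ A) ≃ₗ[R] (xV ⧸ xA.comap xV.subtype) := Submodule.Quotient.equiv A _ e h2
  rw [h1] at T1
  rw [← e2.length_eq] at T2
  rw [T1] at T2
  -- cancel
  have h3 : Module.length R (A ⧸ (Ideal.span {x} • ⊤ : Submodule R A)) + Module.length R (V ⧸ A) =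
      Module.length R (V ⧸ xV) + Module.length R (V ⧸ A) := by
    rw [T2, add_comm]
  exact ((ENat.add_left_injective_of_ne_top hfin) h3).symm

end Groth.Agent.H56.LengthHerbrand
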