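import Mathlib

/-!
# Specialising a transcendence-degree-one subfield of `k(t_1,…,t_n)` to a line

helper56.  For an infinite field `k`, a field `K` algebraic over `k(x)` (`x` transcendental) with a
`k`-embedding into `Frac k[t_1,…,t_n]` admits a `k`-embedding into `RatFunc k`; hence (Lüroth)
`K = k(t)`.
-/

set_option autoImplicit false
universe u

namespace Groth.Agent.H56.LurothLine

open Polynomial

section points

variable {k : Type u} [Field k] [Infinite k] {n : ℕ}

theorem exists_eval_ne_zero {q : MvPolynomial (Fin n) k} (hq : q ≠ 0) :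
    ∃ a : Fin n → k, MvPolynomial.eval a q ≠ 0 := by
  by_contra h
  push Not at h
  exact hq (MvPolynomial.funext fun a => by rw [h a, map_zero])

theorem exists_points (p q : MvPolynomial (Fin n) k) (hq : q ≠ 0)
    (hpq : ¬ ∃ c : k, p = MvPolynomial.C c * q) :
    ∃ a b : Fin n → k, MvPolynomial.eval a q ≠ 0 ∧ MvPolynomial.eval b q ≠ 0 ∧
      MvPolynomial.eval a p * MvPolynomial.eval b q ≠
        MvPolynomial.eval b p * MvPolynomial.eval a q := by
  obtain ⟨b, hb⟩ := exists_eval_ne_zero hq
  set c : k := MvPolynomial.eval b p / MvPolynomial.eval b q with hc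
  have h1 : p - MvPolynomial.C c * q ≠ 0 := fun h => hpq ⟨c, sub_eq_zero.mp h⟩
  obtain ⟨a, ha⟩ := exists_eval_ne_zero (mul_ne_zero h1 hq)
  rw [map_mul, map_sub, map_mul, MvPolynomial.eval_C] at ha
  have ha1 := left_ne_zero_of_mul ha
  have ha2 := right_ne_zero_of_mul ha
  refine ⟨a, b, ha2, hb, fun h => ha1 ?_⟩
  have hcb : c * MvPolynomial.eval b q = MvPolynomial.eval b p := by
    rw [hc]; field_simp
  have : (MvPolynomial.eval a p - c * MvPolynomial.eval a q) * MvPolynomial.eval b q = 0 := by
    rw [sub_mul, h, ← hcb]; ring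
  exact (mul_eq_zero.mp this).resolve_right hb

end points

section line

variable {k : Type u} [Field k] {n : ℕ}

/-- Substitution `t_i ↦ a_i + (b_i - a_i) s`. -/
noncomputable def ev (a b : Fin n → k) : MvPolynomial (Fin n) k →ₐ[k] k[X] :=
  MvPolynomial.aeval fun i => C (a i) + C (b i - a i) * X

theorem eval_zero_ev (a b : Fin n → k) (f : MvPolynomial (Fin n) k) :
    (ev a b f).eval 0 = MvPolynomial.eval a f := by
  have h : (Polynomial.evalRingHom (0 : k)).comp (ev a b).toRingHom = MvPolynomial.eval a := by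
    apply MvPolynomial.ringHom_ext
    · intro c; simp [ev]
    · intro i; simp [ev]
  exact congrArg (fun g => g f) h

theorem eval_one_ev (a b : Fin n → k) (f : MvPolynomial (Fin n) k) :
    (ev a b f).eval 1 = MvPolynomial.eval b f := by
  have h : (Polynomial.evalRingHom (1 : k)).comp (ev a b).toRingHom = MvPolynomial.eval b := by
    apply MvPolynomial.ringHom_ext
    · intro c; simp [ev]
    · intro i; simp [ev]
  exact congrArg (fun g => g f) h

end line

section local_ring

variable {k : Type u} [Field k] {n : ℕ} (a b : Fin n → k)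

/-- The kernel of the line substitution. -/
noncomputable def pp : Ideal (MvPolynomial (Fin n) k) := RingHom.ker (ev a b).toRingHom

instance pp_isPrime : (pp a b).IsPrime := RingHom.ker_isPrime _

theorem mem_pp (f : MvPolynomial (Fin n) k) : f ∈ pp a b ↔ ev a b f = 0 := Iff.rfl

/-- The local ring of the generic point of the line. -/
abbrev OO := Localization.AtPrime (pp a b)

instance towerOO :
    IsScalarTower k (OO a b) (FractionRing (MvPolynomial (Fin n) k)) := by
  refine IsScalarTower.of_algebraMap_eq' ?_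
  rw [IsScalarTower.algebraMap_eq k (MvPolynomial (Fin n) k) (FractionRing _),
    IsScalarTower.algebraMap_eq (MvPolynomial (Fin n) k) (OO a b) (FractionRing _),
    RingHom.comp_assoc, ← IsScalarTower.algebraMap_eq k (MvPolynomial (Fin n) k) (OO a b)]

/-- The inclusion of the local ring in the fraction field. -/
noncomputable def incl : OO a b →ₐ[k] FractionRing (MvPolynomial (Fin n) k) :=
  IsScalarTower.toAlgHom k _ _

theorem incl_injective : Function.Injective (incl a b) :=
  IsFractionRing.injective (OO a b) (FractionRing (MvPolynomial (Fin n) k))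

theorem incl_apply (o : OO a b) : incl a b o = algebraMap _ _ o := rfl

/-- The line substitution with values in `RatFunc k`. -/
noncomputable def evR : MvPolynomial (Fin n) k →ₐ[k] RatFunc k :=
  (IsScalarTower.toAlgHom k k[X] (RatFunc k)).comp (ev a b)

theorem evR_apply (f : MvPolynomial (Fin n) k) : evR a b f = algebraMap k[X] (RatFunc k) (ev a b f) :=
  rfl

theorem isUnit_evR (y : (pp a b).primeCompl) : IsUnit (evR a b y) := by
  rw [isUnit_iff_ne_zero, evR_apply, Ne, FaithfulSMul.algebraMap_eq_zero_iff]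
  exact y.2

/-- The extension of the line substitution to the local ring. -/
noncomputable def ev' : OO a b →ₐ[k] RatFunc k :=
  IsLocalization.liftAlgHom (M := (pp a b).primeCompl) (f := evR a b) (isUnit_evR a b)

theorem ev'_algebraMap (f : MvPolynomial (Fin n) k) :
    ev' a b (algebraMap _ (OO a b) f) = evR a b f := by
  simp [ev']

theorem ev'_mk' (f : MvPolynomial (Fin n) k) (g : (pp a b).primeCompl) :
    ev' a b (IsLocalization.mk' (OO a b) f g) = evR a b f / evR a b g := by
  have hg : evR a b g ≠ 0 := (isUnit_evR a b g).ne_zero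
  rw [eq_div_iff hg, ← ev'_algebraMap, ← map_mul, IsLocalization.mk'_spec]
  exact ev'_algebraMap a b f

theorem isUnit_of_ev'_ne_zero (o : OO a b) (h : ev' a b o ≠ 0) : IsUnit o := by
  obtain ⟨f, g, rfl⟩ := IsLocalization.exists_mk'_eq (pp a b).primeCompl o
  rw [ev'_mk'] at h
  have hf : evR a b f ≠ 0 := fun h0 => h (by rw [h0, zero_div])
  have hf' : f ∈ (pp a b).primeCompl := by
    intro hmem
    apply hf
    rw [evR_apply, (mem_pp a b f).mp hmem, map_zero]
  refine IsUnit.of_mul_eq_one (IsLocalization.mk' (OO a b) (g : MvPolynomial (Fin n) k) ⟨f, hf'⟩) ?_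
  rw [← IsLocalization.mk'_mul, mul_comm]
  exact IsLocalization.mk'_self' (OO a b) (x := g * ⟨f, hf'⟩)

end local_ring

section field

variable {k : Type u} [Field k] {n : ℕ} (a b : Fin n → k)
variable {K : Type u} [Field K] [Algebra k K]
  (φ : K →ₐ[k] FractionRing (MvPolynomial (Fin n) k))

/-- The elements of `K` whose image lies in the local ring of the line. -/
noncomputable def GG : Subalgebra k K := (incl a b).range.comap φ

theorem mem_GG (z : K) : z ∈ GG a b φ ↔ ∃ o : OO a b, incl a b o = φ z := by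
  simp [GG, Subalgebra.mem_comap, AlgHom.mem_range]

/-- The lift of a good element to the local ring. -/
noncomputable def liftG : GG a b φ →ₐ[k] OO a b :=
  (AlgEquiv.ofInjective (incl a b) (incl_injective a b)).symm.toAlgHom.comp
    ((φ.comp (GG a b φ).val).codRestrict (incl a b).range (fun g => g.2))

theorem incl_liftG (g : GG a b φ) : incl a b (liftG a b φ g) = φ g := by
  have h := (AlgEquiv.ofInjective (incl a b) (incl_injective a b)).apply_symm_apply
    ((φ.comp (GG a b φ).val).codRestrict (incl a b).range (fun g => g.2) g)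
  have h2 := congrArg Subtype.val h
  rw [AlgEquiv.ofInjective_apply] at h2
  exact h2

theorem liftG_eq (g : GG a b φ) (o : OO a b) (h : incl a b o = φ g) : liftG a b φ g = o :=
  incl_injective a b ((incl_liftG a b φ g).trans h.symm)

/-- The value of a good element on the line. -/
noncomputable def val : GG a b φ →ₐ[k] RatFunc k := (ev' a b).comp (liftG a b φ)

theorem val_apply (g : GG a b φ) : val a b φ g = ev' a b (liftG a b φ g) := rfl

theorem mem_GG_of_frac (z : K) (p q : MvPolynomial (Fin n) k) (hq : q ∉ pp a b)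
    (hz : φ z * algebraMap _ _ q = algebraMap _ _ p) :
    ∃ h : z ∈ GG a b φ, val a b φ ⟨z, h⟩ = evR a b p / evR a b q := by
  have hq0 : algebraMap (MvPolynomial (Fin n) k) (FractionRing (MvPolynomial (Fin n) k)) q ≠ 0 := by
    rw [Ne, FaithfulSMul.algebraMap_eq_zero_iff]
    rintro rfl
    exact hq (Ideal.zero_mem _)
  have hq' : q ∈ (pp a b).primeCompl := hq
  have key : incl a b (IsLocalization.mk' (OO a b) p ⟨q, hq'⟩) = φ z := by
    rw [incl_apply]
    have h1 := IsLocalization.mk'_spec (OO a b) p (⟨q, hq'⟩ : (pp a b).primeCompl)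
    have h2 := congrArg (algebraMap (OO a b) (FractionRing (MvPolynomial (Fin n) k))) h1
    rw [map_mul, ← IsScalarTower.algebraMap_apply, ← IsScalarTower.algebraMap_apply] at h2
    exact mul_right_cancel₀ hq0 (h2.trans hz.symm)
  have hmem : z ∈ GG a b φ := (mem_GG a b φ z).mpr ⟨_, key⟩
  refine ⟨hmem, ?_⟩
  rw [val_apply, liftG_eq a b φ ⟨z, hmem⟩ _ key, ev'_mk']

theorem inv_mem_GG (g : GG a b φ) (h : val a b φ g ≠ 0) : (g : K)⁻¹ ∈ GG a b φ := by
  have hu := isUnit_of_ev'_ne_zero a b (liftG a b φ g) h
  obtain ⟨o', ho'⟩ := hu.exists_right_inv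
  refine (mem_GG a b φ _).mpr ⟨o', ?_⟩
  have h1 := congrArg (incl a b) ho'
  rw [map_mul, incl_liftG, map_one] at h1
  rw [map_inv₀]
  exact eq_inv_of_mul_eq_one_right h1

theorem mem_GG_of_isIntegral (S : Subalgebra k K) (hS : S ≤ GG a b φ) (w : K)
    (hw : IsIntegral S w) : w ∈ GG a b φ := by
  let φ' : S →+* OO a b := ((liftG a b φ).comp (Subalgebra.inclusion hS)).toRingHom
  have hcomp : (algebraMap (OO a b) (FractionRing (MvPolynomial (Fin n) k))).comp φ' =
      φ.toRingHom.comp (algebraMap S K) := by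
    ext s
    exact incl_liftG a b φ (Subalgebra.inclusion hS s)
  have h1 : IsIntegral (OO a b) (φ.toRingHom w) := hw.map_of_comp_eq φ' φ.toRingHom hcomp
  obtain ⟨o, ho⟩ := IsIntegrallyClosed.isIntegral_iff.mp h1
  exact (mem_GG a b φ w).mpr ⟨o, ho⟩

open scoped IntermediateField.algebraAdjoinAdjoin in
theorem GG_eq_top (x : K) (hxG : x ∈ GG a b φ)
    (hxt : Transcendental k (val a b φ ⟨x, hxG⟩))
    (halg : Algebra.IsAlgebraic ↥(IntermediateField.adjoin k {x}) K) : GG a b φ = ⊤ := by
  have hA : Algebra.adjoin k {x} ≤ GG a b φ :=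
    Algebra.adjoin_le (Set.singleton_subset_iff.mpr hxG)
  have hval : ∀ y : Algebra.adjoin k {x}, y ≠ 0 → val a b φ (Subalgebra.inclusion hA y) ≠ 0 := by
    intro y hy h0
    have hymem : (y : K) ∈ (Polynomial.aeval (R := k) x).range := by
      rw [← Algebra.adjoin_singleton_eq_range_aeval]; exact y.2
    obtain ⟨c, hc⟩ := hymem
    have hc' : Polynomial.aeval x c = (y : K) := hc
    have h1 : Subalgebra.inclusion hA y = Polynomial.aeval (⟨x, hxG⟩ : GG a b φ) c := by
      apply Subtype.ext
      rw [Subalgebra.coe_inclusion, ← hc', ← Subalgebra.aeval_coe]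
    rw [h1, ← Polynomial.aeval_algHom_apply] at h0
    have hc0 : c = 0 := (transcendental_iff.mp hxt) c h0
    apply hy
    apply Subtype.ext
    rw [← hc', hc0]
    simp
  refine top_le_iff.mp fun z _ => ?_
  have hz1 : IsAlgebraic (Algebra.adjoin k {x}) z :=
    (IsFractionRing.isAlgebraic_iff (Algebra.adjoin k {x}) (IntermediateField.adjoin k {x})
      K).mpr (halg.isAlgebraic z)
  obtain ⟨y, hy0, hint⟩ := hz1.exists_integral_multiple
  have h2 : y • z ∈ GG a b φ := mem_GG_of_isIntegral a b φ _ hA _ hint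
  have h3 : ((Subalgebra.inclusion hA y : GG a b φ) : K)⁻¹ ∈ GG a b φ :=
    inv_mem_GG a b φ _ (hval y hy0)
  have hy0' : (y : K) ≠ 0 := fun h => hy0 (Subtype.ext h)
  have : z = ((Subalgebra.inclusion hA y : GG a b φ) : K)⁻¹ * (y • z) := by
    rw [Subalgebra.coe_inclusion, Algebra.smul_def]
    change z = (y : K)⁻¹ * ((y : K) * z)
    field_simp
  rw [this]
  exact mul_mem h3 h2

end field

section final

variable {k : Type u} [Field k] [Infinite k] {n : ℕ}
variable {K : Type u} [Field K] [Algebra k K]

/-- A field algebraic over `k(x)` (`x` transcendental) which embeds in `k(t_1,…,t_n)` embeds in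
`k(s)`. -/
theorem exists_algHom_ratFunc (x : K) (hx : Transcendental k x)
    (halg : Algebra.IsAlgebraic ↥(IntermediateField.adjoin k {x}) K)
    (φ : K →ₐ[k] FractionRing (MvPolynomial (Fin n) k)) :
    ∃ ψ : K →ₐ[k] RatFunc k, Transcendental k (ψ x) := by
  obtain ⟨p, q, hq, hpq⟩ := IsFractionRing.div_surjective (A := MvPolynomial (Fin n) k) (φ x)
  have hq0 : q ≠ 0 := nonZeroDivisors.ne_zero hq
  have hqF : algebraMap (MvPolynomial (Fin n) k) (FractionRing (MvPolynomial (Fin n) k)) q ≠ 0 := by
    rw [Ne, FaithfulSMul.algebraMap_eq_zero_iff]; exact hq0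
  have hnc : ¬ ∃ c : k, p = MvPolynomial.C c * q := by
    rintro ⟨c, rfl⟩
    rw [map_mul, mul_div_cancel_right₀ _ hqF] at hpq
    have h1 : φ (algebraMap k K c) = φ x := by
      rw [AlgHom.commutes, ← hpq, IsScalarTower.algebraMap_apply k (MvPolynomial (Fin n) k)]
      rfl
    have h2 : algebraMap k K c = x := φ.toRingHom.injective h1
    exact hx (h2 ▸ isAlgebraic_algebraMap c)
  obtain ⟨a, b, ha, hb, hab⟩ := exists_points p q hq0 hnc
  have hqpp : q ∉ pp a b := by
    intro hmem
    apply ha
    rw [← eval_zero_ev a b, (mem_pp a b q).mp hmem, Polynomial.eval_zero]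
  have hz : φ x * algebraMap _ _ q = algebraMap _ _ p := by
    rw [← hpq, div_mul_cancel₀ _ hqF]
  obtain ⟨hxG, hval⟩ := mem_GG_of_frac a b φ x p q hqpp hz
  have hevq : evR a b q ≠ 0 := by
    rw [evR_apply, Ne, FaithfulSMul.algebraMap_eq_zero_iff]; exact hqpp
  have hxt : Transcendental k (val a b φ ⟨x, hxG⟩) := by
    apply RatFunc.transcendental_of_ne_C
    rintro ⟨c, hc⟩
    rw [hval, div_eq_iff hevq, evR_apply, evR_apply, ← RatFunc.algebraMap_C, ← map_mul] at hc
    have h1 : ev a b p = Polynomial.C c * ev a b q :=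
      FaithfulSMul.algebraMap_injective k[X] (RatFunc k) hc
    have e0 := congrArg (Polynomial.eval 0) h1
    have e1 := congrArg (Polynomial.eval 1) h1
    rw [Polynomial.eval_mul, Polynomial.eval_C, eval_zero_ev, eval_zero_ev] at e0
    rw [Polynomial.eval_mul, Polynomial.eval_C, eval_one_ev, eval_one_ev] at e1
    apply hab
    rw [e0, e1]; ring
  have htop := GG_eq_top a b φ x hxG hxt halg
  have hall : ∀ z : K, z ∈ GG a b φ := fun z => htop ▸ Algebra.mem_top
  refine ⟨(val a b φ).comp ((AlgHom.id k K).codRestrict (GG a b φ) hall), ?_⟩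
  exact hxt

/-- **Lüroth in several variables (curve case).** -/
theorem exists_adjoin_simple_eq_top (x : K) (hx : Transcendental k x)
    (halg : Algebra.IsAlgebraic ↥(IntermediateField.adjoin k {x}) K)
    (φ : K →ₐ[k] FractionRing (MvPolynomial (Fin n) k)) :
    ∃ t : K, Transcendental k t ∧ IntermediateField.adjoin k {t} = ⊤ := by
  obtain ⟨ψ, hψx⟩ := exists_algHom_ratFunc x hx halg φ
  set E : IntermediateField k (RatFunc k) := ψ.fieldRange with hE
  have hEne : E ≠ ⊥ := by
    intro hbot
    have hmem : ψ x ∈ E := ⟨x, rfl⟩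
    rw [hbot, IntermediateField.mem_bot] at hmem
    obtain ⟨c, hc⟩ := hmem
    exact hψx (hc ▸ isAlgebraic_algebraMap c)
  have hgen : RatFunc.Luroth.generator E ∈ E := RatFunc.Luroth.generator_mem
  obtain ⟨t, ht⟩ := hgen
  refine ⟨t, ?_, ?_⟩
  · intro halgt
    have : IsAlgebraic k (ψ t) := halgt.algHom ψ
    rw [show ψ t = RatFunc.Luroth.generator E from ht] at this
    exact RatFunc.Luroth.transcendental_generator hEne this
  · apply IntermediateField.map_injective ψ
    rw [IntermediateField.adjoin_map, Set.image_singleton, show ψ t = RatFunc.Luroth.generator E from ht,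
      ← RatFunc.Luroth.eq_adjoin_generator, hE, AlgHom.fieldRange_eq_map]

end final

end Groth.Agent.H56.LurothLine
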