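import Mathlib
import Groth.Agent.H56.NoetherMonic
import Groth.Agent.H54.Dim

/-!
# Relative Noether normalization over a discrete valuation ring

Nagata's change of variables with a prescribed base `b` (so that all exponents are multiples of a
given `N`), performed simultaneously on the two fibres of a flat finite type algebra over a DVR.
-/

set_option autoImplicit false

open Polynomial MvPolynomial TensorProduct

namespace Groth.Agent.H56.RelNoether

open Groth.Agent.H56.NoetherMonic

section Field

variable {F : Type*} [Field F] {S : Type*} [CommRing S] [Algebra F S]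

set_option backward.isDefEq.respectTransparency false in
/-- **Nagata step with prescribed base.** If `S` is integral over `F[a_0, …, a_n]`, `f` is a
nonzero relation between the `a_i` and `b ≥ deg f + 2`, then `S` is integral over
`F[a_1 - a_0 ^ b, …, a_n - a_0 ^ (b ^ n)]`. -/
theorem step_field {n : ℕ} (a : Fin (n + 1) → S)
    (hφ : (MvPolynomial.aeval a : MvPolynomial (Fin (n + 1)) F →ₐ[F] S).toRingHom.IsIntegral)
    (f : MvPolynomial (Fin (n + 1)) F) (fne : f ≠ 0) (hf : MvPolynomial.aeval a f = 0)
    (b : ℕ) (hb : f.totalDegree + 2 ≤ b) :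
    (MvPolynomial.aeval (fun i : Fin n => a i.succ - a 0 ^ b ^ (i.1 + 1)) :
      MvPolynomial (Fin n) F →ₐ[F] S).toRingHom.IsIntegral := by
  classical
  -- pad `f` so that its total degree is exactly `b - 2`
  set e : ℕ := b - 2 - f.totalDegree with he
  set f' : MvPolynomial (Fin (n + 1)) F := f * MvPolynomial.X 0 ^ e with hf'
  have hX0 : (MvPolynomial.X 0 ^ e : MvPolynomial (Fin (n + 1)) F) ≠ 0 :=
    pow_ne_zero _ (MvPolynomial.X_ne_zero _)
  have f'ne : f' ≠ 0 := mul_ne_zero fne hX0
  have hdeg : 2 + f'.totalDegree = b := by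
    rw [hf', MvPolynomial.totalDegree_mul_of_isDomain fne hX0, MvPolynomial.totalDegree_X_pow]
    omega
  -- the substitution
  have hTX0 : T f' (MvPolynomial.X 0) = MvPolynomial.X 0 := by
    simp [T, T1]
  have hTXs : ∀ j : Fin n, T f' (MvPolynomial.X j.succ) =
      MvPolynomial.X j.succ + MvPolynomial.X 0 ^ b ^ (j.1 + 1) := by
    intro j
    simp [T, T1, Fin.succ_ne_zero, hdeg]
  have hu : IsUnit (finSuccEquiv F n (T f' f)).leadingCoeff := by
    have h1 := T_leadingcoeff_isUnit f' f'ne
    have h2 : finSuccEquiv F n (T f' f') = finSuccEquiv F n (T f' f) * Polynomial.X ^ e := by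
      rw [hf', map_mul, map_pow, hTX0, map_mul, map_pow, finSuccEquiv_X_zero]
    rwa [h2, Polynomial.leadingCoeff_mul_X_pow] at h1
  -- make the substitution opaque
  obtain ⟨Tf, hTf⟩ : ∃ Tf : MvPolynomial (Fin (n + 1)) F ≃ₐ[F] MvPolynomial (Fin (n + 1)) F,
      Tf = T f' := ⟨_, rfl⟩
  rw [← hTf] at hTX0 hTXs hu
  clear hTf
  -- the new evaluation
  set a' : Fin n → S := fun i => a i.succ - a 0 ^ b ^ (i.1 + 1) with ha'
  let ψ : MvPolynomial (Fin (n + 1)) F →ₐ[F] S := MvPolynomial.aeval (Fin.cons (a 0) a')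
  have hψT : ∀ p, ψ (Tf p) = MvPolynomial.aeval a p := by
    intro p
    have : ψ.comp Tf.toAlgHom = MvPolynomial.aeval a := by
      apply MvPolynomial.algHom_ext
      intro i
      refine Fin.cases ?_ (fun j => ?_) i
      · simp [ψ, hTX0]
      · simp [ψ, hTXs, ha']
    exact congrArg (fun Φ : MvPolynomial (Fin (n + 1)) F →ₐ[F] S => Φ p) this
  have hψ0 : ψ (Tf f) = 0 := (hψT f).trans hf
  have hψint : ψ.toRingHom.IsIntegral := by
    have h2 : ψ.toRingHom = (MvPolynomial.aeval a :
        MvPolynomial (Fin (n + 1)) F →ₐ[F] S).toRingHom.comp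
        (Tf.symm.toAlgHom.toRingHom) := by
      ext x
      · change ψ (MvPolynomial.C x) = MvPolynomial.aeval a (Tf.symm (MvPolynomial.C x))
        rw [← hψT, AlgEquiv.apply_symm_apply]
      · change ψ (MvPolynomial.X x) = MvPolynomial.aeval a (Tf.symm (MvPolynomial.X x))
        rw [← hψT, AlgEquiv.apply_symm_apply]
    rw [h2]
    exact RingHom.IsIntegral.trans _ _
      (RingHom.isIntegral_of_surjective _ Tf.symm.surjective) hφ
  -- pass to polynomials in `X_0`
  let E := finSuccEquiv F n
  let θ : (MvPolynomial (Fin n) F)[X] →+* S := ψ.toRingHom.comp E.symm.toAlgHom.toRingHom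
  have hθint : θ.IsIntegral :=
    RingHom.IsIntegral.trans _ _ (RingHom.isIntegral_of_surjective _ E.symm.surjective) hψint
  let J : Ideal (MvPolynomial (Fin n) F)[X] := RingHom.ker θ
  have hgJ : hu.unit⁻¹ • E (Tf f) ∈ J := by
    refine Submodule.smul_of_tower_mem _ _ ?_
    change ψ (E.symm (E (Tf f))) = 0
    rw [AlgEquiv.symm_apply_apply, hψ0]
  have hmon := Polynomial.monic_of_isUnit_leadingCoeff_inv_smul hu
  have hom1 := hmon.quotient_isIntegral hgJ
  let χ : (MvPolynomial (Fin n) F)[X] ⧸ J →+* S := Ideal.Quotient.lift J θ (fun x hx => hx)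
  have hχ : RingHom.IsIntegral (R := (MvPolynomial (Fin n) F)[X] ⧸ J) (A := S) χ := by
    have h : (χ.comp (Ideal.Quotient.mk J)).IsIntegral := by
      have : χ.comp (Ideal.Quotient.mk J) = θ := by
        ext x <;> rfl
      rw [this]; exact hθint
    exact RingHom.IsIntegral.tower_top _ _ h
  have hcomp : (MvPolynomial.aeval a' : MvPolynomial (Fin n) F →ₐ[F] S).toRingHom =
      χ.comp (((Ideal.Quotient.mkₐ (MvPolynomial (Fin n) F) J).comp
        (Algebra.ofId (MvPolynomial (Fin n) F) (MvPolynomial (Fin n) F)[X])).toRingHom) := by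
    apply MvPolynomial.ringHom_ext
    · intro c
      have h1 : E.symm (Polynomial.C (MvPolynomial.C c)) = MvPolynomial.C c := by
        rw [AlgEquiv.symm_apply_eq]
        simp [E, finSuccEquiv_apply]
      change MvPolynomial.aeval a' (MvPolynomial.C c) =
        ψ (E.symm (Polynomial.C (MvPolynomial.C c)))
      rw [h1]
      simp [ψ]
    · intro i
      have h1 : E.symm (Polynomial.C (MvPolynomial.X i)) = MvPolynomial.X i.succ := by
        rw [AlgEquiv.symm_apply_eq]
        simp [E, finSuccEquiv_X_succ]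
      change MvPolynomial.aeval a' (MvPolynomial.X i) =
        ψ (E.symm (Polynomial.C (MvPolynomial.X i)))
      rw [h1]
      simp [ψ]
  rw [hcomp]
  exact RingHom.IsIntegral.trans _ _ hom1 hχ

end Field

section Fibre

variable (V : Type*) [CommRing V] {R : Type*} [CommRing R] [Algebra V R]
variable (F : Type*) [Field F] [Algebra V F]

/-- evaluation of polynomials over `F` at the images in `F ⊗ R` of elements of `R` -/
noncomputable abbrev fibEval {n : ℕ} (w : Fin n → R) :
    MvPolynomial (Fin n) F →ₐ[F] F ⊗[V] R :=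
  MvPolynomial.aeval (fun i => (1 : F) ⊗ₜ[V] w i)

theorem fibEval_map {n : ℕ} (w : Fin n → R) (g : MvPolynomial (Fin n) V) :
    fibEval V F w (MvPolynomial.map (algebraMap V F) g) =
      (1 : F) ⊗ₜ[V] (MvPolynomial.aeval w g) := by
  have h1 : MvPolynomial.aeval (fun i => (1 : F) ⊗ₜ[V] w i)
      (MvPolynomial.map (algebraMap V F) g) =
      MvPolynomial.aeval (R := V) (fun i => (1 : F) ⊗ₜ[V] w i) g :=
    MvPolynomial.aeval_map_algebraMap _ _ _
  rw [fibEval, h1]
  exact (MvPolynomial.comp_aeval_apply (f := w)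
    (Algebra.TensorProduct.includeRight : R →ₐ[V] F ⊗[V] R) g).symm

end Fibre

section DVR

variable {V : Type*} [CommRing V] [IsDomain V] [IsDiscreteValuationRing V]
  {R : Type*} [CommRing R] [Algebra V R] [Module.Flat V R]

/-- a nonzero relation over a DVR can be made primitive when the algebra is flat -/
theorem exists_primitive_relation {n : ℕ} (w : Fin n → R) (g : MvPolynomial (Fin n) V)
    (hg0 : g ≠ 0) (hg : MvPolynomial.aeval w g = 0) :
    ∃ g' : MvPolynomial (Fin n) V, MvPolynomial.aeval w g' = 0 ∧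
      MvPolynomial.map (IsLocalRing.residue V) g' ≠ 0 := by
  obtain ⟨ϖ, hϖ⟩ := IsDiscreteValuationRing.exists_irreducible V
  obtain ⟨m, hm⟩ : ∃ m, MvPolynomial.coeff m g ≠ 0 := MvPolynomial.ne_zero_iff.mp hg0
  obtain ⟨N, u, hu⟩ := IsDiscreteValuationRing.eq_unit_mul_pow_irreducible hm hϖ
  induction N generalizing g u with
  | zero =>
    refine ⟨g, hg, ?_⟩
    intro h0
    have h1 := congrArg (MvPolynomial.coeff m) h0
    rw [MvPolynomial.coeff_map, hu, pow_zero, mul_one, MvPolynomial.coeff_zero,
      IsLocalRing.residue_eq_zero_iff] at h1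
    exact (IsLocalRing.mem_maximalIdeal _).mp h1 u.isUnit
  | succ N ih =>
    by_cases h0 : MvPolynomial.map (IsLocalRing.residue V) g = 0
    · have hdvd : MvPolynomial.C ϖ ∣ g := by
        rw [MvPolynomial.C_dvd_iff_dvd_coeff]
        intro i
        have h1 := congrArg (MvPolynomial.coeff i) h0
        rw [MvPolynomial.coeff_map, MvPolynomial.coeff_zero, IsLocalRing.residue_eq_zero_iff,
          hϖ.maximalIdeal_eq, Ideal.mem_span_singleton] at h1
        exact h1
      obtain ⟨g1, rfl⟩ := hdvd
      have hϖ0 : ϖ ≠ 0 := hϖ.ne_zero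
      have hc : MvPolynomial.coeff m g1 = u * ϖ ^ N := by
        rw [MvPolynomial.coeff_C_mul, pow_succ] at hu
        apply mul_left_cancel₀ hϖ0
        rw [hu]; ring
      refine ih g1 (right_ne_zero_of_mul hg0) ?_ ?_ u hc
      · rw [map_mul, MvPolynomial.aeval_C, ← Algebra.smul_def] at hg
        exact (smul_eq_zero.mp hg).resolve_left hϖ0
      · rw [hc]
        exact mul_ne_zero u.ne_zero (pow_ne_zero _ hϖ0)
    · exact ⟨g, hg, h0⟩

end DVR

section Step

variable {V : Type*} [CommRing V] [IsDomain V] [IsDiscreteValuationRing V]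
  {R : Type*} [CommRing R] [Algebra V R] [Module.Flat V R]

attribute [local instance] MvPolynomial.algebraMvPolynomial in
/-- a nonzero relation over the fraction field gives a primitive relation over `V` -/
theorem exists_relation {n d : ℕ} (hn : d < n + 1) (w : Fin (n + 1) → R)
    (hdK : ringKrullDim (FractionRing V ⊗[V] R) ≤ d)
    (hK : (fibEval V (FractionRing V) w).toRingHom.IsIntegral) :
    ∃ g : MvPolynomial (Fin (n + 1)) V, MvPolynomial.aeval w g = 0 ∧
      MvPolynomial.map (IsLocalRing.residue V) g ≠ 0 := by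
  classical
  have hninj : ¬ Function.Injective (fibEval V (FractionRing V) w) := by
    intro hinj
    have h1 := Groth.Agent.H54.ringKrullDim_eq_of_ringHom_isIntegral_of_injective
      (fibEval V (FractionRing V) w).toRingHom hK hinj
    rw [Groth.Agent.H54.ringKrullDim_mvPolynomial_fin_field] at h1
    rw [← h1] at hdK
    have : n + 1 ≤ d := by exact_mod_cast hdK
    omega
  obtain ⟨gK, hgK0, hgK⟩ : ∃ gK : MvPolynomial (Fin (n + 1)) (FractionRing V),
      gK ≠ 0 ∧ fibEval V (FractionRing V) w gK = 0 := by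
    rw [injective_iff_map_eq_zero] at hninj
    push_neg at hninj
    obtain ⟨g, hg, hg0⟩ := hninj
    exact ⟨g, hg0, hg⟩
  obtain ⟨⟨g0, ⟨c, hc⟩⟩, h⟩ := IsLocalization.surj
    (Submonoid.map (MvPolynomial.C (σ := Fin (n + 1))) (nonZeroDivisors V)) gK
  obtain ⟨c0, hc0, rfl⟩ := hc
  simp only [MvPolynomial.algebraMap_def, MvPolynomial.map_C] at h
  have hc0K : algebraMap V (FractionRing V) c0 ≠ 0 := by
    rw [Ne, map_eq_zero_iff _ (IsFractionRing.injective V (FractionRing V))]
    exact nonZeroDivisors.ne_zero hc0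
  have hg0 : g0 ≠ 0 := by
    rintro rfl
    rw [map_zero] at h
    rcases mul_eq_zero.mp h with h | h
    · exact hgK0 h
    · rw [MvPolynomial.C_eq_zero] at h
      exact hc0K h
  have hg0w : MvPolynomial.aeval w g0 = 0 := by
    have h1 : fibEval V (FractionRing V) w (MvPolynomial.map (algebraMap V (FractionRing V)) g0)
        = 0 := by
      rw [← h, map_mul, hgK, zero_mul]
    rw [fibEval_map] at h1
    exact Algebra.TensorProduct.includeRight_injective (R := V) (A := FractionRing V) (B := R)
      (IsFractionRing.injective V (FractionRing V)) (h1.trans (map_zero _).symm)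
  exact exists_primitive_relation w g0 hg0 hg0w

/-- the fibrewise Nagata step -/
theorem step_fibre (F : Type*) [Field F] [Algebra V F] {n : ℕ} (w : Fin (n + 1) → R)
    (hF : (fibEval V F w).toRingHom.IsIntegral)
    (g : MvPolynomial (Fin (n + 1)) V) (hg : MvPolynomial.aeval w g = 0)
    (hgF : MvPolynomial.map (algebraMap V F) g ≠ 0) (b : ℕ) (hb : g.totalDegree + 2 ≤ b) :
    (fibEval V F (fun i : Fin n => w i.succ + -(w 0 ^ b ^ (i.1 + 1)))).toRingHom.IsIntegral := by
  have hrel : MvPolynomial.aeval (fun i => (1 : F) ⊗ₜ[V] w i)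
      (MvPolynomial.map (algebraMap V F) g) = 0 := by
    have := fibEval_map V F w g
    rw [hg, TensorProduct.tmul_zero] at this
    exact this
  have hdeg : (MvPolynomial.map (algebraMap V F) g).totalDegree ≤ g.totalDegree :=
    Finset.sup_mono (MvPolynomial.support_map_subset _ _)
  have hb' : (MvPolynomial.map (algebraMap V F) g).totalDegree + 2 ≤ b := by omega
  have h1 := step_field (fun i => (1 : F) ⊗ₜ[V] w i) hF (MvPolynomial.map (algebraMap V F) g) hgF
    hrel b hb'
  have h2 : (fun i : Fin n => (1 : F) ⊗ₜ[V] w i.succ - ((1 : F) ⊗ₜ[V] w 0) ^ b ^ (i.1 + 1)) =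
      fun i : Fin n => (1 : F) ⊗ₜ[V] (w i.succ + -(w 0 ^ b ^ (i.1 + 1))) := by
    funext i
    rw [Algebra.TensorProduct.tmul_pow, one_pow, ← TensorProduct.tmul_sub, sub_eq_add_neg]
  rw [h2] at h1
  exact h1

/-- **Simultaneous Nagata step on both fibres.** -/
theorem step {n d : ℕ} (hn : d < n + 1) (w : Fin (n + 1) → R)
    (hdK : ringKrullDim (FractionRing V ⊗[V] R) ≤ d)
    (hk : (fibEval V (IsLocalRing.ResidueField V) w).toRingHom.IsIntegral)
    (hK : (fibEval V (FractionRing V) w).toRingHom.IsIntegral) (N : ℕ) (hN : 1 ≤ N) :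
    ∃ s : Fin n → R, (∀ i, s i ∈ Subring.closure (Set.range fun r : R => r ^ N)) ∧
      (fibEval V (IsLocalRing.ResidueField V) (fun i => w i.succ + s i)).toRingHom.IsIntegral ∧
      (fibEval V (FractionRing V) (fun i => w i.succ + s i)).toRingHom.IsIntegral := by
  obtain ⟨g, hg, hgk⟩ := exists_relation hn w hdK hK
  have hg0 : g ≠ 0 := by
    rintro rfl
    exact hgk (map_zero _)
  have hgK : MvPolynomial.map (algebraMap V (FractionRing V)) g ≠ 0 := by
    intro h
    exact hg0 (MvPolynomial.map_injective _ (IsFractionRing.injective V (FractionRing V))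
      (h.trans (map_zero _).symm))
  set b : ℕ := N * (g.totalDegree + 2) with hbdef
  have hb : g.totalDegree + 2 ≤ b := Nat.le_mul_of_pos_left _ hN
  refine ⟨fun i => -(w 0 ^ b ^ (i.1 + 1)), ?_, ?_, ?_⟩
  · intro i
    refine neg_mem (Subring.subset_closure ?_)
    refine ⟨w 0 ^ ((g.totalDegree + 2) * b ^ i.1), ?_⟩
    change (w 0 ^ ((g.totalDegree + 2) * b ^ i.1)) ^ N = w 0 ^ b ^ (i.1 + 1)
    rw [← pow_mul, pow_succ, hbdef]
    congr 1
    ring
  · exact step_fibre (IsLocalRing.ResidueField V) w hk g hg hgk b hb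
  · exact step_fibre (FractionRing V) w hK g hg hgK b hb

/-- iterate the step down to `d` elements -/
theorem exists_perturbation {d : ℕ} (hdK : ringKrullDim (FractionRing V ⊗[V] R) ≤ d)
    (N : ℕ) (hN : 1 ≤ N) :
    ∀ (n : ℕ) (hdn : d ≤ n) (w : Fin n → R),
      (fibEval V (IsLocalRing.ResidueField V) w).toRingHom.IsIntegral →
      (fibEval V (FractionRing V) w).toRingHom.IsIntegral →
      ∃ y : Fin d → R, (∀ i, y i ∈ Subring.closure (Set.range fun r : R => r ^ N)) ∧
        (fibEval V (IsLocalRing.ResidueField V)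
          (fun i : Fin d => w ⟨(n - d) + i.1, by omega⟩ + y i)).toRingHom.IsIntegral ∧
        (fibEval V (FractionRing V)
          (fun i : Fin d => w ⟨(n - d) + i.1, by omega⟩ + y i)).toRingHom.IsIntegral := by
  intro n hdn
  induction n, hdn using Nat.le_induction with
  | base =>
    intro w hk hK
    have hfun : (fun i : Fin d => w ⟨(d - d) + i.1, by omega⟩ + (fun _ : Fin d => (0 : R)) i) = w := by
      funext i
      rw [add_zero]
      congr 1
      refine Fin.ext ?_
      change d - d + i.1 = i.1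
      omega
    refine ⟨fun _ => 0, fun _ => zero_mem _, ?_, ?_⟩
    · rw [hfun]; exact hk
    · rw [hfun]; exact hK
  | succ n hdn ih =>
    intro w hk hK
    obtain ⟨s, hs, hk', hK'⟩ := step (Nat.lt_succ_of_le hdn) w hdK hk hK N hN
    obtain ⟨y, hy, hk'', hK''⟩ := ih (fun i => w i.succ + s i) hk' hK'
    have hfun : (fun i : Fin d => w ⟨(n + 1 - d) + i.1, by omega⟩ +
        (fun i : Fin d => s ⟨(n - d) + i.1, by omega⟩ + y i) i) =
        (fun i : Fin d => (fun i : Fin n => w i.succ + s i) ⟨(n - d) + i.1, by omega⟩ + y i) := by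
      funext i
      have hidx : (⟨n + 1 - d + i.1, by omega⟩ : Fin (n + 1)) =
          (⟨n - d + i.1, by omega⟩ : Fin n).succ := by
        refine Fin.ext ?_
        change n + 1 - d + i.1 = (n - d + i.1) + 1
        omega
      change w _ + (s _ + y i) = w _ + s _ + y i
      rw [hidx, add_assoc]
    refine ⟨fun i => s ⟨(n - d) + i.1, by omega⟩ + y i, fun i => add_mem (hs _) (hy i), ?_, ?_⟩
    · rw [hfun]; exact hk''
    · rw [hfun]; exact hK''

end Step

section Main

/-- an integral `k`-algebra map into a finite type `k`-algebra is finite -/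
theorem finite_of_isIntegral {k : Type*} [Field k] {A B : Type*} [CommRing A] [CommRing B]
    [Algebra k A] [Algebra k B] [Algebra.FiniteType k B] (Φ : A →ₐ[k] B)
    (h : Φ.toRingHom.IsIntegral) : Φ.toRingHom.Finite := by
  refine RingHom.IsIntegral.to_finite h ?_
  refine RingHom.FiniteType.of_comp_finiteType (f := algebraMap k A) ?_
  have : Φ.toRingHom.comp (algebraMap k A) = algebraMap k B := Φ.comp_algebraMap
  rw [this]
  exact (RingHom.finiteType_algebraMap).mpr inferInstance

variable {V : Type*} [CommRing V] {R : Type*} [CommRing R] [Algebra V R]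

/-- the fibre ring is generated by the images of generators of `R` -/
theorem fibEval_surjective (F : Type*) [Field F] [Algebra V F] {m : ℕ}
    (f : MvPolynomial (Fin m) V →ₐ[V] R) (hf : Function.Surjective f) {n : ℕ} (w : Fin n → R)
    (ι : Fin m → Fin n) (hι : ∀ i, w (ι i) = f (MvPolynomial.X i)) :
    Function.Surjective (fibEval V F w) := by
  have h1 : ∀ r : R, ∃ q, fibEval V F w q = (1 : F) ⊗ₜ[V] r := by
    intro r
    obtain ⟨p, rfl⟩ := hf r
    refine ⟨MvPolynomial.rename ι (MvPolynomial.map (algebraMap V F) p), ?_⟩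
    have hf' : f = MvPolynomial.aeval (fun i => f (MvPolynomial.X i)) :=
      MvPolynomial.aeval_unique f
    rw [fibEval, MvPolynomial.aeval_rename]
    have h2 : ((fun i => (1 : F) ⊗ₜ[V] w i) ∘ ι) = fun i => (1 : F) ⊗ₜ[V] f (MvPolynomial.X i) := by
      funext i
      simp [hι]
    rw [h2]
    have h3 := fibEval_map V F (fun i => f (MvPolynomial.X i)) p
    rw [← hf'] at h3
    exact h3
  intro z
  induction z using TensorProduct.induction_on with
  | zero => exact ⟨0, map_zero _⟩
  | tmul a r =>
    obtain ⟨q, hq⟩ := h1 r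
    refine ⟨a • q, ?_⟩
    rw [map_smul, hq, TensorProduct.smul_tmul', smul_eq_mul, mul_one]
  | add z1 z2 h1 h2 =>
    obtain ⟨q1, hq1⟩ := h1
    obtain ⟨q2, hq2⟩ := h2
    exact ⟨q1 + q2, by rw [map_add, hq1, hq2]⟩

variable [IsDomain V] [IsDiscreteValuationRing V] [Module.Flat V R] [Algebra.FiniteType V R]

/-- **Relative Noether normalization over a DVR**, with perturbations in the subring generated by
`N`-th powers. -/
theorem exists_finite_fibres (d : ℕ) (hη : ringKrullDim (FractionRing V ⊗[V] R) ≤ d)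
    (x : Fin d → R) (N : ℕ) (hN : 1 ≤ N) :
    ∃ y : Fin d → R, (∀ i, y i ∈ Subring.closure (Set.range fun r : R => r ^ N)) ∧
      (fibEval V (IsLocalRing.ResidueField V) (fun i => x i + y i)).toRingHom.Finite ∧
      (fibEval V (FractionRing V) (fun i => x i + y i)).toRingHom.Finite := by
  obtain ⟨m, f, hf⟩ := Algebra.FiniteType.iff_quotient_mvPolynomial''.mp
    (inferInstance : Algebra.FiniteType V R)
  let w0 : Fin (m + d) → R := Fin.append (fun i => f (MvPolynomial.X i)) x
  have hsurj : ∀ (F : Type _) [Field F] [Algebra V F], Function.Surjective (fibEval V F w0) := by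
    intro F _ _
    exact fibEval_surjective F f hf w0 (Fin.castAdd d) (fun i => Fin.append_left _ _ i)
  obtain ⟨y, hy, hk, hK⟩ := exists_perturbation hη N hN (m + d) (Nat.le_add_left d m) w0
    (RingHom.isIntegral_of_surjective _ (hsurj _)) (RingHom.isIntegral_of_surjective _ (hsurj _))
  have hfun : (fun i : Fin d => w0 ⟨(m + d - d) + i.1, by omega⟩ + y i) =
      fun i => x i + y i := by
    funext i
    have hidx : (⟨(m + d - d) + i.1, by omega⟩ : Fin (m + d)) = Fin.natAdd m i := by
      refine Fin.ext ?_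
      change m + d - d + i.1 = m + i.1
      omega
    rw [hidx]
    change Fin.append (fun i => f (MvPolynomial.X i)) x (Fin.natAdd m i) + y i = x i + y i
    rw [Fin.append_right]
  rw [hfun] at hk hK
  exact ⟨y, hy, finite_of_isIntegral _ hk, finite_of_isIntegral _ hK⟩

end Main

end Groth.Agent.H56.RelNoether
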