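import Groth.Agent.H56.ExalT1
import Groth.Agent.H56.ExalBaer
import Groth.Agent.S5815

/-!
# `T¹(B/A, -) = 0` iff `B` is formally smooth over `A`

helper56.  Combines `H56.ExalT1.exists_equiv` (`Exalcom A B M ≃ T¹(P, M)`) with helper29's
`S5815.result` (formally smooth iff all extensions are trivial).
-/

set_option autoImplicit false
universe u

namespace Groth.Agent.H56.T1Smooth

open Exal

variable {A B : Type u} [CommRing A] [CommRing B] [Algebra A B] {ι σ : Type u}
  (P : Algebra.Presentation A B ι σ)

theorem cl_eq_zero_iff {M : Type u} [AddCommGroup M] [Module B M] (X : Ext A B M) :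
    X.cl = 0 ↔ X.IsTrivial := by
  constructor
  · intro h
    obtain ⟨e⟩ := Quotient.exact h
    exact Groth.Agent.H29.ExalL.isTrivial_of_equiv e Groth.Agent.H56.ExalBaer.trivial_isTrivial
  · intro h
    exact Quotient.sound (Groth.Agent.H56.ExalBaer.equiv_of_isTrivial h
      Groth.Agent.H56.ExalBaer.trivial_isTrivial)

/-- `T¹(P, M)` vanishes for all `M` iff `B` is formally smooth over `A`. -/
theorem forall_subsingleton_T1_iff_formallySmooth :
    (∀ (M : Type u) [AddCommGroup M] [Module B M], Subsingleton (CotT.T1 P M)) ↔
      Algebra.FormallySmooth A B := by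
  rw [Groth.Agent.S5815.result A B]
  constructor
  · intro h M _ _ X
    obtain ⟨e, he⟩ := Groth.Agent.H56.ExalT1.exists_equiv P M
    have _ := h M
    exact (cl_eq_zero_iff X).mp (e.injective (Subsingleton.elim _ _))
  · intro h M _ _
    obtain ⟨e, he⟩ := Groth.Agent.H56.ExalT1.exists_equiv P M
    refine ⟨fun a b => ?_⟩
    have key : ∀ c : Exalcom A B M, c = 0 := by
      intro c
      induction c using Quotient.inductionOn with
      | _ X => exact (cl_eq_zero_iff X).mpr (h M X)
    have ha := key (e.symm a)
    have hb := key (e.symm b)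
    exact e.symm.injective (ha.trans hb.symm)

end Groth.Agent.H56.T1Smooth
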