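import Mathlib
import Groth.Agent.H56.LengthHerbrand

/-!
# One-dimensional local domains with finite normalization

* the normalization is a semilocal PID;
* existence of `x ∈ 𝔪` with `x Õ = 𝔪 Õ` (infinite residue field);
* `μ(M) ≤ rank(M) · ℓ(Õ/𝔪Õ)` for finitely generated torsion-free `M`.
-/

set_option autoImplicit false

open IsLocalRing

namespace Groth.Agent.H56.TFCurv

universe u

section Normalization

variable (O : Type u) [CommRing O] [IsDomain O] [IsNoetherianRing O] [IsLocalRing O]
  (K : Type u) [Field K] [Algebra O K] [IsFractionRing O K]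

theorem dimensionLEOne_of_dim (hdim : ringKrullDim O = 1) : Ring.DimensionLEOne O := by
  haveI : Ring.KrullDimLE 1 O := Ring.krullDimLE_iff.mpr (by rw [hdim]; rfl)
  exact ⟨fun {p} hp0 hp => Ring.krullDimLE_one_iff_of_noZeroDivisors.mp inferInstance p hp0 hp⟩

/-- every nonzero prime of the normalization contains the image of the maximal ideal -/
theorem map_maximalIdeal_le_of_isPrime (hdim : ringKrullDim O = 1)
    (P : Ideal ↥(integralClosure O K)) [P.IsPrime] (hP : P ≠ ⊥) :
    (maximalIdeal O).map (algebraMap O ↥(integralClosure O K)) ≤ P := by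
  haveI := dimensionLEOne_of_dim O hdim
  rw [Ideal.map_le_iff_le_comap]
  have h1 : P.comap (algebraMap O ↥(integralClosure O K)) ≠ ⊥ := Ideal.IsIntegral.comap_ne_bot O hP
  have h2 : (P.comap (algebraMap O ↥(integralClosure O K))).IsMaximal :=
    Ideal.IsPrime.isMaximal (Ideal.comap_isPrime _ _) h1
  rw [IsLocalRing.eq_maximalIdeal h2]

theorem finite_primes (hdim : ringKrullDim O = 1) (hfin : Module.Finite O ↥(integralClosure O K)) :
    {I : Ideal ↥(integralClosure O K) | I.IsPrime}.Finite := by
  haveI := dimensionLEOne_of_dim O hdim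
  haveI : IsNoetherianRing ↥(integralClosure O K) := IsNoetherianRing.of_finite O _
  haveI : Ring.DimensionLEOne ↥(integralClosure O K) := inferInstance
  -- a nonzero element of the maximal ideal
  have hm : maximalIdeal O ≠ ⊥ := by
    intro h
    have : ringKrullDim O = 0 := by
      haveI : IsField O := by
        rw [← isField_iff_maximalIdeal_eq] at h
        exact h
      exact ringKrullDim_eq_zero_of_isField this
    rw [hdim] at this
    exact one_ne_zero this
  obtain ⟨y, hy, hy0⟩ := Submodule.exists_mem_ne_zero_of_ne_bot hm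
  let I : Ideal ↥(integralClosure O K) := Ideal.span {algebraMap O _ y}
  have hI0 : I ≠ ⊥ := by
    intro h
    have : algebraMap O ↥(integralClosure O K) y = 0 := by
      have := Ideal.mem_span_singleton_self (algebraMap O ↥(integralClosure O K) y)
      rw [show Ideal.span {algebraMap O ↥(integralClosure O K) y} = ⊥ from h] at this
      simpa using this
    exact hy0 ((FaithfulSMul.algebraMap_injective O ↥(integralClosure O K))
      (this.trans (map_zero _).symm))
  have hsub : {P : Ideal ↥(integralClosure O K) | P.IsPrime} ⊆ {⊥} ∪ I.minimalPrimes := by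
    intro P hP
    haveI : P.IsPrime := hP
    by_cases hP0 : P = ⊥
    · left; exact hP0
    · right
      have hIP : I ≤ P := by
        rw [Ideal.span_singleton_le_iff_mem]
        exact map_maximalIdeal_le_of_isPrime O K hdim P hP0 (Ideal.mem_map_of_mem _ hy)
      refine ⟨⟨hP, hIP⟩, ?_⟩
      rintro Q ⟨hQ, hIQ⟩ hQP
      have hQ0 : Q ≠ ⊥ := fun h => hI0 (le_bot_iff.mp (h ▸ hIQ))
      have hQmax : Q.IsMaximal := Ideal.IsPrime.isMaximal hQ hQ0
      exact (hQmax.eq_of_le hP.ne_top hQP).ge
  exact ((Set.finite_singleton _).union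
    (Ideal.finite_minimalPrimes_of_isNoetherianRing _ I)).subset hsub

theorem isPrincipalIdealRing_integralClosure (hdim : ringKrullDim O = 1)
    (hfin : Module.Finite O ↥(integralClosure O K)) :
    IsPrincipalIdealRing ↥(integralClosure O K) := by
  haveI := dimensionLEOne_of_dim O hdim
  haveI : IsNoetherianRing ↥(integralClosure O K) := IsNoetherianRing.of_finite O _
  haveI : IsIntegrallyClosed ↥(integralClosure O K) :=
    integralClosure.isIntegrallyClosedOfFiniteExtension K
  haveI : Ring.DimensionLEOne ↥(integralClosure O K) := inferInstance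
  haveI : IsDedekindRing ↥(integralClosure O K) :=
    { toIsNoetherian := inferInstance
      toDimensionLEOne := inferInstance
      toIsIntegralClosure := inferInstance }
  exact IsPrincipalIdealRing.of_finite_primes (finite_primes O K hdim hfin)

/-- **Superficial element**: with infinite residue field there is `x ∈ 𝔪` with `x Õ = 𝔪 Õ`. -/
theorem exists_superficial (hdim : ringKrullDim O = 1) [Infinite (O ⧸ maximalIdeal O)]
    (hfin : Module.Finite O ↥(integralClosure O K)) :
    ∃ x ∈ maximalIdeal O, x ≠ 0 ∧
      (Ideal.span {x} • ⊤ : Submodule O ↥(integralClosure O K)) = maximalIdeal O • ⊤ := by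
  classical
  haveI := isPrincipalIdealRing_integralClosure O K hdim hfin
  have hinj : Function.Injective (algebraMap O ↥(integralClosure O K)) :=
    FaithfulSMul.algebraMap_injective O ↥(integralClosure O K)
  obtain ⟨π, hπ⟩ : ∃ π, (maximalIdeal O).map (algebraMap O ↥(integralClosure O K)) =
      Ideal.span {π} := (IsPrincipalIdealRing.principal _).principal
  -- generators of the maximal ideal
  obtain ⟨s, y, hy⟩ := Submodule.fg_iff_exists_fin_generating_family.mp
    (IsNoetherian.noetherian (maximalIdeal O))
  have hym : ∀ i, y i ∈ maximalIdeal O := fun i => hy ▸ Submodule.subset_span ⟨i, rfl⟩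
  have hmem : ∀ i, ∃ u, u * π = algebraMap O ↥(integralClosure O K) (y i) := by
    intro i
    rw [← Ideal.mem_span_singleton', ← hπ]
    exact Ideal.mem_map_of_mem _ (hym i)
  choose u hu using hmem
  -- `π ≠ 0`
  have hm : maximalIdeal O ≠ ⊥ := by
    intro h
    have : ringKrullDim O = 0 := by
      haveI : IsField O := by
        rw [← isField_iff_maximalIdeal_eq] at h
        exact h
      exact ringKrullDim_eq_zero_of_isField this
    rw [hdim] at this
    exact one_ne_zero this
  have hπ0 : π ≠ 0 := by
    rintro rfl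
    obtain ⟨y0, hy0, hy00⟩ := Submodule.exists_mem_ne_zero_of_ne_bot hm
    have h1 : algebraMap O ↥(integralClosure O K) y0 ∈
        (maximalIdeal O).map (algebraMap O ↥(integralClosure O K)) := Ideal.mem_map_of_mem _ hy0
    rw [hπ] at h1
    simp only [Set.singleton_zero, Ideal.span_zero, Ideal.mem_bot] at h1
    exact hy00 (hinj (h1.trans (map_zero _).symm))
  -- the `u i` generate the unit ideal
  have hone : ∃ c : Fin s → ↥(integralClosure O K), ∑ i, c i * u i = 1 := by
    have h1 : π ∈ (maximalIdeal O).map (algebraMap O ↥(integralClosure O K)) := by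
      rw [hπ]; exact Ideal.mem_span_singleton_self π
    rw [← hy] at h1
    change π ∈ Ideal.map _ (Ideal.span (Set.range y)) at h1
    rw [Ideal.map_span, ← Set.range_comp, Ideal.mem_span_range_iff_exists_fun] at h1
    obtain ⟨c, hc⟩ := h1
    refine ⟨c, ?_⟩
    have h2 : (∑ i, c i * u i) * π = 1 * π := by
      rw [Finset.sum_mul, one_mul]
      simp_rw [mul_assoc, hu]
      exact hc
    exact mul_right_cancel₀ hπ0 h2
  obtain ⟨c, hc⟩ := hone
  -- maximal ideals
  have hmaxfin : {P : Ideal ↥(integralClosure O K) | P.IsMaximal}.Finite :=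
    (finite_primes O K hdim hfin).subset (fun P hP => Ideal.IsMaximal.isPrime hP)
  have hcomap : ∀ P : Ideal ↥(integralClosure O K), P.IsMaximal →
      P.comap (algebraMap O ↥(integralClosure O K)) = maximalIdeal O := by
    intro P hP
    haveI := hP
    exact IsLocalRing.eq_maximalIdeal (Ideal.isMaximal_comap_of_isIntegral_of_isMaximal P)
  -- bad residues
  let ι : ∀ P : Ideal ↥(integralClosure O K), P.IsMaximal →
      (O ⧸ maximalIdeal O) →+* (↥(integralClosure O K) ⧸ P) := fun P hP =>
    Ideal.quotientMap P (algebraMap O ↥(integralClosure O K)) (le_of_eq (hcomap P hP).symm)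
  have hιinj : ∀ P hP, Function.Injective (ι P hP) := fun P hP =>
    Ideal.quotientMap_injective' (le_of_eq (hcomap P hP))
  let poly : ∀ P : Ideal ↥(integralClosure O K), Polynomial (↥(integralClosure O K) ⧸ P) := fun P =>
    ∑ i : Fin s, Polynomial.C (Ideal.Quotient.mk P (u i)) * Polynomial.X ^ (i : ℕ)
  have hpoly : ∀ P : Ideal ↥(integralClosure O K), P.IsMaximal → poly P ≠ 0 := by
    intro P hP h0
    have hex : ∃ i, u i ∉ P := by
      by_contra hall
      push_neg at hall
      have : (1 : ↥(integralClosure O K)) ∈ P := by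
        rw [← hc]
        exact P.sum_mem (fun i _ => P.mul_mem_left _ (hall i))
      exact hP.ne_top ((Ideal.eq_top_iff_one P).mpr this)
    obtain ⟨i, hi⟩ := hex
    have h1 : (poly P).coeff (i : ℕ) = Ideal.Quotient.mk P (u i) := by
      simp only [poly, Polynomial.finset_sum_coeff, Polynomial.coeff_C_mul_X_pow]
      rw [Finset.sum_eq_single i]
      · simp
      · intro j _ hji
        rw [if_neg]
        intro h
        exact hji (Fin.ext h.symm)
      · simp
    rw [h0, Polynomial.coeff_zero] at h1
    exact hi (Ideal.Quotient.eq_zero_iff_mem.mp h1.symm)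
  let B : Ideal ↥(integralClosure O K) → Set (O ⧸ maximalIdeal O) := fun P =>
    {t | ∃ hP : P.IsMaximal, Polynomial.IsRoot (poly P) (ι P hP t)}
  have hBfin : ∀ P ∈ {P : Ideal ↥(integralClosure O K) | P.IsMaximal}, (B P).Finite := by
    intro P hP
    haveI : P.IsMaximal := hP
    haveI : IsDomain (↥(integralClosure O K) ⧸ P) := Ideal.Quotient.isDomain P
    have h1 : {a | Polynomial.IsRoot (poly P) a}.Finite :=
      Polynomial.finite_setOf_isRoot (hpoly P hP)
    refine (h1.preimage (Set.injOn_of_injective (hιinj P hP))).subset ?_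
    rintro t ⟨_, ht⟩
    exact ht
  have hUfin : (⋃ P ∈ {P : Ideal ↥(integralClosure O K) | P.IsMaximal}, B P).Finite :=
    hmaxfin.biUnion hBfin
  obtain ⟨tbar, htbar⟩ := hUfin.exists_notMem
  obtain ⟨t, rfl⟩ := Ideal.Quotient.mk_surjective tbar
  -- the element
  let w : ↥(integralClosure O K) :=
    ∑ i : Fin s, algebraMap O ↥(integralClosure O K) t ^ (i : ℕ) * u i
  let x : O := ∑ i : Fin s, t ^ (i : ℕ) * y i
  have hxm : x ∈ maximalIdeal O := Ideal.sum_mem _ (fun i _ => Ideal.mul_mem_left _ _ (hym i))
  have hxw : algebraMap O ↥(integralClosure O K) x = w * π := by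
    simp only [x, w, map_sum, map_mul, map_pow, Finset.sum_mul]
    refine Finset.sum_congr rfl (fun i _ => ?_)
    rw [mul_assoc, hu i]
  have hwu : IsUnit w := by
    by_contra hnu
    obtain ⟨P, hP, hwP⟩ := exists_max_ideal_of_mem_nonunits hnu
    apply htbar
    simp only [Set.mem_iUnion, Set.mem_setOf_eq, exists_prop]
    refine ⟨P, hP, hP, ?_⟩
    have h1 : ι P hP (Ideal.Quotient.mk (maximalIdeal O) t) =
        Ideal.Quotient.mk P (algebraMap O ↥(integralClosure O K) t) := by
      simp [ι]
    rw [Polynomial.IsRoot.def, h1]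
    simp only [poly, Polynomial.eval_finset_sum, Polynomial.eval_mul, Polynomial.eval_C,
      Polynomial.eval_pow, Polynomial.eval_X]
    have h2 : Ideal.Quotient.mk P w = 0 := Ideal.Quotient.eq_zero_iff_mem.mpr hwP
    rw [← h2]
    simp only [w, map_sum, map_mul, map_pow]
    exact Finset.sum_congr rfl (fun i _ => mul_comm _ _)
  refine ⟨x, hxm, ?_, ?_⟩
  · intro hx0
    rw [hx0, map_zero] at hxw
    exact (mul_ne_zero hwu.ne_zero hπ0) hxw.symm
  · rw [Ideal.smul_top_eq_map (maximalIdeal O), hπ]
    ext v
    rw [Groth.Agent.H56.LengthHerbrand.mem_span_singleton_smul_top,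
      Submodule.restrictScalars_mem, Ideal.mem_span_singleton']
    constructor
    · rintro ⟨v', rfl⟩
      refine ⟨w * v', ?_⟩
      rw [Algebra.smul_def, hxw]
      ring
    · rintro ⟨a, rfl⟩
      obtain ⟨w', hw'⟩ := hwu.exists_right_inv
      refine ⟨a * w', ?_⟩
      rw [Algebra.smul_def, hxw]
      calc w * π * (a * w') = a * π * (w * w') := by ring
        _ = a * π := by rw [hw', mul_one]

end Normalization

section Torsion

variable {O : Type u} [CommRing O] [IsDomain O]

/-- a finitely generated module all of whose elements are torsion is killed by one element -/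
theorem exists_ne_zero_smul_eq_zero {T : Type*} [AddCommGroup T] [Module O T] [Module.Finite O T]
    (h : ∀ t : T, ∃ a : O, a ≠ 0 ∧ a • t = 0) : ∃ a : O, a ≠ 0 ∧ ∀ t : T, a • t = 0 := by
  classical
  obtain ⟨S, hS⟩ := (Module.Finite.fg_top : (⊤ : Submodule O T).FG)
  choose a ha0 ha using h
  refine ⟨∏ s ∈ S, a s, Finset.prod_ne_zero_iff.mpr (fun s _ => ha0 s), ?_⟩
  intro t
  have ht : t ∈ Submodule.span O (S : Set T) := hS ▸ Submodule.mem_top
  induction ht using Submodule.span_induction with
  | mem s hs =>
    obtain ⟨b, hb⟩ := Finset.dvd_prod_of_mem a hs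
    rw [hb, mul_comm, mul_smul, ha s, smul_zero]
  | zero => exact smul_zero _
  | add x y _ _ hx hy => rw [smul_add, hx, hy, add_zero]
  | smul r x _ hx => rw [smul_comm, hx, smul_zero]

/-- a finitely generated torsion module over a one-dimensional Noetherian domain has finite
length -/
theorem isFiniteLength_of_smul_eq_zero [IsNoetherianRing O] [Ring.KrullDimLE 1 O]
    {T : Type*} [AddCommGroup T] [Module O T] [Module.Finite O T] (a : O) (ha : a ≠ 0)
    (hT : ∀ t : T, a • t = 0) : IsFiniteLength O T := by
  classical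
  obtain ⟨m, φ, hφ⟩ := Module.Finite.exists_fin' O T
  let p : Fin m → Submodule O O := fun _ => Ideal.span {a}
  have hker : Submodule.pi Set.univ p ≤ LinearMap.ker φ := by
    intro c hc
    rw [Submodule.mem_pi] at hc
    have hc' : ∀ i, ∃ d, d * a = c i := fun i =>
      Ideal.mem_span_singleton'.mp (hc i (Set.mem_univ i))
    choose d hd using hc'
    have : c = a • d := by
      ext i
      rw [Pi.smul_apply, smul_eq_mul, mul_comm, hd i]
    rw [LinearMap.mem_ker, this, map_smul, hT]
  let ψ : ((Fin m → O) ⧸ Submodule.pi Set.univ p) →ₗ[O] T := Submodule.liftQ _ φ hker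
  have hψ : Function.Surjective ψ := by
    intro t
    obtain ⟨c, rfl⟩ := hφ t
    exact ⟨Submodule.Quotient.mk c, rfl⟩
  have h1 : IsFiniteLength O (O ⧸ Ideal.span {a}) :=
    isFiniteLength_quotient_span_singleton O (mem_nonZeroDivisors_of_ne_zero ha)
  have h2 : IsFiniteLength O (Fin m → O ⧸ Ideal.span {a}) := by
    rw [isFiniteLength_iff_isNoetherian_isArtinian] at h1 ⊢
    obtain ⟨h1n, h1a⟩ := h1
    exact ⟨inferInstance, inferInstance⟩
  have h3 : IsFiniteLength O ((Fin m → O) ⧸ Submodule.pi Set.univ p) :=
    IsFiniteLength.of_injective (f := (Submodule.quotientPi p).toLinearMap) h2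
      (Submodule.quotientPi p).injective
  exact IsFiniteLength.of_surjective h3 hψ

end Torsion

section FreeSub

open TensorProduct

variable (O : Type u) [CommRing O] [IsDomain O] (K : Type u) [Field K] [Algebra O K]
  [IsFractionRing O K] (M : Type u) [AddCommGroup M] [Module O M]

theorem mk_one_injective [NoZeroSMulDivisors O M] :
    Function.Injective (TensorProduct.mk O K M 1) := by
  haveI : IsLocalizedModule (nonZeroDivisors O) (TensorProduct.mk O K M 1) :=
    (isLocalizedModule_iff_isBaseChange (nonZeroDivisors O) K _).mpr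
      (TensorProduct.isBaseChange O M K)
  rw [← LinearMap.ker_eq_bot, eq_bot_iff]
  intro m hm
  rw [LinearMap.mem_ker] at hm
  obtain ⟨c, hc⟩ := (IsLocalizedModule.eq_zero_iff (nonZeroDivisors O) _).mp hm
  rw [Submodule.mem_bot]
  rcases smul_eq_zero.mp hc with h | h
  · exact absurd h (nonZeroDivisors.coe_ne_zero c)
  · exact h

theorem span_range_mk_one : Submodule.span K (Set.range (TensorProduct.mk O K M 1)) = ⊤ := by
  rw [eq_top_iff]
  rintro z -
  induction z using TensorProduct.induction_on with
  | zero => exact Submodule.zero_mem _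
  | tmul k m =>
    have : k ⊗ₜ[O] m = k • ((1 : K) ⊗ₜ[O] m) := by
      rw [TensorProduct.smul_tmul', smul_eq_mul, mul_one]
    rw [this]
    exact Submodule.smul_mem _ _ (Submodule.subset_span ⟨m, rfl⟩)
  | add x y hx hy => exact Submodule.add_mem _ hx hy

/-- a finitely generated torsion-free module of rank `n` contains a free submodule of rank `n`
with torsion quotient -/
theorem exists_free_submodule [Module.Finite O M] [NoZeroSMulDivisors O M] (n : ℕ)
    (hn : Module.finrank K (K ⊗[O] M) = n) :
    ∃ j : (Fin n → O) →ₗ[O] M, Function.Injective j ∧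
      ∀ m : M, ∃ a : O, a ≠ 0 ∧ a • m ∈ LinearMap.range j := by
  classical
  let ι : M →ₗ[O] K ⊗[O] M := TensorProduct.mk O K M 1
  have hιinj : Function.Injective ι := mk_one_injective O K M
  obtain ⟨b, hbsub, hbspan, hbli⟩ := exists_linearIndependent K (Set.range ι)
  have hbtop : ⊤ ≤ Submodule.span K (Set.range (Subtype.val : b → K ⊗[O] M)) := by
    rw [Subtype.range_coe, hbspan, span_range_mk_one]
  let B : Module.Basis b K (K ⊗[O] M) := Module.Basis.mk hbli hbtop
  haveI : Fintype b := FiniteDimensional.fintypeBasisIndex B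
  have hcard : Fintype.card b = n := by
    rw [← Module.finrank_eq_card_basis B, hn]
  let σ : Fin n ≃ b := (Fintype.equivFinOfCardEq hcard).symm
  have hex : ∀ i : Fin n, ∃ m : M, ι m = (σ i : K ⊗[O] M) := fun i => hbsub (σ i).2
  choose m hm using hex
  have hli : LinearIndependent K (fun i : Fin n => (σ i : K ⊗[O] M)) :=
    hbli.comp σ σ.injective
  have hspan : Submodule.span K (Set.range (fun i : Fin n => (σ i : K ⊗[O] M))) = ⊤ := by
    rw [eq_top_iff]
    refine hbtop.trans (Submodule.span_mono ?_)
    rintro _ ⟨x, rfl⟩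
    exact ⟨σ.symm x, by simp⟩
  let j : (Fin n → O) →ₗ[O] M := Fintype.linearCombination O m
  have hιj : ∀ c : Fin n → O, ι (j c) = ∑ i, algebraMap O K (c i) • (σ i : K ⊗[O] M) := by
    intro c
    simp only [j, Fintype.linearCombination_apply, map_sum, map_smul, hm]
    refine Finset.sum_congr rfl (fun i _ => ?_)
    rw [algebraMap_smul]
  refine ⟨j, ?_, ?_⟩
  · rw [← LinearMap.ker_eq_bot, eq_bot_iff]
    intro c hc
    rw [LinearMap.mem_ker] at hc
    have h1 := hιj c
    rw [hc, map_zero] at h1
    have h2 := Fintype.linearIndependent_iff.mp hli (fun i => algebraMap O K (c i)) h1.symm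
    rw [Submodule.mem_bot]
    ext i
    exact (IsFractionRing.injective O K) ((h2 i).trans (map_zero _).symm)
  · intro x
    have hx : ι x ∈ Submodule.span K (Set.range (fun i : Fin n => (σ i : K ⊗[O] M))) := by
      rw [hspan]; exact Submodule.mem_top
    obtain ⟨l, hl⟩ := (Submodule.mem_span_range_iff_exists_fun K).mp hx
    obtain ⟨d, hd⟩ := IsLocalization.exist_integer_multiples (nonZeroDivisors O)
      (Finset.univ : Finset (Fin n)) l
    have hd' : ∀ i, ∃ c : O, algebraMap O K c = (d : O) • l i := fun i => hd i (Finset.mem_univ i)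
    choose c hc using hd'
    refine ⟨d, nonZeroDivisors.coe_ne_zero d, c, ?_⟩
    apply hιinj
    rw [hιj c, map_smul, ← hl, Finset.smul_sum]
    refine Finset.sum_congr rfl (fun i _ => ?_)
    rw [hc i, smul_assoc]

end FreeSub

section Main

open Groth.Agent.H56.LengthHerbrand

variable {R : Type*} [CommRing R]

/-- `A/IA ≃ B/IB` for `A ≃ B` -/
noncomputable def quotientSmulTopEquiv (I : Ideal R) {A B : Type*} [AddCommGroup A] [Module R A]
    [AddCommGroup B] [Module R B] (e : A ≃ₗ[R] B) :
    (A ⧸ (I • ⊤ : Submodule R A)) ≃ₗ[R] (B ⧸ (I • ⊤ : Submodule R B)) :=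
  Submodule.Quotient.equiv _ _ e (by
    rw [Submodule.map_smul'', Submodule.map_top, LinearEquiv.range])

theorem length_pi_quotient (x : R) (n : ℕ) :
    Module.length R ((Fin n → R) ⧸ (Ideal.span {x} • ⊤ : Submodule R (Fin n → R))) =
      (n : ℕ∞) * Module.length R (R ⧸ (Ideal.span {x} • ⊤ : Submodule R R)) := by
  classical
  have h1 : (Ideal.span {x} • ⊤ : Submodule R (Fin n → R)) =
      Submodule.pi Set.univ (fun _ : Fin n => (Ideal.span {x} • ⊤ : Submodule R R)) := by
    ext c
    rw [mem_span_singleton_smul_top, Submodule.mem_pi]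
    constructor
    · rintro ⟨d, rfl⟩ i _
      exact (mem_span_singleton_smul_top x _).mpr ⟨d i, rfl⟩
    · intro h
      have h' : ∀ i, ∃ v : R, x • v = c i := fun i =>
        (mem_span_singleton_smul_top x _).mp (h i (Set.mem_univ i))
      choose d hd using h'
      exact ⟨d, funext hd⟩
  rw [h1, (Submodule.quotientPi _).length_eq, Module.length_pi_of_fintype]
  simp

variable {O : Type u} [CommRing O] [IsLocalRing O]

theorem spanFinrank_top_eq_length {M : Type u} [AddCommGroup M] [Module O M] [Module.Finite O M] :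
    ((⊤ : Submodule O M).spanFinrank : ℕ∞) =
      Module.length O (M ⧸ (maximalIdeal O • ⊤ : Submodule O M)) := by
  rw [IsLocalRing.spanFinrank_eq_finrank_quotient ⊤ Module.Finite.fg_top]
  haveI : Module.Finite (O ⧸ maximalIdeal O)
      (↥(⊤ : Submodule O M) ⧸ (maximalIdeal O • ⊤ : Submodule O ↥(⊤ : Submodule O M))) :=
    Module.Finite.of_restrictScalars_finite O _ _
  letI : Field (O ⧸ maximalIdeal O) := Ideal.Quotient.field _
  have h1 := Module.length_eq_finrank (O ⧸ maximalIdeal O)
    (↥(⊤ : Submodule O M) ⧸ (maximalIdeal O • ⊤ : Submodule O ↥(⊤ : Submodule O M)))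
  rw [← h1, ← Module.length_eq_of_surjective (S := O)
    (R := O ⧸ maximalIdeal O) Ideal.Quotient.mk_surjective]
  exact (quotientSmulTopEquiv (maximalIdeal O) Submodule.topEquiv).length_eq

end Main

section Final

open Groth.Agent.H56.LengthHerbrand TensorProduct

variable (O : Type u) [CommRing O] [IsDomain O] [IsNoetherianRing O] [IsLocalRing O]
  (K : Type u) [Field K] [Algebra O K] [IsFractionRing O K]

/-- a quotient `V/A` of a finite module over a one-dimensional Noetherian domain with `V/A`
torsion has finite length -/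
theorem length_quotient_ne_top [Ring.KrullDimLE 1 O] {V : Type*} [AddCommGroup V] [Module O V]
    [Module.Finite O V] (A : Submodule O V) (h : ∀ v : V, ∃ a : O, a ≠ 0 ∧ a • v ∈ A) :
    Module.length O (V ⧸ A) ≠ ⊤ := by
  have h' : ∀ t : V ⧸ A, ∃ a : O, a ≠ 0 ∧ a • t = 0 := by
    intro t
    obtain ⟨v, rfl⟩ := Submodule.mkQ_surjective _ t
    obtain ⟨a, ha, hav⟩ := h v
    refine ⟨a, ha, ?_⟩
    rw [Submodule.mkQ_apply, ← Submodule.Quotient.mk_smul, Submodule.Quotient.mk_eq_zero]
    exact hav
  obtain ⟨a, ha, hT⟩ := exists_ne_zero_smul_eq_zero h'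
  exact Module.length_ne_top_iff.mpr (isFiniteLength_of_smul_eq_zero a ha hT)

/-- `ℓ(O/xO) = ℓ(Õ/xÕ)` -/
theorem length_quotient_normalization [Ring.KrullDimLE 1 O]
    (hfin : Module.Finite O ↥(integralClosure O K)) (x : O) (hx0 : x ≠ 0) :
    Module.length O (↥(integralClosure O K) ⧸
        (Ideal.span {x} • ⊤ : Submodule O ↥(integralClosure O K))) =
      Module.length O (O ⧸ (Ideal.span {x} • ⊤ : Submodule O O)) := by
  haveI := hfin
  let ι : O →ₗ[O] ↥(integralClosure O K) := Algebra.linearMap O _
  have hι : Function.Injective ι := by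
    intro a b h
    apply IsFractionRing.injective O K
    have := congrArg (algebraMap (↥(integralClosure O K)) K) h
    simpa [ι, ← IsScalarTower.algebraMap_apply] using this
  have hxinj : Function.Injective (fun v : ↥(integralClosure O K) => x • v) := by
    intro a b h
    have h' : x • (a : K) = x • (b : K) := by
      have := congrArg (Subtype.val) h
      simpa using this
    rw [Algebra.smul_def, Algebra.smul_def] at h'
    have hne : algebraMap O K x ≠ 0 := by
      rw [Ne, map_eq_zero_iff _ (IsFractionRing.injective O K)]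
      exact hx0
    exact Subtype.ext (mul_left_cancel₀ hne h')
  have htors : ∀ v : ↥(integralClosure O K), ∃ a : O, a ≠ 0 ∧ a • v ∈ LinearMap.range ι := by
    intro v
    obtain ⟨a, b, hb, hab⟩ := IsFractionRing.div_surjective (A := O) (v : K)
    refine ⟨b, nonZeroDivisors.ne_zero hb, a, ?_⟩
    apply Subtype.ext
    have hbK : algebraMap O K b ≠ 0 := by
      rw [Ne, map_eq_zero_iff _ (IsFractionRing.injective O K)]
      exact nonZeroDivisors.ne_zero hb
    change algebraMap O K a = b • (v : K)
    rw [Algebra.smul_def, ← hab, mul_div_cancel₀ _ hbK]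
  rw [length_quotient_smul_eq x hxinj (LinearMap.range ι) (length_quotient_ne_top O _ htors)]
  exact (quotientSmulTopEquiv (Ideal.span {x}) (LinearEquiv.ofInjective ι hι)).length_eq.symm

/-- **Bound on the number of generators**: a finitely generated torsion-free module of rank `n`
over a one-dimensional Noetherian local domain with infinite residue field and finite
normalization is generated by at most `n · ℓ(Õ/𝔪Õ)` elements. -/
theorem spanFinrank_le (hdim : ringKrullDim O = 1) [Infinite (O ⧸ maximalIdeal O)]
    (hfin : Module.Finite O ↥(integralClosure O K)) (M : Type u) [AddCommGroup M] [Module O M]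
    [Module.Finite O M] [NoZeroSMulDivisors O M] (n : ℕ)
    (hn : Module.finrank K (K ⊗[O] M) = n) :
    ((⊤ : Submodule O M).spanFinrank : ℕ∞) ≤ (n : ℕ∞) *
      Module.length O (↥(integralClosure O K) ⧸
        (maximalIdeal O • ⊤ : Submodule O ↥(integralClosure O K))) := by
  haveI : Ring.KrullDimLE 1 O := Ring.krullDimLE_iff.mpr (by rw [hdim]; rfl)
  obtain ⟨x, hxm, hx0, hxÕ⟩ := exists_superficial O K hdim hfin
  obtain ⟨j, hj, hjt⟩ := exists_free_submodule O K M n hn
  have hle : (Ideal.span {x} • ⊤ : Submodule O M) ≤ maximalIdeal O • ⊤ :=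
    Submodule.smul_mono_left ((Ideal.span_singleton_le_iff_mem _).mpr hxm)
  have s1 : Module.length O (M ⧸ (maximalIdeal O • ⊤ : Submodule O M)) ≤
      Module.length O (M ⧸ (Ideal.span {x} • ⊤ : Submodule O M)) :=
    Module.length_le_of_surjective (Submodule.mapQ _ _ LinearMap.id (by simpa using hle)) (by
      intro z
      obtain ⟨v, rfl⟩ := Submodule.mkQ_surjective _ z
      exact ⟨Submodule.Quotient.mk v, by simp⟩)
  have s2 : Module.length O (M ⧸ (Ideal.span {x} • ⊤ : Submodule O M)) =
      Module.length O (↥(LinearMap.range j) ⧸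
        (Ideal.span {x} • ⊤ : Submodule O ↥(LinearMap.range j))) :=
    length_quotient_smul_eq x (smul_right_injective M hx0) (LinearMap.range j)
      (length_quotient_ne_top O _ hjt)
  have s3 : Module.length O (↥(LinearMap.range j) ⧸
        (Ideal.span {x} • ⊤ : Submodule O ↥(LinearMap.range j))) =
      Module.length O ((Fin n → O) ⧸ (Ideal.span {x} • ⊤ : Submodule O (Fin n → O))) :=
    (quotientSmulTopEquiv (Ideal.span {x}) (LinearEquiv.ofInjective j hj)).length_eq.symm
  rw [spanFinrank_top_eq_length, ← hxÕ, length_quotient_normalization O K hfin x hx0,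
    ← length_pi_quotient, ← s3, ← s2]
  exact s1

end Final

end Groth.Agent.H56.TFCurv
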