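import Mathlib.Algebra.Homology.DerivedCategory.TStructure
import Mathlib.Algebra.Homology.SingleHomology
import Mathlib.CategoryTheory.Shift.CommShift
import Mathlib.CategoryTheory.Triangulated.Functor
import Mathlib.CategoryTheory.Triangulated.TStructure.TruncLTGE

/-!
# The lemma on way-out functors (helper library of helper56)

Natural transformations of triangulated functors which are isomorphisms on a class of
objects placed in degree zero.
-/

set_option autoImplicit false
set_option linter.unusedSectionVars false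
universe w w' v v' u u'

namespace Groth.Agent.H56.WayOut

open CategoryTheory CategoryTheory.Limits Pretriangulated DerivedCategory

section General

variable {C : Type u} {D : Type u'} [Category.{v} C] [Category.{v'} D]
  [HasShift C ℤ] [HasShift D ℤ] [HasZeroObject C] [HasZeroObject D]
  [Preadditive C] [Preadditive D]
  [∀ n : ℤ, (shiftFunctor C n).Additive] [∀ n : ℤ, (shiftFunctor D n).Additive]
  [Pretriangulated C] [Pretriangulated D]
  {F G : C ⥤ D} [F.CommShift ℤ] [G.CommShift ℤ] [F.IsTriangulated] [G.IsTriangulated]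
  (η : F ⟶ G) [NatTrans.CommShift η ℤ]

lemma isIso_app_shift (X : C) (n : ℤ) (h : IsIso (η.app X)) : IsIso (η.app (X⟦n⟧)) := by
  rw [NatTrans.app_shift η n X]
  infer_instance

lemma isIso_app_of_iso {X Y : C} (e : X ≅ Y) (h : IsIso (η.app X)) : IsIso (η.app Y) := by
  have : η.app Y = F.map e.inv ≫ η.app X ≫ G.map e.hom := by
    rw [η.naturality_assoc, ← G.map_comp, e.inv_hom_id, G.map_id, Category.comp_id]
  rw [this]
  infer_instance

lemma isIso_app_of_isZero {X : C} (hX : IsZero X) : IsIso (η.app X) := by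
  have h1 : IsZero (F.obj X) := F.map_isZero hX
  have h2 : IsZero (G.obj X) := G.map_isZero hX
  exact ⟨⟨0, h1.eq_of_src _ _, h2.eq_of_src _ _⟩⟩

set_option backward.isDefEq.respectTransparency.types false in
set_option backward.defeqAttrib.useBackward true in
/-- The morphism of triangles induced by a natural transformation compatible with shifts. -/
@[simps]
def triangleHom (T : Triangle C) : F.mapTriangle.obj T ⟶ G.mapTriangle.obj T where
  hom₁ := η.app _
  hom₂ := η.app _
  hom₃ := η.app _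
  comm₁ := by simp
  comm₂ := by simp
  comm₃ := by
    dsimp
    simp only [Category.assoc, NatTrans.shift_app_comm η (1 : ℤ) T.obj₁,
      NatTrans.naturality_assoc]

set_option backward.isDefEq.respectTransparency.types false in
set_option backward.defeqAttrib.useBackward true in
lemma isIso_app_obj₂ (T : Triangle C) (hT : T ∈ distTriang C)
    (h₁ : IsIso (η.app T.obj₁)) (h₃ : IsIso (η.app T.obj₃)) : IsIso (η.app T.obj₂) :=
  isIso₂_of_isIso₁₃ (triangleHom η T) (F.map_distinguished T hT) (G.map_distinguished T hT)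
    (by dsimp; infer_instance) (by dsimp; infer_instance)

end General

section Derived

variable {A : Type u} [Category.{v} A] [Abelian A] [HasDerivedCategory.{w} A]

lemma isIso_homology_mor₁ (T : Triangle (DerivedCategory A)) (hT : T ∈ distTriang _)
    (n i : ℤ) (hi : i < n) [T.obj₃.IsGE n] :
    IsIso ((homologyFunctor A i).map T.mor₁) := by
  have h1 : Mono ((homologyFunctor A i).map T.mor₁) := by
    rw [HomologySequence.mono_homologyMap_mor₁_iff T hT (i - 1) i (by omega)]
    exact (T.obj₃.isZero_of_isGE n (i - 1) (by omega)).eq_of_src _ _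
  have h2 : Epi ((homologyFunctor A i).map T.mor₁) := by
    rw [HomologySequence.epi_homologyMap_mor₁_iff T hT i]
    exact (T.obj₃.isZero_of_isGE n i hi).eq_of_tgt _ _
  exact isIso_of_mono_of_epi _

lemma isIso_homology_mor₂ (T : Triangle (DerivedCategory A)) (hT : T ∈ distTriang _)
    (n i : ℤ) (hi : n ≤ i) [T.obj₁.IsLE (n - 1)] :
    IsIso ((homologyFunctor A i).map T.mor₂) := by
  have h1 : Mono ((homologyFunctor A i).map T.mor₂) := by
    rw [HomologySequence.mono_homologyMap_mor₂_iff T hT i]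
    exact (T.obj₁.isZero_of_isLE (n - 1) i (by omega)).eq_of_src _ _
  have h2 : Epi ((homologyFunctor A i).map T.mor₂) := by
    rw [HomologySequence.epi_homologyMap_mor₂_iff T hT i (i + 1) rfl]
    exact (T.obj₁.isZero_of_isLE (n - 1) (i + 1) (by omega)).eq_of_tgt _ _
  exact isIso_of_mono_of_epi _

/-- The truncation triangle `τ_{<n} X ⟶ X ⟶ τ_{≥n} X`. -/
lemma exists_trunc_triangle (X : DerivedCategory A) (n : ℤ) :
    ∃ (X' X'' : DerivedCategory A) (f : X' ⟶ X) (g : X ⟶ X'') (h : X'' ⟶ X'⟦(1 : ℤ)⟧),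
      Triangle.mk f g h ∈ distTriang _ ∧ X'.IsLE (n - 1) ∧ X''.IsGE n :=
  ⟨_, _, _, _, _, TStructure.t.triangleLTGE_distinguished n X,
    inferInstanceAs (TStructure.t.IsLE ((TStructure.t.triangleLTGE n).obj X).obj₁ (n - 1)),
    inferInstanceAs (TStructure.t.IsGE ((TStructure.t.triangleLTGE n).obj X).obj₃ n)⟩

/-- Homology of an object placed in a single degree. -/
noncomputable def homologySingleIso (Y : A) (n : ℤ) :
    (homologyFunctor A n).obj ((singleFunctor A n).obj Y) ≅ Y :=
  (homologyFunctorFactors A n).app ((HomologicalComplex.single A (ComplexShape.up ℤ) n).obj Y) ≪≫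
    HomologicalComplex.singleObjHomologySelfIso _ _ _

/-- An object in degree `n` is a shift of an object in degree `0`. -/
noncomputable def singleShiftIso (Y : A) (n : ℤ) :
    ((singleFunctor A 0).obj Y)⟦-n⟧ ≅ (singleFunctor A n).obj Y :=
  ((singleFunctors A).shiftIso (-n) n 0 (by omega)).app Y

lemma isGE_obj₁ (T : Triangle (DerivedCategory A)) (hT : T ∈ distTriang _) (n a : ℤ)
    [T.obj₁.IsLE (n - 1)] [T.obj₃.IsGE n] [T.obj₂.IsGE a] : T.obj₁.IsGE a := by
  rw [isGE_iff]
  intro i hi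
  by_cases hib : i < n
  · have := isIso_homology_mor₁ T hT n i hib
    exact (T.obj₂.isZero_of_isGE a i hi).of_iso (asIso ((homologyFunctor A i).map T.mor₁))
  · exact T.obj₁.isZero_of_isLE (n - 1) i (by omega)

lemma isLE_obj₃ (T : Triangle (DerivedCategory A)) (hT : T ∈ distTriang _) (n b : ℤ)
    [T.obj₁.IsLE (n - 1)] [T.obj₃.IsGE n] [T.obj₂.IsLE b] : T.obj₃.IsLE b := by
  rw [isLE_iff]
  intro i hi
  by_cases hib : n ≤ i
  · have := isIso_homology_mor₂ T hT n i hib
    exact (T.obj₂.isZero_of_isLE b i hi).of_iso (asIso ((homologyFunctor A i).map T.mor₂)).symm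
  · exact T.obj₃.isZero_of_isGE n i (by omega)

lemma prop_homology_obj₁ (P : ObjectProperty A) [P.IsClosedUnderIsomorphisms]
    (hP0 : ∀ Z : A, IsZero Z → P Z)
    (T : Triangle (DerivedCategory A)) (hT : T ∈ distTriang _) (n : ℤ)
    [T.obj₁.IsLE (n - 1)] [T.obj₃.IsGE n]
    (hX : ∀ i, P ((homologyFunctor A i).obj T.obj₂)) (i : ℤ) :
    P ((homologyFunctor A i).obj T.obj₁) := by
  by_cases hib : i < n
  · have := isIso_homology_mor₁ T hT n i hib
    exact P.prop_of_iso (asIso ((homologyFunctor A i).map T.mor₁)).symm (hX i)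
  · exact hP0 _ (T.obj₁.isZero_of_isLE (n - 1) i (by omega))

lemma prop_homology_obj₃ (P : ObjectProperty A) [P.IsClosedUnderIsomorphisms]
    (hP0 : ∀ Z : A, IsZero Z → P Z)
    (T : Triangle (DerivedCategory A)) (hT : T ∈ distTriang _) (n : ℤ)
    [T.obj₁.IsLE (n - 1)] [T.obj₃.IsGE n]
    (hX : ∀ i, P ((homologyFunctor A i).obj T.obj₂)) (i : ℤ) :
    P ((homologyFunctor A i).obj T.obj₃) := by
  by_cases hib : n ≤ i
  · have := isIso_homology_mor₂ T hT n i hib
    exact P.prop_of_iso (asIso ((homologyFunctor A i).map T.mor₂)) (hX i)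
  · exact hP0 _ (T.obj₃.isZero_of_isGE n i (by omega))

end Derived

section Theorems

variable {A : Type u} [Category.{v} A] [Abelian A] [HasDerivedCategory.{w} A]
  {B : Type u'} [Category.{v'} B] [Abelian B] [HasDerivedCategory.{w'} B]
  (P : ObjectProperty A) [P.IsClosedUnderIsomorphisms]
  {F G : DerivedCategory A ⥤ DerivedCategory B} [F.CommShift ℤ] [G.CommShift ℤ]
  [F.IsTriangulated] [G.IsTriangulated] (η : F ⟶ G) [NatTrans.CommShift η ℤ]

lemma isIso_app_of_isGE_of_isLE_same
    (hη : ∀ X : A, P X → IsIso (η.app ((singleFunctor A 0).obj X)))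
    (X : DerivedCategory A) (n : ℤ) [X.IsGE n] [X.IsLE n]
    (hX : P ((homologyFunctor A n).obj X)) : IsIso (η.app X) := by
  obtain ⟨Y, ⟨e⟩⟩ := X.exists_iso_singleFunctor_obj_of_isGE_of_isLE n
  have hY : P Y := P.prop_of_iso ((homologyFunctor A n).mapIso e ≪≫ homologySingleIso Y n) hX
  have h0 := hη Y hY
  have h1 := isIso_app_shift η _ (-n) h0
  exact isIso_app_of_iso η ((singleShiftIso Y n) ≪≫ e.symm) h1

theorem bounded (hP0 : ∀ Z : A, IsZero Z → P Z)
    (hη : ∀ X : A, P X → IsIso (η.app ((singleFunctor A 0).obj X))) :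
    ∀ (k : ℕ) (X : DerivedCategory A) (a b : ℤ), b < a + k → X.IsGE a → X.IsLE b →
      (∀ i, P ((homologyFunctor A i).obj X)) → IsIso (η.app X) := by
  intro k
  induction k with
  | zero =>
    intro X a b hab _ _ _
    exact isIso_app_of_isZero η (TStructure.t.isZero X b a (by simpa using hab))
  | succ k ih =>
    intro X a b hab hGE hLE hX
    obtain ⟨X', X'', f, g, h, hT, hX', hX''⟩ := exists_trunc_triangle X b
    have i1 : (Triangle.mk f g h).obj₁.IsLE (b - 1) := hX'
    have i3 : (Triangle.mk f g h).obj₃.IsGE b := hX''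
    have i2 : (Triangle.mk f g h).obj₂.IsGE a := hGE
    have i2' : (Triangle.mk f g h).obj₂.IsLE b := hLE
    have hX'GE : X'.IsGE a := isGE_obj₁ (Triangle.mk f g h) hT b a
    have hPX' : ∀ i, P ((homologyFunctor A i).obj X') :=
      prop_homology_obj₁ P hP0 (Triangle.mk f g h) hT b hX
    have h1 : IsIso (η.app X') :=
      ih X' a (b - 1) (by push_cast at hab; omega) hX'GE hX' hPX'
    have hX''LE : X''.IsLE b := isLE_obj₃ (Triangle.mk f g h) hT b b
    have hPX'' : P ((homologyFunctor A b).obj X'') :=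
      prop_homology_obj₃ P hP0 (Triangle.mk f g h) hT b hX b
    have h3 : IsIso (η.app X'') := isIso_app_of_isGE_of_isLE_same P η hη X'' b hPX''
    exact isIso_app_obj₂ η (Triangle.mk f g h) hT h1 h3

theorem boundedBelow (hP0 : ∀ Z : A, IsZero Z → P Z)
    (hF : ∀ n₁ : ℤ, ∃ n₂ : ℤ, ∀ Y : DerivedCategory A, Y.IsGE n₂ → (F.obj Y).IsGE n₁)
    (hG : ∀ n₁ : ℤ, ∃ n₂ : ℤ, ∀ Y : DerivedCategory A, Y.IsGE n₂ → (G.obj Y).IsGE n₁)
    (hη : ∀ X : A, P X → IsIso (η.app ((singleFunctor A 0).obj X)))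
    (X : DerivedCategory A) (a : ℤ) [hGE : X.IsGE a]
    (hX : ∀ i : ℤ, P ((homologyFunctor A i).obj X)) :
    IsIso (η.app X) := by
  rw [DerivedCategory.isIso_iff]
  intro j
  obtain ⟨nF, hnF⟩ := hF (j + 2)
  obtain ⟨nG, hnG⟩ := hG (j + 2)
  obtain ⟨X', X'', f, g, h, hT, hX', hX''⟩ := exists_trunc_triangle X (max nF nG)
  have i1 : (Triangle.mk f g h).obj₁.IsLE (max nF nG - 1) := hX'
  have i3 : (Triangle.mk f g h).obj₃.IsGE (max nF nG) := hX''
  have i2 : (Triangle.mk f g h).obj₂.IsGE a := hGE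
  have hX'GE : X'.IsGE a := isGE_obj₁ (Triangle.mk f g h) hT (max nF nG) a
  have hPX' : ∀ i, P ((homologyFunctor A i).obj X') :=
    prop_homology_obj₁ P hP0 (Triangle.mk f g h) hT (max nF nG) hX
  have h1 : IsIso (η.app X') :=
    bounded P η hP0 hη (max nF nG - a).toNat X' a (max nF nG - 1) (by omega) hX'GE hX' hPX'
  have hFX'' : (F.obj X'').IsGE (j + 2) :=
    hnF X'' (TStructure.t.isGE_of_ge X'' nF (max nF nG) (le_max_left _ _))
  have hGX'' : (G.obj X'').IsGE (j + 2) :=
    hnG X'' (TStructure.t.isGE_of_ge X'' nG (max nF nG) (le_max_right _ _))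
  have iF : (F.mapTriangle.obj (Triangle.mk f g h)).obj₃.IsGE (j + 2) := hFX''
  have iG : (G.mapTriangle.obj (Triangle.mk f g h)).obj₃.IsGE (j + 2) := hGX''
  have hFf : IsIso ((homologyFunctor B j).map (F.map f)) :=
    isIso_homology_mor₁ (F.mapTriangle.obj (Triangle.mk f g h))
      (F.map_distinguished _ hT) (j + 2) j (by omega)
  have hGf : IsIso ((homologyFunctor B j).map (G.map f)) :=
    isIso_homology_mor₁ (G.mapTriangle.obj (Triangle.mk f g h))
      (G.map_distinguished _ hT) (j + 2) j (by omega)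
  have nat : (homologyFunctor B j).map (F.map f) ≫ (homologyFunctor B j).map (η.app X) =
      (homologyFunctor B j).map (η.app X') ≫ (homologyFunctor B j).map (G.map f) := by
    rw [← Functor.map_comp, ← Functor.map_comp, η.naturality]
  have : (homologyFunctor B j).map (η.app X) = inv ((homologyFunctor B j).map (F.map f)) ≫
      (homologyFunctor B j).map (η.app X') ≫ (homologyFunctor B j).map (G.map f) := by
    rw [IsIso.eq_inv_comp, nat]
  rw [this]
  infer_instance

theorem boundedAbove (hP0 : ∀ Z : A, IsZero Z → P Z)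
    (hF : ∀ n₁ : ℤ, ∃ n₂ : ℤ, ∀ Y : DerivedCategory A, Y.IsLE n₂ → (F.obj Y).IsLE n₁)
    (hG : ∀ n₁ : ℤ, ∃ n₂ : ℤ, ∀ Y : DerivedCategory A, Y.IsLE n₂ → (G.obj Y).IsLE n₁)
    (hη : ∀ X : A, P X → IsIso (η.app ((singleFunctor A 0).obj X)))
    (X : DerivedCategory A) (b : ℤ) [hLE : X.IsLE b]
    (hX : ∀ i : ℤ, P ((homologyFunctor A i).obj X)) :
    IsIso (η.app X) := by
  rw [DerivedCategory.isIso_iff]
  intro j
  obtain ⟨nF, hnF⟩ := hF (j - 2)
  obtain ⟨nG, hnG⟩ := hG (j - 2)
  obtain ⟨X', X'', f, g, h, hT, hX', hX''⟩ := exists_trunc_triangle X (min nF nG + 1)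
  have i1 : (Triangle.mk f g h).obj₁.IsLE (min nF nG + 1 - 1) := hX'
  have i3 : (Triangle.mk f g h).obj₃.IsGE (min nF nG + 1) := hX''
  have i2 : (Triangle.mk f g h).obj₂.IsLE b := hLE
  have hX''LE : X''.IsLE b := isLE_obj₃ (Triangle.mk f g h) hT (min nF nG + 1) b
  have hPX'' : ∀ i, P ((homologyFunctor A i).obj X'') :=
    prop_homology_obj₃ P hP0 (Triangle.mk f g h) hT (min nF nG + 1) hX
  have h3 : IsIso (η.app X'') :=
    bounded P η hP0 hη (b - min nF nG).toNat X'' (min nF nG + 1) b (by omega) hX'' hX''LE hPX''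
  have hFX' : (F.obj X').IsLE (j - 1 - 1) := by
    have : (F.obj X').IsLE (j - 2) :=
      hnF X' (TStructure.t.isLE_of_le X' (min nF nG + 1 - 1) nF
        (by have := min_le_left nF nG; omega))
    exact TStructure.t.isLE_of_le _ (j - 2) (j - 1 - 1) (by omega)
  have hGX' : (G.obj X').IsLE (j - 1 - 1) := by
    have : (G.obj X').IsLE (j - 2) :=
      hnG X' (TStructure.t.isLE_of_le X' (min nF nG + 1 - 1) nG
        (by have := min_le_right nF nG; omega))
    exact TStructure.t.isLE_of_le _ (j - 2) (j - 1 - 1) (by omega)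
  have iF : (F.mapTriangle.obj (Triangle.mk f g h)).obj₁.IsLE (j - 1 - 1) := hFX'
  have iG : (G.mapTriangle.obj (Triangle.mk f g h)).obj₁.IsLE (j - 1 - 1) := hGX'
  have hFg : IsIso ((homologyFunctor B j).map (F.map g)) :=
    isIso_homology_mor₂ (F.mapTriangle.obj (Triangle.mk f g h))
      (F.map_distinguished _ hT) (j - 1) j (by omega)
  have hGg : IsIso ((homologyFunctor B j).map (G.map g)) :=
    isIso_homology_mor₂ (G.mapTriangle.obj (Triangle.mk f g h))
      (G.map_distinguished _ hT) (j - 1) j (by omega)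
  have nat : (homologyFunctor B j).map (F.map g) ≫ (homologyFunctor B j).map (η.app X'') =
      (homologyFunctor B j).map (η.app X) ≫ (homologyFunctor B j).map (G.map g) := by
    rw [← Functor.map_comp, ← Functor.map_comp, η.naturality]
  have : (homologyFunctor B j).map (η.app X) = ((homologyFunctor B j).map (F.map g) ≫
      (homologyFunctor B j).map (η.app X'')) ≫ inv ((homologyFunctor B j).map (G.map g)) := by
    rw [IsIso.eq_comp_inv, nat]
  rw [this]
  infer_instance

theorem unbounded (hP0 : ∀ Z : A, IsZero Z → P Z)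
    (hF : ∀ n₁ : ℤ, ∃ n₂ : ℤ, ∀ Y : DerivedCategory A, Y.IsGE n₂ → (F.obj Y).IsGE n₁)
    (hF' : ∀ n₁ : ℤ, ∃ n₂ : ℤ, ∀ Y : DerivedCategory A, Y.IsLE n₂ → (F.obj Y).IsLE n₁)
    (hG : ∀ n₁ : ℤ, ∃ n₂ : ℤ, ∀ Y : DerivedCategory A, Y.IsGE n₂ → (G.obj Y).IsGE n₁)
    (hG' : ∀ n₁ : ℤ, ∃ n₂ : ℤ, ∀ Y : DerivedCategory A, Y.IsLE n₂ → (G.obj Y).IsLE n₁)
    (hη : ∀ X : A, P X → IsIso (η.app ((singleFunctor A 0).obj X)))
    (X : DerivedCategory A)
    (hX : ∀ i : ℤ, P ((homologyFunctor A i).obj X)) :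
    IsIso (η.app X) := by
  obtain ⟨X', X'', f, g, h, hT, hX', hX''⟩ := exists_trunc_triangle X 0
  have i1 : (Triangle.mk f g h).obj₁.IsLE (0 - 1) := hX'
  have i3 : (Triangle.mk f g h).obj₃.IsGE 0 := hX''
  have hPX' : ∀ i, P ((homologyFunctor A i).obj X') :=
    prop_homology_obj₁ P hP0 (Triangle.mk f g h) hT 0 hX
  have hPX'' : ∀ i, P ((homologyFunctor A i).obj X'') :=
    prop_homology_obj₃ P hP0 (Triangle.mk f g h) hT 0 hX
  have h1 : IsIso (η.app X') := boundedAbove P η hP0 hF' hG' hη X' (0 - 1) hPX'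
  have h3 : IsIso (η.app X'') := boundedBelow P η hP0 hF hG hη X'' 0 hPX''
  exact isIso_app_obj₂ η (Triangle.mk f g h) hT h1 h3

end Theorems

end Groth.Agent.H56.WayOut
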