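import Groth.Agent.H56.WayOut
import Mathlib.Algebra.Homology.DerivedCategory.SingleTriangle
import Mathlib.CategoryTheory.Abelian.Refinements

/-!
# Way-out functors: reduction to a cogenerating class (helper library of helper56)
-/

set_option autoImplicit false
set_option linter.unusedSectionVars false
universe w w' v v' u u'

namespace Groth.Agent.H56.WayOut

open CategoryTheory CategoryTheory.Limits Category Preadditive Pretriangulated DerivedCategory

section Four

variable {𝒜 : Type*} [Category 𝒜] [Abelian 𝒜]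
  {A₁ B₁ C₁ D₁ A₂ B₂ C₂ D₂ : 𝒜}
  (f₁ : A₁ ⟶ B₁) (g₁ : B₁ ⟶ C₁) (h₁ : C₁ ⟶ D₁)
  (f₂ : A₂ ⟶ B₂) (g₂ : B₂ ⟶ C₂) (h₂ : C₂ ⟶ D₂)
  (α : A₁ ⟶ A₂) (β : B₁ ⟶ B₂) (γ : C₁ ⟶ C₂) (δ : D₁ ⟶ D₂)

lemma mono_of_four
    (c₁ : f₁ ≫ β = α ≫ f₂) (c₂ : g₁ ≫ γ = β ≫ g₂) (c₃ : h₁ ≫ δ = γ ≫ h₂)
    (w₁ : f₁ ≫ g₁ = 0) (w₁' : g₁ ≫ h₁ = 0) (w₂ : f₂ ≫ g₂ = 0)
    (e₁ : (ShortComplex.mk g₁ h₁ w₁').Exact) (e₂ : (ShortComplex.mk f₂ g₂ w₂).Exact)
    (hα : Epi α) (hβ : Mono β) (hδ : Mono δ) : Mono γ := by
  apply Preadditive.mono_of_cancel_zero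
  intro T x hx
  have hx2 : x ≫ h₁ = 0 := by
    rw [← cancel_mono δ, assoc, c₃, reassoc_of% hx, zero_comp, zero_comp]
  obtain ⟨T₁, π₁, _, y, hy⟩ := e₁.exact_up_to_refinements x hx2
  dsimp at y hy
  have hy2 : (y ≫ β) ≫ g₂ = 0 := by
    rw [assoc, ← c₂, ← reassoc_of% hy, hx, comp_zero]
  obtain ⟨T₂, π₂, _, z, hz⟩ := e₂.exact_up_to_refinements _ hy2
  dsimp at z hz
  obtain ⟨T₃, π₃, _, u, hu⟩ := surjective_up_to_refinements_of_epi α z
  have h4 : u ≫ f₁ = π₃ ≫ π₂ ≫ y := by
    rw [← cancel_mono β, assoc, assoc, assoc, c₁, ← reassoc_of% hu, hz]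
  rw [← cancel_epi π₁, comp_zero, hy, ← cancel_epi π₂, ← cancel_epi π₃, comp_zero, comp_zero,
    ← reassoc_of% h4, w₁, comp_zero]

lemma epi_of_four
    (c₁ : f₁ ≫ β = α ≫ f₂) (c₂ : g₁ ≫ γ = β ≫ g₂) (c₃ : h₁ ≫ δ = γ ≫ h₂)
    (w₁' : g₁ ≫ h₁ = 0) (w₂ : f₂ ≫ g₂ = 0) (w₂' : g₂ ≫ h₂ = 0)
    (e₁ : (ShortComplex.mk g₁ h₁ w₁').Exact) (e₂ : (ShortComplex.mk f₂ g₂ w₂).Exact)
    (hα : Epi α) (hγ : Epi γ) (hδ : Mono δ) : Epi β := by
  rw [epi_iff_surjective_up_to_refinements]
  intro T y
  obtain ⟨T₁, π₁, _, x, hx⟩ := surjective_up_to_refinements_of_epi γ (y ≫ g₂)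
  have h2 : x ≫ h₁ = 0 := by
    rw [← cancel_mono δ, assoc, zero_comp, c₃, ← reassoc_of% hx, w₂', comp_zero, comp_zero]
  obtain ⟨T₂, π₂, _, z, hz⟩ := e₁.exact_up_to_refinements _ h2
  dsimp at z hz
  have h4 : (π₂ ≫ π₁ ≫ y - z ≫ β) ≫ g₂ = 0 := by
    rw [sub_comp, assoc, assoc, assoc, ← c₂, ← reassoc_of% hz, hx, sub_self]
  obtain ⟨T₃, π₃, _, u, hu⟩ := e₂.exact_up_to_refinements _ h4
  dsimp at u hu
  rw [comp_sub] at hu
  obtain ⟨T₄, π₄, _, v, hv⟩ := surjective_up_to_refinements_of_epi α u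
  refine ⟨T₄, π₄ ≫ π₃ ≫ π₂ ≫ π₁, inferInstance, π₄ ≫ π₃ ≫ z + v ≫ f₁, ?_⟩
  rw [assoc, assoc, assoc, add_comp, assoc, assoc, assoc, c₁, ← reassoc_of% hv, ← hu, comp_sub]
  rw [add_sub_cancel]

end Four

section Single

variable {A : Type u} [Category.{v} A] [Abelian A] [HasDerivedCategory.{w} A]
  {B : Type u'} [Category.{v'} B] [Abelian B] [HasDerivedCategory.{w'} B]
  {F G : DerivedCategory A ⥤ DerivedCategory B} [F.CommShift ℤ] [G.CommShift ℤ]
  [F.IsTriangulated] [G.IsTriangulated] (η : F ⟶ G) [NatTrans.CommShift η ℤ]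

lemma exists_uniform_isGE
    (hF : ∀ n₁ : ℤ, ∃ n₂ : ℤ, ∀ Y : DerivedCategory A, Y.IsGE n₂ → (F.obj Y).IsGE n₁) :
    ∃ N : ℤ, ∀ X : A, (F.obj ((singleFunctor A 0).obj X)).IsGE N := by
  obtain ⟨n₂, h⟩ := hF 0
  refine ⟨-n₂, fun X => ?_⟩
  have h1 : (((singleFunctor A 0).obj X)⟦-n₂⟧).IsGE n₂ :=
    TStructure.t.isGE_shift _ 0 (-n₂) n₂ (by omega)
  have h2 : TStructure.t.IsGE ((shiftFunctor (DerivedCategory A) (-n₂) ⋙ F).obj
      ((singleFunctor A 0).obj X)) 0 := h _ h1
  have h3 : ((F.obj ((singleFunctor A 0).obj X))⟦-n₂⟧).IsGE 0 :=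
    TStructure.t.isGE_of_iso ((F.commShiftIso (-n₂)).app _) 0
  exact TStructure.t.isGE_of_shift _ (-n₂) (-n₂) 0 (by omega)

set_option backward.isDefEq.respectTransparency.types false in
set_option backward.defeqAttrib.useBackward true in
/-- One step of dimension shifting: the mono part. -/
lemma mono_step (j : ℤ) {X I : A} (i : X ⟶ I) [Mono i]
    (hI : IsIso (η.app ((singleFunctor A 0).obj I)))
    (hQ : Mono ((homologyFunctor B (j - 1)).map
      (η.app ((singleFunctor A 0).obj (cokernel i))))) :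
    Mono ((homologyFunctor B j).map (η.app ((singleFunctor A 0).obj X))) := by
  have hS : (ShortComplex.mk i (cokernel.π i) (cokernel.condition i)).ShortExact :=
    { exact := ShortComplex.exact_cokernel i }
  have hT := hS.singleTriangle_distinguished
  have hFT := F.map_distinguished _ hT
  have hGT := G.map_distinguished _ hT
  have hj : j - 1 + 1 = j := by omega
  exact mono_of_four
    ((homologyFunctor B (j - 1)).map (F.mapTriangle.obj hS.singleTriangle).mor₂)
    (HomologySequence.δ (F.mapTriangle.obj hS.singleTriangle) (j - 1) j hj)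
    ((homologyFunctor B j).map (F.mapTriangle.obj hS.singleTriangle).mor₁)
    ((homologyFunctor B (j - 1)).map (G.mapTriangle.obj hS.singleTriangle).mor₂)
    (HomologySequence.δ (G.mapTriangle.obj hS.singleTriangle) (j - 1) j hj)
    ((homologyFunctor B j).map (G.mapTriangle.obj hS.singleTriangle).mor₁)
    ((homologyFunctor B (j - 1)).map (triangleHom η hS.singleTriangle).hom₂)
    ((homologyFunctor B (j - 1)).map (triangleHom η hS.singleTriangle).hom₃)
    ((homologyFunctor B j).map (triangleHom η hS.singleTriangle).hom₁)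
    ((homologyFunctor B j).map (triangleHom η hS.singleTriangle).hom₂)
    (by rw [← Functor.map_comp, ← Functor.map_comp, (triangleHom η hS.singleTriangle).comm₂])
    ((Functor.homologySequenceδ_naturality (homologyFunctor B 0) _ _
      (triangleHom η hS.singleTriangle) (j - 1) j hj).symm)
    (by rw [← Functor.map_comp, ← Functor.map_comp, (triangleHom η hS.singleTriangle).comm₁])
    (HomologySequence.comp_δ _ hFT (j - 1) j hj)
    (HomologySequence.δ_comp _ hFT (j - 1) j hj)
    (HomologySequence.comp_δ _ hGT (j - 1) j hj)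
    (HomologySequence.exact₁ _ hFT (j - 1) j hj)
    (HomologySequence.exact₃ _ hGT (j - 1) j hj)
    (by dsimp [ShortComplex.ShortExact.singleTriangle]; infer_instance)
    hQ
    (by dsimp [ShortComplex.ShortExact.singleTriangle]; infer_instance)

set_option backward.isDefEq.respectTransparency.types false in
set_option backward.defeqAttrib.useBackward true in
/-- One step of dimension shifting: the epi part. -/
lemma epi_step (j : ℤ) {X I : A} (i : X ⟶ I) [Mono i]
    (hI : IsIso (η.app ((singleFunctor A 0).obj I)))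
    (hQ : Epi ((homologyFunctor B (j - 1)).map
      (η.app ((singleFunctor A 0).obj (cokernel i)))))
    (hQ' : Mono ((homologyFunctor B j).map
      (η.app ((singleFunctor A 0).obj (cokernel i))))) :
    Epi ((homologyFunctor B j).map (η.app ((singleFunctor A 0).obj X))) := by
  have hS : (ShortComplex.mk i (cokernel.π i) (cokernel.condition i)).ShortExact :=
    { exact := ShortComplex.exact_cokernel i }
  have hT := hS.singleTriangle_distinguished
  have hFT := F.map_distinguished _ hT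
  have hGT := G.map_distinguished _ hT
  have hj : j - 1 + 1 = j := by omega
  exact epi_of_four
    (HomologySequence.δ (F.mapTriangle.obj hS.singleTriangle) (j - 1) j hj)
    ((homologyFunctor B j).map (F.mapTriangle.obj hS.singleTriangle).mor₁)
    ((homologyFunctor B j).map (F.mapTriangle.obj hS.singleTriangle).mor₂)
    (HomologySequence.δ (G.mapTriangle.obj hS.singleTriangle) (j - 1) j hj)
    ((homologyFunctor B j).map (G.mapTriangle.obj hS.singleTriangle).mor₁)
    ((homologyFunctor B j).map (G.mapTriangle.obj hS.singleTriangle).mor₂)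
    ((homologyFunctor B (j - 1)).map (triangleHom η hS.singleTriangle).hom₃)
    ((homologyFunctor B j).map (triangleHom η hS.singleTriangle).hom₁)
    ((homologyFunctor B j).map (triangleHom η hS.singleTriangle).hom₂)
    ((homologyFunctor B j).map (triangleHom η hS.singleTriangle).hom₃)
    ((Functor.homologySequenceδ_naturality (homologyFunctor B 0) _ _
      (triangleHom η hS.singleTriangle) (j - 1) j hj).symm)
    (by rw [← Functor.map_comp, ← Functor.map_comp, (triangleHom η hS.singleTriangle).comm₁])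
    (by rw [← Functor.map_comp, ← Functor.map_comp, (triangleHom η hS.singleTriangle).comm₂])
    (by rw [← Functor.map_comp, comp_distTriang_mor_zero₁₂ _ hFT, Functor.map_zero])
    (HomologySequence.δ_comp _ hGT (j - 1) j hj)
    (by rw [← Functor.map_comp, comp_distTriang_mor_zero₁₂ _ hGT, Functor.map_zero])
    (HomologySequence.exact₂ _ hFT j)
    (HomologySequence.exact₁ _ hGT (j - 1) j hj)
    hQ
    (by dsimp [ShortComplex.ShortExact.singleTriangle]; infer_instance)
    hQ'

theorem single (P : ObjectProperty A) (hP : ∀ X : A, ∃ (Y : A) (i : X ⟶ Y), P Y ∧ Mono i)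
    (hF : ∀ n₁ : ℤ, ∃ n₂ : ℤ, ∀ Y : DerivedCategory A, Y.IsGE n₂ → (F.obj Y).IsGE n₁)
    (hG : ∀ n₁ : ℤ, ∃ n₂ : ℤ, ∀ Y : DerivedCategory A, Y.IsGE n₂ → (G.obj Y).IsGE n₁)
    (hη : ∀ X : A, P X → IsIso (η.app ((singleFunctor A 0).obj X)))
    (X : A) :
    IsIso (η.app ((singleFunctor A 0).obj X)) := by
  obtain ⟨NF, hNF⟩ := exists_uniform_isGE hF
  obtain ⟨NG, hNG⟩ := exists_uniform_isGE hG
  have key : ∀ (k : ℕ) (j : ℤ), j < min NF NG + k → ∀ X : A,
      IsIso ((homologyFunctor B j).map (η.app ((singleFunctor A 0).obj X))) := by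
    intro k
    induction k with
    | zero =>
      intro j hj X
      have := hNF X
      have := hNG X
      have h1 : IsZero ((homologyFunctor B j).obj (F.obj ((singleFunctor A 0).obj X))) :=
        (F.obj _).isZero_of_isGE NF j (by have := min_le_left NF NG; simp at hj; omega)
      have h2 : IsZero ((homologyFunctor B j).obj (G.obj ((singleFunctor A 0).obj X))) :=
        (G.obj _).isZero_of_isGE NG j (by have := min_le_right NF NG; simp at hj; omega)
      exact ⟨⟨0, h1.eq_of_src _ _, h2.eq_of_src _ _⟩⟩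
    | succ k ih =>
      intro j hj
      have ih' := ih (j - 1) (by push_cast at hj; omega)
      have hmono : ∀ X : A,
          Mono ((homologyFunctor B j).map (η.app ((singleFunctor A 0).obj X))) := by
        intro X
        obtain ⟨I, i, hI, hi⟩ := hP X
        have := ih' (cokernel i)
        exact mono_step η j i (hη I hI) inferInstance
      intro X
      obtain ⟨I, i, hI, hi⟩ := hP X
      have := ih' (cokernel i)
      have := hmono X
      have := epi_step η j i (hη I hI) inferInstance (hmono (cokernel i))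
      exact isIso_of_mono_of_epi _
  rw [DerivedCategory.isIso_iff]
  intro j
  exact key (j - min NF NG + 1).toNat j (by omega) X

end Single

end Groth.Agent.H56.WayOut
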